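import Cfsg.Agent.Lib.Classical.Bloom.Rank
import Cfsg.Agent.Lib.Block.MinimalPower
import Cfsg.Agent.Lib.Invol.SmallCent.Sylow
import Cfsg.Agent.Lib.Grp.Basic
import Cfsg.Agent.Lib.OddUse.Basic
import Cfsg.Agent.S0205

/-!
A subgroup of `PSL(3, F)` without abelian normal subgroups: the socle is simple, and the preimage is irreducible.
-/

set_option autoImplicit false

namespace Cfsg.Agent.Classical.Bloom

open Matrix

variable {F : Type*} [Field F]

local notation "SL₃" => Matrix.SpecialLinearGroup (Fin 3) F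
local notation "PSL₃" => Matrix.ProjectiveSpecialLinearGroup (Fin 3) F
local notation "M₃" => Matrix (Fin 3) (Fin 3) F
local notation "M₂" => Matrix (Fin 2) (Fin 2) F

variable {H : Subgroup (Matrix.ProjectiveSpecialLinearGroup (Fin 3) F)}

/-- No abelian normal subgroup. -/
def NoAb (H : Subgroup PSL₃) : Prop := ∀ N : Subgroup H, N.Normal → IsMulCommutative N → N = ⊥

theorem noAb_of [Finite F]
    (hN : ∀ N : Subgroup ↥H, N.Normal → IsMulCommutative ↥N → (∃ r : ℕ, r.Prime ∧ ∀ x ∈ N, x ^ r = 1) → N = ⊥) :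
    NoAb H := by
  intro N hNn hab
  by_contra hne
  have h1 : 1 < Nat.card N := (Subgroup.one_lt_card_iff_ne_bot N).mpr hne
  obtain ⟨r, hr, hrd⟩ := Nat.exists_prime_and_dvd (n := Nat.card N) (by omega)
  haveI := Fact.mk hr
  let K : Subgroup H :=
    { carrier := {x | x ∈ N ∧ x ^ r = 1}
      mul_mem' := fun {a b} ha hb => ⟨N.mul_mem ha.1 hb.1, by
        have h : Commute a b := congrArg Subtype.val (hab.is_comm.comm (⟨a, ha.1⟩ : N) ⟨b, hb.1⟩)
        rw [h.mul_pow, ha.2, hb.2, one_mul]⟩
      one_mem' := ⟨N.one_mem, one_pow r⟩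
      inv_mem' := fun {a} ha => ⟨N.inv_mem ha.1, by rw [inv_pow, ha.2, inv_one]⟩ }
  have hK := hN K ⟨fun x hx g => ⟨hNn.conj_mem x hx.1 g, by rw [conj_pow, hx.2, mul_one, mul_inv_cancel]⟩⟩
    ⟨⟨fun a b => Subtype.ext (show (a : H) * b = b * a from
      congrArg Subtype.val (hab.is_comm.comm (⟨a, a.2.1⟩ : N) ⟨b, b.2.1⟩))⟩⟩
    ⟨r, hr, fun x hx => hx.2⟩
  obtain ⟨a, ha⟩ := exists_prime_orderOf_dvd_card' r hrd
  have : (a : H) ∈ K := ⟨a.2, by rw [← Subgroup.coe_pow, ← ha, pow_orderOf_eq_one]; rfl⟩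
  rw [hK, Subgroup.mem_bot] at this
  rw [show a = 1 from Subtype.ext this, orderOf_one] at ha
  exact hr.ne_one ha.symm

/-- No injective image of an elementary abelian group of order more than four. -/
theorem card_le_four_of_hom [Finite F] (h2 : (2 : F) ≠ 0) {E : Type*} [Group E] (f : E →* PSL₃)
    (hf : Function.Injective f) (hc : ∀ a b : E, a * b = b * a) (hexp : ∀ a : E, a ^ 2 = 1) : Nat.card E ≤ 4 := by
  have h := rank_two h2 f.range ⟨⟨fun a b => Subtype.ext (by
    obtain ⟨x, hx⟩ := a.2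
    obtain ⟨y, hy⟩ := b.2
    rw [Subgroup.coe_mul, Subgroup.coe_mul, ← hx, ← hy, ← map_mul, ← map_mul, hc])⟩⟩ (by
    rintro _ ⟨x, rfl⟩
    rw [← map_pow, hexp, map_one])
  rwa [Nat.card_congr (MonoidHom.ofInjective hf).toEquiv.symm] at h

theorem four_props {G : Type*} [Group G] {E : Subgroup G} (hE : IsKleinFour E) :
    (∀ a b : E, a * b = b * a) ∧ (∀ a : E, a ^ 2 = 1) ∧ Nat.card E = 4 := by
  haveI := hE
  refine ⟨fun a b => mul_comm_of_exponent_two IsKleinFour.exponent_two a b, fun a => ?_, IsKleinFour.card_four⟩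
  have := Monoid.pow_exponent_eq_one a
  rwa [IsKleinFour.exponent_two] at this

/-- A minimal normal subgroup is simple with a four-group. -/
theorem minimal_simple [Finite F] (h2 : (2 : F) ≠ 0) (hab : NoAb H) {N : Subgroup H} (hNn : N.Normal)
    (hne : N ≠ ⊥) (hmin : ∀ M : Subgroup H, M.Normal → M ≤ N → M = ⊥ ∨ M = N) :
    IsSimpleGroup N ∧ ¬ IsMulCommutative N ∧ Even (Nat.card N) ∧ ∃ E : Subgroup N, IsKleinFour E := by
  classical
  haveI := hNn
  obtain ⟨T, _, m, hT, hm, ⟨e⟩⟩ := Cfsg.Agent.Block.MinimalPower.exists_simple_power N hne hmin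
  haveI := hT
  haveI : Finite (Fin m → T) := Finite.of_equiv N e.toEquiv
  let ι : T →* (Fin m → T) := MonoidHom.mulSingle (fun _ : Fin m => T) ⟨0, hm⟩
  haveI : Finite T := Finite.of_injective (fun t => ι t) (fun a b h => by simpa [ι] using congrFun h ⟨0, hm⟩)
  have hnc : ¬ IsMulCommutative T := fun h => hne (hab N hNn ⟨⟨fun a b => e.injective (by
    rw [map_mul, map_mul]
    exact funext fun i => h.is_comm.comm _ _)⟩⟩)
  have hev := Cfsg.Agent.OddUse.even_card_of_simple (fun h => Cfsg.Agent.S0205.result h) hnc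
  obtain ⟨E, hE⟩ := Cfsg.Agent.Invol.SmallCent.exists_klein (G := T) (fun h => hnc (by
    haveI := h; exact ⟨⟨fun a b => (IsCyclic.commGroup (α := T)).mul_comm a b⟩⟩)) hev
  obtain ⟨hEc, hEe, hE4⟩ := four_props hE
  have hm1 : m = 1 := by
    by_contra hm1
    let f : (Fin m → E) →* PSL₃ :=
      (H.subtype.comp N.subtype).comp (e.symm.toMonoidHom.comp (MonoidHom.compLeft E.subtype (Fin m)))
    have hinj : Function.Injective f := by
      refine (H.subtype_injective.comp N.subtype_injective).comp (e.symm.injective.comp ?_)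
      exact fun x y h => funext fun i => E.subtype_injective (congrFun h i)
    have h4 := card_le_four_of_hom h2 f hinj (fun a b => funext fun i => hEc _ _) (fun a => funext fun i => hEe _)
    rw [Nat.card_fun, hE4, Nat.card_fin] at h4
    have : 4 ^ 2 ≤ 4 ^ m := Nat.pow_le_pow_right (by norm_num) (by omega)
    omega
  subst hm1
  let e' : N ≃* T := e.trans (MulEquiv.funUnique (Fin 1) T)
  haveI : Nontrivial N := e'.toEquiv.nontrivial
  refine ⟨IsSimpleGroup.isSimpleGroup_of_surjective e'.symm.toMonoidHom e'.symm.surjective,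
    fun h => hnc ⟨⟨fun a b => e'.symm.injective (by rw [map_mul, map_mul]; exact h.is_comm.comm _ _)⟩⟩,
    by rwa [Nat.card_congr e'.toEquiv], E.map e'.symm.toMonoidHom, ?_⟩
  constructor
  · rw [Subgroup.card_map_of_injective e'.symm.injective, hE4]
  · rw [← Monoid.exponent_eq_of_mulEquiv (E.equivMapOfInjective _ e'.symm.injective)]
    exact hE.exponent_two

/-- The socle. -/
theorem exists_socle [Finite F] (h2 : (2 : F) ≠ 0) (hab : NoAb H) (hH : H ≠ ⊥) :
    ∃ M : Subgroup H, M.Normal ∧ IsSimpleGroup M ∧ ¬ IsMulCommutative M ∧ Even (Nat.card M) ∧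
      Cfsg.PRankLE 2 2 M ∧ (∃ E : Subgroup M, IsKleinFour E) ∧ ∀ x : H, (∀ m ∈ M, x * m = m * x) → x = 1 := by
  haveI : Nontrivial H := (Subgroup.nontrivial_iff_ne_bot H).2 hH
  obtain ⟨M, hMn, hMne, -, hmin⟩ := Cfsg.Agent.Grp.exists_minimal_normal_le (N := (⊤ : Subgroup H)) top_ne_bot
  haveI := hMn
  obtain ⟨hs, hnc, hev, E, hE⟩ := minimal_simple h2 hab hMn hMne hmin
  refine ⟨M, hMn, hs, hnc, hev, ?_, ⟨E, hE⟩, ?_⟩
  · intro A hA hexp
    exact card_le_four_of_hom h2 ((H.subtype.comp M.subtype).comp A.subtype)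
      ((H.subtype_injective.comp M.subtype_injective).comp A.subtype_injective) (fun a b => hA.is_comm.comm a b)
      (fun a => Subtype.ext (hexp a a.2))
  · let C := Subgroup.centralizer (M : Set H)
    haveI : C.Normal := inferInstanceAs (Subgroup.centralizer (M : Set H)).Normal
    have hC : C = ⊥ := by
      by_contra hCne
      obtain ⟨N, hNn, hNne, hNC, hNmin⟩ := Cfsg.Agent.Grp.exists_minimal_normal_le (N := C) hCne
      haveI := hNn
      obtain ⟨hs', -, -, E', hE'⟩ := minimal_simple h2 hab hNn hNne hNmin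
      obtain ⟨h1c, h1e, h14⟩ := four_props hE
      obtain ⟨h2c, h2e, h24⟩ := four_props hE'
      have hcom : ∀ (a : E) (b : E'), ((a : M) : H) * ((b : N) : H) = ((b : N) : H) * ((a : M) : H) :=
        fun a b => hNC (b : N).2 _ (a : M).2
      let f : E × E' →* PSL₃ :=
        H.subtype.comp (MonoidHom.noncommCoprod (M.subtype.comp E.subtype) (N.subtype.comp E'.subtype)
          (fun a b => hcom a b))
      have hinj : Function.Injective f := H.subtype_injective.comp ((injective_iff_map_eq_one _).2 fun x hx => by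
        replace hx : ((x.1 : M) : H) * ((x.2 : N) : H) = 1 := hx
        have hmem : ((x.1 : M) : H) ∈ M ⊓ C := ⟨(x.1 : M).2, by
          rw [eq_inv_of_mul_eq_one_left hx]; exact C.inv_mem (hNC (x.2 : N).2)⟩
        have hMC : M ⊓ C = ⊥ := by
          refine hab _ inferInstance ⟨⟨fun a b => Subtype.ext ?_⟩⟩
          exact b.2.2 _ a.2.1
        rw [hMC, Subgroup.mem_bot] at hmem
        rw [hmem, one_mul] at hx
        exact Prod.ext (Subtype.ext (Subtype.ext hmem)) (Subtype.ext (Subtype.ext hx)))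
      have := card_le_four_of_hom h2 f hinj (fun a b => Prod.ext (h1c _ _) (h2c _ _))
        (fun a => Prod.ext (h1e _) (h2e _))
      rw [Nat.card_prod, h14, h24] at this
      omega
    intro x hx
    have : x ∈ C := fun m hm => (hx m hm).symm
    rwa [hC, Subgroup.mem_bot] at this

theorem two_invol_neg (h2 : (2 : F) ≠ 0) {a : M₂} (ha : a * a = 1) (hne : a ≠ 1) (hneg : a ≠ -1) :
    a.det = -1 := by
  have hd : a.det * a.det = 1 := by rw [← det_mul, ha, det_one]
  refine (mul_self_eq_one_iff.1 hd).resolve_left fun hd1 => ?_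
  have ht : a.trace • a = (2 : F) • (1 : M₂) := by
    have := Matrix.aeval_self_charpoly a
    rw [Matrix.charpoly_fin_two, hd1] at this
    simp only [map_add, map_sub, map_mul, map_pow, Polynomial.aeval_X, Polynomial.aeval_C, map_one,
      Algebra.algebraMap_eq_smul_one, smul_mul_assoc, one_mul, pow_two, ha] at this
    rw [two_smul]
    linear_combination (norm := abel) (-1 : ℤ) • this
  have htr : a.trace ≠ 0 := fun e => by
    rw [e, zero_smul] at ht
    exact h2 (by simpa using (congrFun (congrFun ht 0) 0).symm)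
  have hsc : a = (2 / a.trace) • 1 := by
    rw [div_eq_inv_mul, ← smul_smul, ← ht, smul_smul, inv_mul_cancel₀ htr, one_smul]
  rw [hsc, smul_mul_smul_comm, mul_one] at ha
  have h := congrFun (congrFun ha 0) 0
  simp only [Matrix.smul_apply, one_apply_eq, smul_eq_mul, mul_one] at h
  rcases mul_self_eq_one_iff.1 h with h | h
  · exact hne (by rw [hsc, h, one_smul])
  · exact hneg (by rw [hsc, h, neg_one_smul])

/-- No automorph of the preimage fixes the first coordinate line. -/
theorem no_fixed_column [Finite F] (h2 : (2 : F) ≠ 0) (hab : NoAb H) {E : Subgroup H} (hE : IsKleinFour E)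
    (τ : SL₃ ≃* SL₃) : ∃ g ∈ H.comap pr, (τ g : M₃) 1 0 ≠ 0 ∨ (τ g : M₃) 2 0 ≠ 0 := by
  classical
  by_contra! hfix
  let Γ := H.comap (pr (F := F))
  let π : Γ →* H := ((pr (F := F)).comp Γ.subtype).codRestrict H fun g => g.2
  have hπ : Function.Surjective π := fun x => by
    obtain ⟨g, hg⟩ := pr_surjective (x : PSL₃)
    exact ⟨⟨g, show pr g ∈ H from hg ▸ x.2⟩, Subtype.ext hg⟩
  let blk : Γ →* M₂ :=
    { toFun := fun g => Matrix.of fun i j => (τ g : M₃) i.succ j.succ
      map_one' := by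
        ext i j
        simp only [OneMemClass.coe_one, map_one, Matrix.SpecialLinearGroup.coe_one, Matrix.of_apply, one_apply]
        simp [Fin.succ_inj]
      map_mul' := fun g h => by
        ext i j
        obtain ⟨h1, h2'⟩ := hfix g g.2
        simp only [Subgroup.coe_mul, map_mul, Matrix.SpecialLinearGroup.coe_mul, Matrix.mul_apply, Matrix.of_apply,
          Fin.sum_univ_three, Fin.sum_univ_two]
        fin_cases i <;> simp [h1, h2'] }
  have hker : ∀ g : Γ, blk g = 1 → (τ g : M₃) 1 0 = 0 ∧ (τ g : M₃) 2 0 = 0 ∧ (τ g : M₃) 0 0 = 1 ∧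
      (τ g : M₃) 1 1 = 1 ∧ (τ g : M₃) 1 2 = 0 ∧ (τ g : M₃) 2 1 = 0 ∧ (τ g : M₃) 2 2 = 1 := fun g e => by
    obtain ⟨a10, a20⟩ := hfix g g.2
    have e00 := congrFun (congrFun e 0) 0
    have e01 := congrFun (congrFun e 0) 1
    have e10 := congrFun (congrFun e 1) 0
    have e11 := congrFun (congrFun e 1) 1
    simp [blk] at e00 e01 e10 e11
    refine ⟨a10, a20, ?_, e00, e01, e10, e11⟩
    have h := (τ g).2
    rw [det_fin_three, a10, a20, e00, e01, e10, e11] at h
    linear_combination h
  let N : Subgroup Γ :=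
    { carrier := {g | blk g = 1}
      one_mem' := map_one blk
      mul_mem' := fun {a b} (ha : blk a = 1) (hb : blk b = 1) =>
        show blk (a * b) = 1 by rw [map_mul, ha, hb, one_mul]
      inv_mem' := fun {a} (ha : blk a = 1) => show blk a⁻¹ = 1 by
        calc blk a⁻¹ = blk a⁻¹ * blk a := by rw [ha, mul_one]
          _ = 1 := by rw [← map_mul, inv_mul_cancel, map_one] }
  have hNn : N.Normal := ⟨fun n (hn : blk n = 1) g => show blk (g * n * g⁻¹) = 1 by
    rw [map_mul, map_mul, hn, mul_one, ← map_mul, mul_inv_cancel, map_one]⟩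
  have hform : ∀ {g : Γ}, g ∈ N → (τ g : M₃) = !![1, (τ g : M₃) 0 1, (τ g : M₃) 0 2; 0, 1, 0; 0, 0, 1] := by
    intro g hg
    obtain ⟨c1, c2, c3, c4, c5, c6, c7⟩ := hker g hg
    ext i j
    fin_cases i <;> fin_cases j <;> simp [*]
  have hNc : ∀ a ∈ N, ∀ b ∈ N, a * b = b * a := fun a ha b hb => Subtype.ext (τ.injective (Subtype.ext (by
    rw [Subgroup.coe_mul, Subgroup.coe_mul, map_mul, map_mul, Matrix.SpecialLinearGroup.coe_mul,
      Matrix.SpecialLinearGroup.coe_mul, hform ha, hform hb]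
    ext i j
    fin_cases i <;> fin_cases j <;> simp [Matrix.mul_apply, Fin.sum_univ_three] <;> ring)))
  have hN1 : N.map π = ⊥ := by
    refine hab _ (hNn.map π hπ) ⟨⟨?_⟩⟩
    rintro ⟨_, a, ha, rfl⟩ ⟨_, b, hb, rfl⟩
    exact Subtype.ext (by
      show π a * π b = π b * π a
      rw [← map_mul, ← map_mul, hNc a ha b hb])
  have hinj : ∀ g : Γ, blk g = 1 → g = 1 := by
    intro g hg
    have h1 : pr (g : SL₃) = 1 := by
      have : π g ∈ N.map π := ⟨g, hg, rfl⟩
      rw [hN1, Subgroup.mem_bot] at this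
      exact congrArg Subtype.val this
    -- a central element here is the identity
    have hz : (g : SL₃) ∈ Subgroup.center SL₃ := by rwa [← ker_pr, MonoidHom.mem_ker]
    have hz' : τ g ∈ Subgroup.center SL₃ := Subgroup.mem_center_iff.2 fun x => by
      obtain ⟨y, rfl⟩ := τ.surjective x
      rw [← map_mul, ← map_mul, Subgroup.mem_center_iff.1 hz y]
    obtain ⟨c, -, hc⟩ := mem_center_scalar.1 hz'
    obtain ⟨-, -, c3, -⟩ := hker g hg
    have hc1 : c = 1 := by rw [hc] at c3; simpa using c3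
    exact Subtype.ext (τ.injective (Subtype.ext (by
      rw [hc, hc1, one_smul, OneMemClass.coe_one, map_one, Matrix.SpecialLinearGroup.coe_one])))
  obtain ⟨hEc, hEe, hE4⟩ := four_props hE
  haveI : Finite E := Nat.finite_of_card_ne_zero (by omega)
  choose l hl hl2 using fun x : E => exists_lift (F := F) free_two (x := ((x : H) : PSL₃))
    (by rw [← Subgroup.coe_pow, ← Subgroup.coe_pow, hEe]; rfl)
  let L : E → Γ := fun x => ⟨l x, show pr (l x) ∈ H by rw [hl]; exact (x : H).2⟩
  have hLinj : Function.Injective L := fun x y e => Subtype.ext (Subtype.ext (by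
    rw [← hl, show l x = l y from congrArg Subtype.val e, hl]))
  have hL1 : L 1 = 1 := Subtype.ext (lift_unique free_two (hl2 1) (one_pow 2) (by
    rw [hl]; exact (map_one pr).symm))
  have hLc : ∀ x y, L x * L y = L y * L x := fun x y => Subtype.ext (commute_of_pr free_two (hl2 y) (by
    rw [hl, hl]; exact congrArg (fun z : E => ((z : H) : PSL₃)) (hEc x y)))
  have hcentral : ∀ x : E, blk (L x) = -1 → False := by
    intro x hx
    have hcg : ∀ g : Γ, g * L x = L x * g := fun g => by
      have h : blk (g * L x * g⁻¹ * (L x)⁻¹) = 1 := by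
        rw [map_mul, map_mul, map_mul, hx]
        rw [show blk g * (-1) * blk g⁻¹ = -1 * (blk g * blk g⁻¹) by noncomm_ring, ← map_mul, mul_inv_cancel,
          map_one, mul_one, ← hx, ← map_mul, mul_inv_cancel, map_one]
      exact mul_inv_eq_iff_eq_mul.1 (mul_inv_eq_one.1 (hinj _ h))
    have hZ : Subgroup.zpowers (π (L x)) = ⊥ := by
      refine hab _ ⟨fun n hn g => ?_⟩ inferInstance
      obtain ⟨g', rfl⟩ := hπ g
      obtain ⟨k, rfl⟩ := Subgroup.mem_zpowers_iff.1 hn
      rw [← map_zpow, ← map_inv, ← map_mul, ← map_mul,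
        ((show Commute g' (L x) from hcg g').zpow_right k).eq, mul_inv_cancel_right, map_zpow]
      exact Subgroup.zpow_mem_zpowers _ k
    have hmem := Subgroup.mem_zpowers (π (L x))
    rw [hZ, Subgroup.mem_bot] at hmem
    have : x = 1 := Subtype.ext (Subtype.ext (by
      rw [← hl]; exact congrArg Subtype.val hmem))
    rw [this, hL1, map_one] at hx
    exact h2 (by
      have := congrFun (congrFun hx 0) 0
      simp at this
      linear_combination this)
  obtain ⟨x, y, hx, hy, hxy⟩ : ∃ x y : E, x ≠ 1 ∧ y ≠ 1 ∧ x ≠ y := by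
    by_contra! hno
    haveI : Fintype E := Fintype.ofFinite E
    rw [Nat.card_eq_fintype_card] at hE4
    obtain ⟨x, hx⟩ := Fintype.exists_ne_of_one_lt_card (by omega) (1 : E)
    have hsub : (Finset.univ : Finset E) ⊆ {1, x} := fun z _ => by
      rw [Finset.mem_insert, Finset.mem_singleton]
      exact (em (z = 1)).imp_right fun hz => (hno x z hx hz).symm
    have := (Finset.card_le_card hsub).trans Finset.card_le_two
    rw [Finset.card_univ] at this
    omega
  have hb : ∀ z : E, blk (L z) * blk (L z) = 1 := fun z => by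
    rw [← map_mul, show L z * L z = 1 from Subtype.ext (by
      show l z * l z = 1; rw [← pow_two]; exact hl2 z), map_one]
  have hbne : ∀ {z : E}, z ≠ 1 → blk (L z) ≠ 1 := fun {z} hz e => hz (hLinj ((hinj _ e).trans hL1.symm))
  have hdx := two_invol_neg h2 (hb x) (hbne hx) (fun e => hcentral x e)
  have hdy := two_invol_neg h2 (hb y) (hbne hy) (fun e => hcentral y e)
  have hLxy : L (x * y) = L x * L y := Subtype.ext (lift_unique free_two (hl2 _) (by
    show (l x * l y) ^ 2 = 1
    rw [(show Commute (l x) (l y) from congrArg Subtype.val (hLc x y)).mul_pow, hl2, hl2, mul_one])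
    (by rw [hl]; show _ = pr (l x * l y); rw [map_mul, hl, hl]; rfl))
  have hxy1 : x * y ≠ 1 := fun e => hxy (by
    rw [mul_eq_one_iff_eq_inv] at e
    rw [e, inv_eq_of_mul_eq_one_right (by rw [← pow_two]; exact hEe y)])
  have hdet : (blk (L (x * y))).det ≠ -1 := by
    rw [hLxy, map_mul, det_mul, hdx, hdy, neg_mul_neg, mul_one]
    exact fun e => h2 (by linear_combination e)
  exact hdet (two_invol_neg h2 (hb _) (hbne hxy1) fun e => hcentral _ e)

/-- The transpose of the inverse. -/
def invTranspose : SL₃ ≃* SL₃ where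
  toFun g := g⁻¹.transpose
  invFun g := g⁻¹.transpose
  left_inv g := by
    show (g⁻¹.transpose)⁻¹.transpose = g
    rw [← transpose_inv', inv_inv]
    exact Subtype.ext (transpose_transpose _)
  right_inv g := by
    show (g⁻¹.transpose)⁻¹.transpose = g
    rw [← transpose_inv', inv_inv]
    exact Subtype.ext (transpose_transpose _)
  map_mul' g h := by rw [_root_.mul_inv_rev, transpose_mul']

theorem exists_gl_first (v : Fin 3 → F) (hv : v ≠ 0) :
    ∃ P : GL (Fin 3) F, (P : M₃) *ᵥ Pi.single 0 1 = v := by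
  obtain ⟨i, hi⟩ : ∃ i, v i ≠ 0 := by
    by_contra h; push Not at h; exact hv (funext h)
  suffices h : ∃ S : M₃, S.det ≠ 0 ∧ ∀ r, S r 0 = v r by
    obtain ⟨S, hS, hcol⟩ := h
    refine ⟨GeneralLinearGroup.mkOfDetNeZero S hS, ?_⟩
    show S *ᵥ Pi.single 0 1 = v
    funext r
    simp [mulVec_single_one, hcol]
  fin_cases i
  · refine ⟨!![v 0, 0, 0; v 1, 1, 0; v 2, 0, 1], ?_, fun r => ?_⟩
    · simpa [det_fin_three] using hi
    · fin_cases r <;> simp
  · refine ⟨!![v 0, 1, 0; v 1, 0, 0; v 2, 0, 1], ?_, fun r => ?_⟩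
    · simpa [det_fin_three] using hi
    · fin_cases r <;> simp
  · refine ⟨!![v 0, 1, 0; v 1, 0, 1; v 2, 0, 0], ?_, fun r => ?_⟩
    · simpa [det_fin_three] using hi
    · fin_cases r <;> simp

/-- The preimage fixes no point and no line. -/
theorem irr_comap [Finite F] (h2 : (2 : F) ≠ 0) (hab : NoAb H) {E : Subgroup H} (hE : IsKleinFour E) :
    Irr (H.comap pr) := by
  refine ⟨fun v hv => ?_, fun φ hφ => ?_⟩
  · by_contra! hfix
    obtain ⟨P, hP⟩ := exists_gl_first v hv
    obtain ⟨g, hg, h⟩ := no_fixed_column h2 hab hE (conjGL P⁻¹)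
    obtain ⟨c, hc⟩ := hfix g hg
    have key : (conjGL P⁻¹ g : M₃) *ᵥ Pi.single 0 1 = c • Pi.single 0 1 := by
      rw [conjGL_coe, inv_inv, ← mulVec_mulVec, hP, ← mulVec_mulVec, hc, mulVec_smul, ← hP, mulVec_mulVec,
        ← Units.val_mul, inv_mul_cancel, Units.val_one, one_mulVec]
    rcases h with h | h
    · exact h (by simpa using congrFun key 1)
    · exact h (by simpa using congrFun key 2)
  · by_contra! hfix
    obtain ⟨P, hP⟩ := exists_gl_first φ hφ
    obtain ⟨g, hg, h⟩ := no_fixed_column h2 hab hE (invTranspose.trans (conjGL P⁻¹))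
    obtain ⟨c, hc⟩ := hfix g⁻¹ (inv_mem hg)
    have key : (conjGL P⁻¹ (invTranspose g) : M₃) *ᵥ Pi.single 0 1 = c • Pi.single 0 1 := by
      rw [conjGL_coe, inv_inv, ← mulVec_mulVec, hP, ← mulVec_mulVec,
        show ((invTranspose g : SL₃) : M₃) = ((g⁻¹ : SL₃) : M₃)ᵀ from rfl, mulVec_transpose, hc, mulVec_smul, ← hP,
        mulVec_mulVec, ← Units.val_mul, inv_mul_cancel, Units.val_one, one_mulVec]
    rcases h with h | h
    · exact h (by simpa using congrFun key 1)
    · exact h (by simpa using congrFun key 2)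

end Cfsg.Agent.Classical.Bloom
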