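import Cfsg.Agent.Lib.Classical.DicksonPGLCases

/-!
Subgroups of `PGL(2, F)` of order prime to the characteristic: with derived group in a cyclic subgroup, or one of
`A₄`, `S₄`, `A₅`.
-/

set_option autoImplicit false

namespace Cfsg.Agent.Classical.Bloom

open Matrix Cfsg.Agent.Dickson Cfsg.Agent.Grp.SL2 Cfsg.Agent.PSL2Spec

variable {F : Type*} [Field F] [Fintype F]

/-- The commutators lie in one cyclic subgroup. -/
def CyclicDerived (G : Type*) [Group G] : Prop :=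
  ∃ a : G, ∀ x y : G, x * y * x⁻¹ * y⁻¹ ∈ Subgroup.zpowers a

theorem cyclicDerived_of_equiv {G G' : Type*} [Group G] [Group G'] (e : G ≃* G') (h : CyclicDerived G') :
    CyclicDerived G := by
  obtain ⟨a, ha⟩ := h
  refine ⟨e.symm a, fun x y => ?_⟩
  obtain ⟨k, hk⟩ := Subgroup.mem_zpowers_iff.1 (ha (e x) (e y))
  refine Subgroup.mem_zpowers_iff.2 ⟨k, e.injective ?_⟩
  rw [map_zpow, e.apply_symm_apply, hk, map_mul, map_mul, map_mul, map_inv, map_inv]

theorem cyclicDerived_dihedral (n : ℕ) : CyclicDerived (DihedralGroup n) := by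
  refine ⟨DihedralGroup.r 1, fun x y => ?_⟩
  obtain ⟨i, hi⟩ : ∃ i : ZMod n, x * y * x⁻¹ * y⁻¹ = DihedralGroup.r i := by
    rcases x with i | i <;> rcases y with j | j <;> exact ⟨_, rfl⟩
  rw [hi]
  obtain ⟨k, rfl⟩ := ZMod.intCast_surjective i
  exact Subgroup.mem_zpowers_iff.2 ⟨k, DihedralGroup.r_one_zpow k⟩

/-- The classification. -/
theorem pgl_small (p : ℕ) [Fact p.Prime] [CharP F p] (hp2 : p ≠ 2) (P : Subgroup (Matrix.ProjGenLinGroup (Fin 2) F))
    (hp : ¬ p ∣ Nat.card P) : CyclicDerived P ∨ Nonempty (P ≃* alternatingGroup (Fin 4)) ∨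
      Nonempty (P ≃* Equiv.Perm (Fin 4)) ∨ Nonempty (P ≃* alternatingGroup (Fin 5)) := by
  classical
  obtain ⟨E, _, _, _, ψ, hψ⟩ := PGLMax.exists_emb (F := F) p
  let e := P.equivMapOfInjective ψ hψ
  have hp' : ¬ p ∣ Nat.card (P.map ψ) := by rwa [← Nat.card_congr e.toEquiv]
  rcases dickson p (P.map ψ) with h | ⟨a, ha, ha1, hap, h⟩ | ⟨a, ha, ha1, hap, hidx, h, ⟨i⟩⟩ |
    ⟨a, ha, ha1, hap, h⟩ | ⟨hc, ⟨i⟩, -⟩ | ⟨hc, ⟨i⟩, -⟩ | ⟨hc, ⟨i⟩, -⟩ | h
  · refine Or.inl ⟨1, fun x y => ?_⟩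
    have hs : ∀ z : P, z = 1 := fun z => e.injective (Subtype.ext (by
      have := (e z).2
      simp only [h, Subgroup.mem_bot] at this
      rw [map_one]; exact this))
    rw [hs x, hs y]; simp
  · haveI : IsCyclic (tor a) := (pslData p).semi_cyclic ha1 hap
    letI : CommGroup (P.map ψ) := @IsCyclic.commGroup _ _
      (isCyclic_of_injective (Subgroup.inclusion h) (Subgroup.inclusion_injective h))
    refine Or.inl ⟨1, fun x y => ?_⟩
    have : x * y = y * x := e.injective (by rw [map_mul, map_mul]; exact mul_comm _ _)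
    rw [this, mul_inv_cancel_right, mul_inv_cancel]
    exact one_mem _
  · exact Or.inl (cyclicDerived_of_equiv (e.trans i) (cyclicDerived_dihedral _))
  · exfalso
    have := Subgroup.orderOf_dvd_natCard _ ha
    rw [orderOf_eq_prime hap ha1] at this
    exact hp' this
  · exact Or.inr (Or.inl ⟨e.trans i⟩)
  · exact Or.inr (Or.inr (Or.inl ⟨e.trans i⟩))
  · exact Or.inr (Or.inr (Or.inr ⟨e.trans i⟩))
  · exfalso
    obtain ⟨k, h3, hpk, -, hc⟩ := PGLMax.card_of_subfieldType p h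
    apply hp'
    rcases hc with e | e | ⟨-, e⟩
    · rw [e]; exact hpk.mul_right _
    · rcases (Nat.Prime.dvd_mul Fact.out).1 (e ▸ hpk.mul_right _ : p ∣ 2 * Nat.card (P.map ψ)) with h' | h'
      · exact absurd ((Nat.prime_dvd_prime_iff_eq Fact.out Nat.prime_two).1 h') hp2
      · exact h'
    · rw [e]; exact hpk.mul_right _

end Cfsg.Agent.Classical.Bloom
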