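import Cfsg.Agent.Lib.Classical.Bloom.NoTransvection
import Cfsg.Agent.Lib.Classical.Bloom.SmallPGL
import Cfsg.Agent.Lib.Classical.Bloom.Reduce
import Cfsg.Agent.Lib.Invol.GW.Dihedral.ThreeDoneFinal
import Cfsg.Agent.Lib.Invol.GW.Consumers.CentStruct

/-!
Centralisers of involutions in a simple group embedded in `PSL(3, F)` without transvections, with semidihedral or
wreathed Sylow 2-subgroups.
-/

set_option autoImplicit false

namespace Cfsg.Agent.Classical.Bloom

open Matrix
open scoped commutatorElement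

universe u

variable {F : Type*} [Field F] [Fintype F]

local notation "SL₃" => Matrix.SpecialLinearGroup (Fin 3) F
local notation "PSL₃" => Matrix.ProjectiveSpecialLinearGroup (Fin 3) F
local notation "M₃" => Matrix (Fin 3) (Fin 3) F
local notation "M₂" => Matrix (Fin 2) (Fin 2) F

theorem pow_four_perm4 : ∀ y : Equiv.Perm (Fin 4), y * y = 1 → y ≠ 1 → ∀ x : Equiv.Perm (Fin 4),
    x * y = y * x → x ^ 4 = 1 := by
  decide +kernel

theorem pow_four_perm5 : ∀ y : Equiv.Perm (Fin 5), y * y = 1 → y ≠ 1 → Equiv.Perm.sign y = 1 →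
    ∀ x : Equiv.Perm (Fin 5), x * y = y * x → Equiv.Perm.sign x = 1 → x ^ 4 = 1 := by
  decide +kernel

/-- An element centralising an involution has exponent four. -/
def PowFour (P : Type*) [Group P] : Prop := ∀ x y : P, y ≠ 1 → y * y = 1 → x * y = y * x → x ^ 4 = 1

theorem PowFour.of_equiv {P Q : Type*} [Group P] [Group Q] (e : P ≃* Q) (h : PowFour Q) : PowFour P := by
  intro x y hy hy2 hxy
  refine e.injective ?_
  rw [map_pow, map_one]
  exact h (e x) (e y) (fun h => hy (e.injective (h.trans (map_one e).symm))) (by rw [← map_mul, hy2, map_one])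
    (by rw [← map_mul, hxy, map_mul])

theorem pow_four_S4 : PowFour (Equiv.Perm (Fin 4)) := fun x y hy hy2 h => pow_four_perm4 y hy2 hy x h

theorem pow_four_A4 : PowFour (alternatingGroup (Fin 4)) := fun x y hy hy2 h => Subtype.ext (by
  have := pow_four_perm4 y (congrArg Subtype.val hy2) (fun e => hy (Subtype.ext e)) x (congrArg Subtype.val h)
  simpa using this)

theorem pow_four_A5 : PowFour (alternatingGroup (Fin 5)) := fun x y hy hy2 h => Subtype.ext (by
  have := pow_four_perm5 y (congrArg Subtype.val hy2) (fun e => hy (Subtype.ext e))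
    (Equiv.Perm.mem_alternatingGroup.1 y.2) x (congrArg Subtype.val h) (Equiv.Perm.mem_alternatingGroup.1 x.2)
  simpa using this)

omit [Fintype F] in
theorem mk_eq_one_scalar {A : GL (Fin 2) F} :
    ProjGenLinGroup.mk A = 1 ↔ ∃ c : F, (A : M₂) = c • 1 := by
  rw [ProjGenLinGroup.mk_eq_one, Subgroup.mem_center_iff]
  constructor
  · intro h
    obtain ⟨c, hc⟩ := GeneralLinearGroup.center_eq_range_scalar (n := Fin 2) (R := F) ▸
      (Subgroup.mem_center_iff.2 h : A ∈ Subgroup.center (GL (Fin 2) F))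
    exact ⟨c, by rw [← hc, GeneralLinearGroup.coe_scalar, Matrix.scalar_apply, smul_one_eq_diagonal]⟩
  · rintro ⟨c, hc⟩ B
    exact Units.ext (by rw [Units.val_mul, Units.val_mul, hc, mul_smul_comm, smul_mul_assoc, mul_one, one_mul])

theorem sl_two_not_comm {K : Type*} [Field K] :
    ¬ ∀ a b : Matrix.SpecialLinearGroup (Fin 2) K, a * b = b * a := by
  intro h
  have e : (!![1, 1; 0, 1] : Matrix (Fin 2) (Fin 2) K) * !![1, 0; 1, 1] = !![1, 0; 1, 1] * !![1, 1; 0, 1] :=
    congrArg Subtype.val (h ⟨!![1, 1; 0, 1], by simp [det_fin_two]⟩ ⟨!![1, 0; 1, 1], by simp [det_fin_two]⟩)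
  have := congrFun (congrFun e 0) 0
  simp [Matrix.mul_apply, Fin.sum_univ_two] at this

variable {G : Type u} [Group G] [Finite G] [IsSimpleGroup G]
  {f : G →* Matrix.ProjectiveSpecialLinearGroup (Fin 3) F}

omit [Finite G] in
theorem no_index_two (hna : ¬ IsMulCommutative G) (H : Subgroup G) : H.index ≠ 2 := by
  intro hH
  rcases (Subgroup.normal_of_index_eq_two hH).eq_bot_or_eq_top with h | h
  · rw [h, Subgroup.index_bot] at hH
    haveI := isCyclic_of_prime_card (α := G) (hp := ⟨Nat.prime_two⟩) hH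
    exact hna IsCyclic.commutative
  · rw [h, Subgroup.index_top] at hH
    omega

omit [Fintype F] in
/-- In the semidihedral and wreathed cases the image of an involution centraliser in `PGL(2, F)` is one of three
groups. -/
theorem proj_groups [Fintype F] (p : ℕ) [Fact p.Prime] [CharP F p] (hp2 : p ≠ 2) (hf : TvFree f)
    (hna : ¬ IsMulCommutative G) (S : Sylow 2 G)
    (hS : Cfsg.IsQuasiDihedral (S : Subgroup G) ∨ Cfsg.IsWreathed (S : Subgroup G)) {t : G} (ht : orderOf t = 2)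
    (ψ : Subgroup.centralizer ({t} : Set G) →* GL (Fin 2) F) (hψ : Function.Injective ψ) :
    Nonempty ((ProjGenLinGroup.mk.comp ψ).range ≃* alternatingGroup (Fin 4)) ∨
      Nonempty ((ProjGenLinGroup.mk.comp ψ).range ≃* Equiv.Perm (Fin 4)) ∨
      Nonempty ((ProjGenLinGroup.mk.comp ψ).range ≃* alternatingGroup (Fin 5)) := by
  classical
  let C := Subgroup.centralizer ({t} : Set G)
  let ρ : C →* ProjGenLinGroup (Fin 2) F := ProjGenLinGroup.mk.comp ψ
  have hpC : ¬ p ∣ Nat.card C := not_dvd_centralizer p hp2 hf ht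
  have hpP : ¬ p ∣ Nat.card ρ.range := fun h => hpC (h.trans (Subgroup.card_range_dvd ρ))
  rcases pgl_small p hp2 ρ.range hpP with ⟨A, hA⟩ | ⟨⟨e⟩⟩ | ⟨⟨e⟩⟩ | ⟨⟨e⟩⟩
  · exfalso
    obtain ⟨K, hK, hKf, -, ⟨eL⟩⟩ := Invol.GW.qd_wreathed_centralizer_mod_core
      Invol.GW.Dihedral.gwStatement_holds S hS (no_index_two hna) t ht
    have hker : ρ.rangeRestrict.ker ≤ Subgroup.center C := fun x hx => by
      rw [MonoidHom.ker_rangeRestrict, MonoidHom.mem_ker] at hx
      obtain ⟨c, hc⟩ := mk_eq_one_scalar.1 hx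
      exact Subgroup.mem_center_iff.2 fun y => hψ (by
        refine Units.ext ?_
        rw [map_mul, map_mul, Units.val_mul, Units.val_mul, hc, mul_smul_comm, smul_mul_assoc, mul_one, one_mul])
    let B : Subgroup C := (Subgroup.zpowers A).comap ρ.rangeRestrict
    have hB : commutator C ≤ B := by
      rw [commutator_def, Subgroup.commutator_le]
      intro a _ b _
      show ρ.rangeRestrict ⁅a, b⁆ ∈ Subgroup.zpowers A
      rw [commutatorElement_def, map_mul, map_mul, map_mul, map_inv, map_inv]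
      exact hA _ _
    have hBc : ∀ a b : B, a * b = b * a := commutative_of_cyclic_center_quotient
      (ρ.rangeRestrict.subgroupComap (Subgroup.zpowers A)) fun x hx => by
        refine Subgroup.mem_center_iff.2 fun y => Subtype.ext ?_
        exact Subgroup.mem_center_iff.1 (hker (MonoidHom.mem_ker.2 (congrArg Subtype.val (MonoidHom.mem_ker.1 hx)))) _
    have hmap : (commutator C).map (QuotientGroup.mk' (Cfsg.oddCore C)) = commutator (C ⧸ Cfsg.oddCore C) := by
      rw [commutator_def, commutator_def, Subgroup.map_commutator,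
        Subgroup.map_top_of_surjective _ (QuotientGroup.mk'_surjective _)]
    refine sl_two_not_comm (K := K) fun a b => eL.symm.injective ?_
    rw [map_mul, map_mul]
    refine Subtype.ext ?_
    obtain ⟨u, hu, eu⟩ := Subgroup.mem_map.1 (hmap.symm.le (eL.symm a).2)
    obtain ⟨v, hv, ev⟩ := Subgroup.mem_map.1 (hmap.symm.le (eL.symm b).2)
    show ((eL.symm a : C ⧸ Cfsg.oddCore C)) * (eL.symm b : C ⧸ Cfsg.oddCore C) = _
    rw [Subgroup.coe_mul, ← eu, ← ev, ← map_mul, ← map_mul]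
    exact congrArg _ (congrArg Subtype.val (hBc ⟨u, hB hu⟩ ⟨v, hB hv⟩))
  · exact Or.inl ⟨e⟩
  · exact Or.inr (Or.inl ⟨e⟩)
  · exact Or.inr (Or.inr ⟨e⟩)

/-- The consequences used below. -/
theorem proj_image (p : ℕ) [Fact p.Prime] [CharP F p] (hp2 : p ≠ 2) (hf : TvFree f)
    (hna : ¬ IsMulCommutative G) (S : Sylow 2 G)
    (hS : Cfsg.IsQuasiDihedral (S : Subgroup G) ∨ Cfsg.IsWreathed (S : Subgroup G)) {t : G} (ht : orderOf t = 2)
    (ψ : Subgroup.centralizer ({t} : Set G) →* GL (Fin 2) F) (hψ : Function.Injective ψ) :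
    PowFour (ProjGenLinGroup.mk.comp ψ).range ∧ 3 ∣ Nat.card (ProjGenLinGroup.mk.comp ψ).range := by
  rcases proj_groups p hp2 hf hna S hS ht ψ hψ with ⟨⟨e⟩⟩ | ⟨⟨e⟩⟩ | ⟨⟨e⟩⟩
  · exact ⟨PowFour.of_equiv e pow_four_A4, by
      rw [Nat.card_congr e.toEquiv, nat_card_alternatingGroup, Nat.card_fin]; decide⟩
  · exact ⟨PowFour.of_equiv e pow_four_S4, by
      rw [Nat.card_congr e.toEquiv, Nat.card_perm, Nat.card_fin]; decide⟩
  · exact ⟨PowFour.of_equiv e pow_four_A5, by
      rw [Nat.card_congr e.toEquiv, nat_card_alternatingGroup, Nat.card_fin]; decide⟩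

omit [Fintype F] in
theorem conj_eq_zero_iff {P : GL (Fin 3) F} {g a : SL₃} {c : F} :
    ((g : M₃) - c • 1) * (1 - (a : M₃)) = 0 ↔
      ((conjGL P g : M₃) - c • 1) * (1 - (conjGL P a : M₃)) = 0 := by
  have hQ : ((P⁻¹ : GL (Fin 3) F) : M₃) * (P : M₃) = 1 := by rw [← Units.val_mul, inv_mul_cancel, Units.val_one]
  have hQ2 : (P : M₃) * ((P⁻¹ : GL (Fin 3) F) : M₃) = 1 := by rw [← Units.val_mul, mul_inv_cancel, Units.val_one]
  have e : ((conjGL P g : M₃) - c • 1) * (1 - (conjGL P a : M₃)) =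
      (P : M₃) * (((g : M₃) - c • 1) * (1 - (a : M₃))) * ((P⁻¹ : GL (Fin 3) F) : M₃) := by
    have e1 : (conjGL P g : M₃) - c • 1 = (P : M₃) * ((g : M₃) - c • 1) * ((P⁻¹ : GL (Fin 3) F) : M₃) := by
      rw [conjGL_coe, mul_sub, sub_mul, mul_smul_comm, mul_one, smul_mul_assoc, hQ2]
    have e2 : 1 - (conjGL P a : M₃) = (P : M₃) * (1 - (a : M₃)) * ((P⁻¹ : GL (Fin 3) F) : M₃) := by
      rw [conjGL_coe, mul_sub, sub_mul, mul_one, hQ2]
    rw [e1, e2]
    simp only [mul_assoc]
    rw [← mul_assoc ((P⁻¹ : GL (Fin 3) F) : M₃) (P : M₃), hQ, one_mul]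
  rw [e, Units.mul_left_eq_zero, Units.mul_right_eq_zero]

/-- Half of the scalar condition on a fourth power in the centraliser of a four-group. -/
theorem four_half (p : ℕ) [Fact p.Prime] [CharP F p] (hp2 : p ≠ 2) (hf : TvFree f) (hna : ¬ IsMulCommutative G)
    (S : Sylow 2 G) (hS : Cfsg.IsQuasiDihedral (S : Subgroup G) ∨ Cfsg.IsWreathed (S : Subgroup G))
    {t e x : G} (ht : orderOf t = 2) (he : orderOf e = 2) (hne : e ≠ t) (hc : Commute e t) (hxt : Commute x t)
    (hxe : Commute x e) {g a : SL₃} (hg : pr g = f (x ^ 4)) (hpa : pr a = f t) (ha : a * a = 1) :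
    ∃ c : F, ((g : M₃) - c • 1) * (1 - (a : M₃)) = 0 := by
  have h2 : (2 : F) ≠ 0 := fun h => hp2 ((Nat.prime_dvd_prime_iff_eq Fact.out Nat.prime_two).1
    ((CharP.cast_eq_zero_iff F p 2).1 (by exact_mod_cast h)))
  obtain ⟨P, a', b, hpa', hpb, ha', hb, hPa, hPb⟩ := exists_frame_invol h2 hf.1 ht he hne hc
  obtain rfl : a' = a := lift_unique free_two (by rw [pow_two, ha']) (by rw [pow_two, ha]) (hpa'.trans hpa.symm)
  obtain ⟨ψ, hψ, hψs⟩ := exists_blockHom h2 hf.1 hpa ha hPa
  obtain ⟨h4, -⟩ := proj_image p hp2 hf hna S hS ht ψ hψ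
  let C := Subgroup.centralizer ({t} : Set G)
  let xC : C := ⟨x, Subgroup.mem_centralizer_singleton_iff.2 hxt⟩
  let eC : C := ⟨e, Subgroup.mem_centralizer_singleton_iff.2 hc⟩
  let ρ : C →* ProjGenLinGroup (Fin 2) F := ProjGenLinGroup.mk.comp ψ
  obtain ⟨eψ, -⟩ := hψs eC b hpb
  have hρe : ρ.rangeRestrict eC ≠ 1 := fun h => by
    obtain ⟨c, hc'⟩ := mk_eq_one_scalar.1 (congrArg Subtype.val h : ρ eC = 1)
    rw [eψ, hPb] at hc'
    have e00 := congrFun (congrFun hc' 0) 0
    have e11 := congrFun (congrFun hc' 1) 1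
    simp [lowerBlock] at e00 e11
    exact h2 (by linear_combination e11 - e00)
  have hx4 : ρ.rangeRestrict xC ^ 4 = 1 := h4 _ _ hρe
    (by rw [← map_mul, show eC * eC = 1 from Subtype.ext (by
      show e * e = 1; rw [← pow_two, ← he, pow_orderOf_eq_one]), map_one])
    (by rw [← map_mul, ← map_mul, show xC * eC = eC * xC from Subtype.ext hxe])
  rw [← map_pow] at hx4
  obtain ⟨c, hc'⟩ := mk_eq_one_scalar.1 (congrArg Subtype.val hx4 : ρ (xC ^ 4) = 1)
  obtain ⟨eg, c1, c2, c3, c4, c0⟩ := hψs (xC ^ 4) g hg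
  rw [eg] at hc'
  set A := (conjGL P g : M₃) with hA
  refine ⟨c * A 0 0, (conj_eq_zero_iff (P := P)).2 ?_⟩
  rw [hPa, ← hA]
  have e : ∀ i j : Fin 2, A i.succ j.succ = (if i = j then c else 0) * A 0 0 := fun i j => by
    have := congrFun (congrFun hc' i) j
    simp only [lowerBlock, Matrix.of_apply, Matrix.smul_apply, one_apply, smul_eq_mul, mul_ite, mul_one,
      mul_zero] at this
    exact (div_eq_iff c0).1 this
  have e11 := e 0 0; have e12 := e 0 1; have e21 := e 1 0; have e22 := e 1 1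
  simp at e11 e12 e21 e22
  ext i j
  fin_cases i <;> fin_cases j <;>
    simp [Matrix.mul_apply, Fin.sum_univ_three, c1, c2, c3, c4, e11, e12, e21, e22]

/-- What centralises a four-group has exponent four. -/
theorem four_centralizer (p : ℕ) [Fact p.Prime] [CharP F p] (hp2 : p ≠ 2) (hf : TvFree f)
    (hna : ¬ IsMulCommutative G) (S : Sylow 2 G)
    (hS : Cfsg.IsQuasiDihedral (S : Subgroup G) ∨ Cfsg.IsWreathed (S : Subgroup G))
    {t e x : G} (ht : orderOf t = 2) (he : orderOf e = 2) (hne : e ≠ t) (hc : Commute e t) (hxt : Commute x t)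
    (hxe : Commute x e) : x ^ 4 = 1 := by
  have h2 : (2 : F) ≠ 0 := fun h => hp2 ((Nat.prime_dvd_prime_iff_eq Fact.out Nat.prime_two).1
    ((CharP.cast_eq_zero_iff F p 2).1 (by exact_mod_cast h)))
  obtain ⟨P, a, b, hpa, hpb, ha, hb, hPa, hPb⟩ := exists_frame_invol h2 hf.1 ht he hne hc
  obtain ⟨g, hg⟩ := pr_surjective (f (x ^ 4))
  obtain ⟨c, hca⟩ := four_half p hp2 hf hna S hS ht he hne hc hxt hxe hg hpa ha
  obtain ⟨d, hdb⟩ := four_half p hp2 hf hna S hS he ht hne.symm hc.symm hxe hxt hg hpb hb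
  rw [conj_eq_zero_iff (P := P), hPa] at hca
  rw [conj_eq_zero_iff (P := P), hPb] at hdb
  set A := (conjGL P g : M₃) with hA
  have hcomm : ∀ {u : G} {s : SL₃}, pr s = f u → s * s = 1 → Commute x u → g * s = s * g := fun {u s} hs hss hu =>
    commute_of_pr free_two (by rw [pow_two, hss]) (by rw [hg, hs]; exact (hu.pow_left 4).map f)
  have hd : IsDg A := isDg_of_commute h2
    (by rw [hA, ← hPa, ← Matrix.SpecialLinearGroup.coe_mul, ← map_mul, hcomm hpa ha hxt, map_mul,
      Matrix.SpecialLinearGroup.coe_mul])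
    (by rw [hA, ← hPb, ← Matrix.SpecialLinearGroup.coe_mul, ← map_mul, hcomm hpb hb hxe, map_mul,
      Matrix.SpecialLinearGroup.coe_mul])
  have key : ∀ {w : F} {i : Fin 3} {s : Fin 3 → F}, (A - w • 1) * (1 - diagonal s) = 0 → s i = -1 → A i i = w :=
    fun {w i s} h hs => by
      have := congrFun (congrFun h i) i
      rw [show (1 : M₃) - diagonal s = diagonal (fun k => 1 - s k) by rw [← diagonal_one, diagonal_sub],
        mul_diagonal, hs, Matrix.zero_apply, Matrix.sub_apply, Matrix.smul_apply, one_apply_eq, smul_eq_mul,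
        mul_one] at this
      exact sub_eq_zero.1 ((mul_eq_zero.1 this).resolve_right (by rw [sub_neg_eq_add, one_add_one_eq_two]; exact h2))
  have a1 := key (i := 1) hca (by simp)
  have a2 := key (i := 2) hca (by simp)
  have b0 := key (i := 0) hdb (by simp)
  have b2 := key (i := 2) hdb (by simp)
  have hsc : A = c • 1 := by
    rw [smul_one_eq_diagonal, hd.eq]
    congr 1
    funext i
    fin_cases i <;> simp_all
  have h1 : pr (conjGL P g) = 1 := pr_eq_one.2 ⟨c, by
    have := (conjGL P g).2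
    rwa [← hA, hsc, det_smul, det_one, mul_one, Fintype.card_fin] at this, hsc⟩
  have h1' : pr g = 1 := by
    rw [← MonoidHom.mem_ker, ker_pr] at h1 ⊢
    refine Subgroup.mem_center_iff.2 fun z => (conjGL P).injective ?_
    rw [map_mul, map_mul, Subgroup.mem_center_iff.1 h1]
  exact hf.1 ((hg.symm.trans h1').trans (map_one f).symm)

/-- In the semidihedral and wreathed cases the characteristic is not three. -/
theorem char_ne_three (p : ℕ) [Fact p.Prime] [CharP F p] (hp2 : p ≠ 2) (hf : TvFree f)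
    (hna : ¬ IsMulCommutative G) (S : Sylow 2 G)
    (hS : Cfsg.IsQuasiDihedral (S : Subgroup G) ∨ Cfsg.IsWreathed (S : Subgroup G))
    {t e : G} (ht : orderOf t = 2) (he : orderOf e = 2) (hne : e ≠ t) (hc : Commute e t) : p ≠ 3 := by
  rintro rfl
  have h2 : (2 : F) ≠ 0 := fun h => absurd ((CharP.cast_eq_zero_iff F 3 2).1 (by exact_mod_cast h)) (by norm_num)
  obtain ⟨P, a, b, hpa, -, ha, -, hPa, -⟩ := exists_frame_invol h2 hf.1 ht he hne hc
  obtain ⟨ψ, hψ, -⟩ := exists_blockHom h2 hf.1 hpa ha hPa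
  exact not_dvd_centralizer 3 hp2 hf ht
    ((proj_image 3 hp2 hf hna S hS ht ψ hψ).2.trans (Subgroup.card_range_dvd _))

end Cfsg.Agent.Classical.Bloom
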