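import Cfsg.Agent.Lib.Classical.Bloom.Transvection

/-!
Change of coordinates and the transpose for groups generated by transvections.
-/

set_option autoImplicit false

namespace Cfsg.Agent.Classical.Bloom

open Matrix

variable {F : Type*} [Field F]

local notation "SL₃" => Matrix.SpecialLinearGroup (Fin 3) F
local notation "M₃" => Matrix (Fin 3) (Fin 3) F

/-- Conjugation by an invertible matrix. -/
noncomputable def conjGL (P : GL (Fin 3) F) : SL₃ ≃* SL₃ where
  toFun g := ⟨(P : M₃) * g * ((P⁻¹ : GL (Fin 3) F) : M₃), by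
    rw [det_mul, det_mul, g.2, mul_one, ← det_mul, ← Units.val_mul, mul_inv_cancel, Units.val_one, det_one]⟩
  invFun g := ⟨((P⁻¹ : GL (Fin 3) F) : M₃) * g * (P : M₃), by
    rw [det_mul, det_mul, g.2, mul_one, ← det_mul, ← Units.val_mul, inv_mul_cancel, Units.val_one, det_one]⟩
  left_inv g := Subtype.ext (by
    simp only [← mul_assoc]
    rw [← Units.val_mul, inv_mul_cancel, Units.val_one, one_mul, mul_assoc, ← Units.val_mul, inv_mul_cancel,
      Units.val_one, mul_one])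
  right_inv g := Subtype.ext (by
    simp only [← mul_assoc]
    rw [← Units.val_mul, mul_inv_cancel, Units.val_one, one_mul, mul_assoc, ← Units.val_mul, mul_inv_cancel,
      Units.val_one, mul_one])
  map_mul' g h := Subtype.ext (by
    show (P : M₃) * ((g : M₃) * (h : M₃)) * ((P⁻¹ : GL (Fin 3) F) : M₃) =
      ((P : M₃) * (g : M₃) * ((P⁻¹ : GL (Fin 3) F) : M₃)) * ((P : M₃) * (h : M₃) * ((P⁻¹ : GL (Fin 3) F) : M₃))
    simp only [mul_assoc]
    rw [← mul_assoc ((P⁻¹ : GL (Fin 3) F) : M₃) (P : M₃), ← Units.val_mul, inv_mul_cancel, Units.val_one, one_mul])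

theorem conjGL_coe (P : GL (Fin 3) F) (g : SL₃) :
    (conjGL P g : M₃) = (P : M₃) * g * ((P⁻¹ : GL (Fin 3) F) : M₃) := rfl

/-- The conjugate group. -/
noncomputable def moveGL (P : GL (Fin 3) F) (Γ : Subgroup SL₃) : Subgroup SL₃ := Γ.map (conjGL P).toMonoidHom

theorem transpose_one' : (1 : SL₃).transpose = 1 := Subtype.ext transpose_one

theorem transpose_mul' (a b : SL₃) : (a * b).transpose = b.transpose * a.transpose :=
  Subtype.ext (transpose_mul (a : M₃) (b : M₃))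

theorem transpose_inv' (a : SL₃) : a⁻¹.transpose = a.transpose⁻¹ :=
  eq_inv_of_mul_eq_one_left (by rw [← transpose_mul', mul_inv_cancel, transpose_one'])

theorem mem_moveGL {P : GL (Fin 3) F} {Γ : Subgroup SL₃} {g : SL₃} :
    g ∈ moveGL P Γ ↔ ∃ h ∈ Γ, conjGL P h = g := Subgroup.mem_map

variable {Γ : Subgroup (Matrix.SpecialLinearGroup (Fin 3) F)}

theorem moveGL_mul (P Q : GL (Fin 3) F) (Γ : Subgroup SL₃) : moveGL P (moveGL Q Γ) = moveGL (P * Q) Γ := by
  rw [moveGL, moveGL, moveGL, Subgroup.map_map]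
  congr 1
  refine MonoidHom.ext fun g => Subtype.ext ?_
  show (P : M₃) * ((Q : M₃) * (g : M₃) * ((Q⁻¹ : GL (Fin 3) F) : M₃)) * ((P⁻¹ : GL (Fin 3) F) : M₃) =
    ((P * Q : GL (Fin 3) F) : M₃) * (g : M₃) * (((P * Q)⁻¹ : GL (Fin 3) F) : M₃)
  rw [_root_.mul_inv_rev, Units.val_mul, Units.val_mul]
  simp only [mul_assoc]

theorem moveGL_one (Γ : Subgroup SL₃) : moveGL 1 Γ = Γ := by
  ext g
  rw [mem_moveGL]
  constructor
  · rintro ⟨h, hh, rfl⟩
    convert hh
    exact Subtype.ext (by simp [conjGL_coe])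
  · exact fun h => ⟨g, h, Subtype.ext (by simp [conjGL_coe])⟩

theorem InT.moveGL {v φ : Fin 3 → F} (h : InT Γ v φ) (P : GL (Fin 3) F) :
    InT (Bloom.moveGL P Γ) ((P : M₃) *ᵥ v) (φ ᵥ* ((P⁻¹ : GL (Fin 3) F) : M₃)) := by
  obtain ⟨hi, g, hg, e⟩ := h
  refine ⟨?_, conjGL P g, mem_moveGL.2 ⟨g, hg, rfl⟩, ?_⟩
  · rw [← dotProduct_mulVec, mulVec_mulVec, ← Units.val_mul, inv_mul_cancel, Units.val_one, one_mulVec, hi]
  · rw [conjGL_coe, e, mul_add, add_mul, mul_one, ← Units.val_mul, mul_inv_cancel, Units.val_one, mul_vecMulVec,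
      vecMulVec_mul]

theorem InT.of_moveGL {v φ : Fin 3 → F} {P : GL (Fin 3) F} (h : InT (Bloom.moveGL P Γ) v φ) :
    InT Γ (((P⁻¹ : GL (Fin 3) F) : M₃) *ᵥ v) (φ ᵥ* (P : M₃)) := by
  have := h.moveGL P⁻¹
  rwa [moveGL_mul, inv_mul_cancel, moveGL_one, inv_inv] at this

theorem tvs_moveGL_gen (P : GL (Fin 3) F) (hgen : Γ = Subgroup.closure (tvs Γ)) :
    moveGL P Γ = Subgroup.closure (tvs (moveGL P Γ)) := by
  refine le_antisymm ?_ ((Subgroup.closure_le _).2 fun g hg => hg.1)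
  rintro g hg
  obtain ⟨h, hh, rfl⟩ := mem_moveGL.1 hg
  rw [hgen] at hh
  induction hh using Subgroup.closure_induction with
  | mem x hx =>
    refine Subgroup.subset_closure ?_
    obtain ⟨hx, v, φ, hv, hφ, hi, e⟩ := hx
    refine ⟨mem_moveGL.2 ⟨x, hx, rfl⟩, (P : M₃) *ᵥ v, φ ᵥ* ((P⁻¹ : GL (Fin 3) F) : M₃), fun h0 => hv ?_,
      fun h0 => hφ ?_, ?_, ?_⟩
    · have := congrArg (((P⁻¹ : GL (Fin 3) F) : M₃) *ᵥ ·) h0
      simpa [mulVec_mulVec, ← Units.val_mul] using this
    · have := congrArg (· ᵥ* (P : M₃)) h0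
      simpa [vecMul_vecMul, ← Units.val_mul] using this
    · exact ((show InT Γ v φ from ⟨hi, x, hx, e⟩).moveGL P).incident
    · rw [conjGL_coe, e, mul_add, add_mul, mul_one, ← Units.val_mul, mul_inv_cancel, Units.val_one, mul_vecMulVec,
        vecMulVec_mul]
  | one => rw [map_one]; exact one_mem _
  | mul a b _ _ ha hb => rw [map_mul]; exact mul_mem (ha (mem_moveGL.2 ⟨a, hgen ▸ ‹_›, rfl⟩)) (hb (mem_moveGL.2 ⟨b, hgen ▸ ‹_›, rfl⟩))
  | inv a _ ha => rw [map_inv]; exact inv_mem (ha (mem_moveGL.2 ⟨a, hgen ▸ ‹_›, rfl⟩))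

theorem Irr.moveGL (hirr : Irr Γ) (P : GL (Fin 3) F) : Irr (Bloom.moveGL P Γ) := by
  refine ⟨fun v hv => ?_, fun φ hφ => ?_⟩
  · obtain ⟨g, hg, hmove⟩ := hirr.1 (((P⁻¹ : GL (Fin 3) F) : M₃) *ᵥ v) fun h0 => hv (by
      have := congrArg ((P : M₃) *ᵥ ·) h0
      simpa [mulVec_mulVec, ← Units.val_mul] using this)
    refine ⟨conjGL P g, mem_moveGL.2 ⟨g, hg, rfl⟩, fun c hc => hmove c ?_⟩
    have := congrArg (((P⁻¹ : GL (Fin 3) F) : M₃) *ᵥ ·) hc
    simp only [conjGL_coe, mulVec_mulVec, mulVec_smul, ← mul_assoc, ← Units.val_mul, inv_mul_cancel, Units.val_one,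
      one_mul] at this
    rw [mulVec_mulVec]
    exact this
  · obtain ⟨g, hg, hmove⟩ := hirr.2 (φ ᵥ* (P : M₃)) fun h0 => hφ (by
      have := congrArg (· ᵥ* ((P⁻¹ : GL (Fin 3) F) : M₃)) h0
      simpa [vecMul_vecMul, ← Units.val_mul] using this)
    refine ⟨conjGL P g, mem_moveGL.2 ⟨g, hg, rfl⟩, fun c hc => hmove c ?_⟩
    have := congrArg (· ᵥ* (P : M₃)) hc
    simp only [conjGL_coe, vecMul_vecMul, smul_vecMul, mul_assoc, ← Units.val_mul, inv_mul_cancel, Units.val_one,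
      mul_one] at this
    rw [vecMul_vecMul]
    exact this

theorem prods_moveGL (P : GL (Fin 3) F) (Γ : Subgroup SL₃) : prods (moveGL P Γ) = prods Γ := by
  have key : ∀ (Q : GL (Fin 3) F) (Δ : Subgroup SL₃), prods Δ ⊆ prods (moveGL Q Δ) := by
    rintro Q Δ x ⟨hx, v, φ, w, ψ, h, h', e⟩
    refine ⟨hx, _, _, _, _, h.moveGL Q, h'.moveGL Q, ?_⟩
    simp only [← dotProduct_mulVec, mulVec_mulVec, ← Units.val_mul, inv_mul_cancel, Units.val_one, one_mulVec, e]
  refine Set.Subset.antisymm ?_ (key P Γ)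
  have := key P⁻¹ (moveGL P Γ)
  rwa [moveGL_mul, inv_mul_cancel, moveGL_one] at this

/-- The transposed group. -/
def dualGroup (Γ : Subgroup SL₃) : Subgroup SL₃ where
  carrier := {g | g.transpose ∈ Γ}
  one_mem' := by
    show (1 : SL₃).transpose ∈ Γ
    rw [transpose_one']
    exact one_mem Γ
  mul_mem' := fun {a b} ha hb => by
    show (a * b).transpose ∈ Γ
    rw [transpose_mul']
    exact mul_mem hb ha
  inv_mem' := fun {a} ha => by
    show a⁻¹.transpose ∈ Γ
    rw [transpose_inv']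
    exact inv_mem ha

theorem InT.dual {v φ : Fin 3 → F} (h : InT Γ v φ) : InT (dualGroup Γ) φ v := by
  obtain ⟨hi, g, hg, e⟩ := h
  refine ⟨by rwa [dotProduct_comm], g.transpose, ?_, ?_⟩
  · show g.transpose.transpose ∈ Γ
    rwa [show g.transpose.transpose = g from Subtype.ext (by simp [Matrix.SpecialLinearGroup.transpose])]
  · show (g : M₃)ᵀ = _
    rw [e, transpose_add, transpose_one, transpose_vecMulVec]

theorem InT.of_dual {v φ : Fin 3 → F} (h : InT (dualGroup Γ) v φ) : InT Γ φ v := by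
  obtain ⟨hi, g, hg, e⟩ := h
  refine ⟨by rwa [dotProduct_comm], g.transpose, hg, ?_⟩
  show (g : M₃)ᵀ = _
  rw [e, transpose_add, transpose_one, transpose_vecMulVec]

theorem dual_gen (hgen : Γ = Subgroup.closure (tvs Γ)) :
    dualGroup Γ = Subgroup.closure (tvs (dualGroup Γ)) := by
  refine le_antisymm ?_ ((Subgroup.closure_le _).2 fun g hg => hg.1)
  intro g hg
  have key : ∀ h ∈ Subgroup.closure (tvs Γ), h.transpose ∈ Subgroup.closure (tvs (dualGroup Γ)) := by
    intro h hh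
    induction hh using Subgroup.closure_induction with
    | mem x hx =>
      obtain ⟨hx, v, φ, hv, hφ, hi, e⟩ := hx
      refine Subgroup.subset_closure ⟨?_, φ, v, hφ, hv, by rwa [dotProduct_comm], ?_⟩
      · show x.transpose.transpose ∈ Γ
        rwa [show x.transpose.transpose = x from Subtype.ext (by simp [Matrix.SpecialLinearGroup.transpose])]
      · show (x : M₃)ᵀ = _
        rw [e, transpose_add, transpose_one, transpose_vecMulVec]
    | one =>
      rw [transpose_one']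
      exact one_mem _
    | mul a b _ _ ha hb =>
      rw [transpose_mul']
      exact mul_mem hb ha
    | inv a _ ha =>
      rw [transpose_inv']
      exact inv_mem ha
  have h1 : g.transpose ∈ Subgroup.closure (tvs Γ) := hgen ▸ hg
  have := key _ h1
  rwa [show g.transpose.transpose = g from Subtype.ext (by simp [Matrix.SpecialLinearGroup.transpose])] at this

theorem dual_irr (hirr : Irr Γ) : Irr (dualGroup Γ) := by
  refine ⟨fun v hv => ?_, fun φ hφ => ?_⟩
  · obtain ⟨g, hg, hmove⟩ := hirr.2 v hv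
    refine ⟨g.transpose, ?_, fun c hc => hmove c ?_⟩
    · show g.transpose.transpose ∈ Γ
      rwa [show g.transpose.transpose = g from Subtype.ext (by simp [Matrix.SpecialLinearGroup.transpose])]
    · rwa [show (g.transpose : M₃) = (g : M₃)ᵀ from rfl, mulVec_transpose] at hc
  · obtain ⟨g, hg, hmove⟩ := hirr.1 φ hφ
    refine ⟨g.transpose, ?_, fun c hc => hmove c ?_⟩
    · show g.transpose.transpose ∈ Γ
      rwa [show g.transpose.transpose = g from Subtype.ext (by simp [Matrix.SpecialLinearGroup.transpose])]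
    · rwa [show (g.transpose : M₃) = (g : M₃)ᵀ from rfl, vecMul_transpose] at hc

theorem prods_dual (Γ : Subgroup SL₃) : prods (dualGroup Γ) ⊆ prods Γ := by
  rintro x ⟨hx, v, φ, w, ψ, h, h', e⟩
  refine ⟨hx, φ, v, ψ, w, h.of_dual, h'.of_dual, ?_⟩
  rw [dotProduct_comm v ψ, dotProduct_comm w φ, mul_comm, e]

end Cfsg.Agent.Classical.Bloom
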