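import Mathlib
import Cfsg.Agent.Lib.Grp.CyclicShift

/-!
Simultaneous diagonalisation of a finite commutative group of order prime to the characteristic.
-/

set_option autoImplicit false

namespace Cfsg.Agent.Classical.Bloom

open Matrix Module

variable {K : Type*} [Field K]

/-- A common eigenvector basis in matrix form. -/
theorem exists_diag_conj [IsAlgClosed K] (A : Subgroup (GL (Fin 3) K)) [Finite A]
    (hc : ∀ a ∈ A, ∀ b ∈ A, a * b = b * a) (hA : (Nat.card A : K) ≠ 0) :
    ∃ P : GL (Fin 3) K, ∀ a ∈ A, ∃ d : Fin 3 → K,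
      (P : Matrix (Fin 3) (Fin 3) K) * a * ((P⁻¹ : GL (Fin 3) K) : Matrix (Fin 3) (Fin 3) K) = diagonal d := by
  classical
  let ρ : A →* Module.End K (Fin 3 → K) :=
    (Matrix.toLinAlgEquiv' (R := K) (n := Fin 3)).toAlgHom.toRingHom.toMonoidHom.comp
      ((Units.coeHom (Matrix (Fin 3) (Fin 3) K)).comp A.subtype)
  have hρ : ∀ (a : A) v, ρ a v = ((a : GL (Fin 3) K) : Matrix (Fin 3) (Fin 3) K) *ᵥ v := fun a v => by
    simp [ρ, Matrix.toLinAlgEquiv'_apply]
  have hspan := Cfsg.Agent.Grp.CyclicShift.mem_span_eigen ρ ⊤ (by rwa [Subgroup.card_top]) ⊤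
    (fun _ _ _ _ => trivial) (fun a _ b _ v _ => by
      rw [← Module.End.mul_apply, ← map_mul, show a * b = b * a from Subtype.ext (hc _ a.2 _ b.2), map_mul,
        Module.End.mul_apply])
  obtain ⟨s, hs, hspan', hli⟩ := exists_linearIndependent K
    {w : Fin 3 → K | w ∈ (⊤ : Submodule K (Fin 3 → K)) ∧ ∀ a ∈ (⊤ : Subgroup A), ∃ c : K, ρ a w = c • w}
  let b0 := Basis.mk hli (by rw [Subtype.range_coe, hspan']; exact hspan)
  let b := b0.reindex (b0.indexEquiv (Pi.basisFun K (Fin 3)))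
  let S : Matrix (Fin 3) (Fin 3) K := Matrix.of fun i j => b j i
  have hcol : ∀ j, S *ᵥ Pi.single j 1 = b j := fun j => by
    funext i; simp [S, Matrix.mulVec_single]
  have hdet : S.det ≠ 0 := by
    have h := (Matrix.linearIndependent_cols_iff_isUnit (A := S)).1 (by
      show LinearIndependent K S.col
      have e : S.col = b := funext fun j => funext fun i => rfl
      rw [e]
      exact b.linearIndependent)
    exact ((Matrix.isUnit_iff_isUnit_det S).1 h).ne_zero
  refine ⟨(GeneralLinearGroup.mkOfDetNeZero S hdet)⁻¹, fun a ha => ?_⟩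
  have hc' : ∀ j, ∃ c : K, (a : Matrix (Fin 3) (Fin 3) K) *ᵥ b j = c • b j := fun j => by
    have hmem : b j ∈ s := by
      simp only [b, Basis.reindex_apply, b0, Basis.mk_apply]
      exact Subtype.mem _
    obtain ⟨c, hc⟩ := (hs hmem).2 ⟨a, ha⟩ (Subgroup.mem_top _)
    exact ⟨c, by rw [← hρ ⟨a, ha⟩]; exact hc⟩
  choose c hc' using hc'
  refine ⟨c, ?_⟩
  have key : (a : Matrix (Fin 3) (Fin 3) K) * S = S * diagonal c := by
    refine Matrix.ext fun i j => ?_
    have := congrFun (hc' j) i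
    rw [mul_diagonal]
    simpa [S, Matrix.mul_apply, mulVec, dotProduct, mul_comm] using this
  rw [inv_inv]
  show ((GeneralLinearGroup.mkOfDetNeZero S hdet)⁻¹ : GL (Fin 3) K).val * a.val * S = _
  rw [mul_assoc, key, ← mul_assoc]
  show (((GeneralLinearGroup.mkOfDetNeZero S hdet)⁻¹ : GL (Fin 3) K).val *
    (GeneralLinearGroup.mkOfDetNeZero S hdet).val) * _ = _
  rw [← Units.val_mul, inv_mul_cancel, Units.val_one, one_mul]

end Cfsg.Agent.Classical.Bloom
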