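import Cfsg.Agent.Lib.Classical.Bloom.Lift
import Cfsg.Agent.Lib.Classical.Bloom.Diag

/-!
Eigenvalue bounds: an element of prime order has an orbit of at most three eigenvalues under its normaliser and the
Frobenius map; the automizer of an abelian subgroup permutes three characters.
-/

set_option autoImplicit false

namespace Cfsg.Agent.Classical.Bloom

open Matrix Polynomial

variable {F : Type*} [Field F] [Fintype F]

local notation "SL₃" => Matrix.SpecialLinearGroup (Fin 3) F
local notation "PSL₃" => Matrix.ProjectiveSpecialLinearGroup (Fin 3) F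
local notation "M₃" => Matrix (Fin 3) (Fin 3) F

/-- The matrices over the algebraic closure. -/
noncomputable def toK : Matrix.SpecialLinearGroup (Fin 3) F →* GL (Fin 3) (AlgebraicClosure F) :=
  Matrix.SpecialLinearGroup.toGL.comp (Matrix.SpecialLinearGroup.map (algebraMap F (AlgebraicClosure F)))

theorem toK_coe (g : SL₃) : (toK g : Matrix (Fin 3) (Fin 3) (AlgebraicClosure F)) =
    (g : M₃).map (algebraMap F (AlgebraicClosure F)) := rfl

theorem toK_injective : Function.Injective (toK (F := F)) := fun g h e => Subtype.ext (Matrix.ext fun i j =>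
  (algebraMap F (AlgebraicClosure F)).injective (congrFun (congrFun (congrArg
    (fun u : GL (Fin 3) (AlgebraicClosure F) => (u : Matrix (Fin 3) (Fin 3) (AlgebraicClosure F))) e) i) j))

/-- A commutative subgroup of order prime to the characteristic is diagonal over the algebraic closure. -/
theorem exists_diag_toK (A : Subgroup SL₃) (hc : ∀ a ∈ A, ∀ b ∈ A, a * b = b * a)
    (hA : (Nat.card A : F) ≠ 0) :
    ∃ (P : GL (Fin 3) (AlgebraicClosure F)) (d : SL₃ → Fin 3 → AlgebraicClosure F), ∀ a ∈ A,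
      (P * toK a * P⁻¹ : GL (Fin 3) (AlgebraicClosure F)).val = diagonal (d a) := by
  classical
  haveI : Finite (A.map (toK (F := F))) := Finite.of_surjective
    (fun g : A => (⟨toK g, g, g.2, rfl⟩ : A.map toK)) (fun ⟨_, g, hg, e⟩ => ⟨⟨g, hg⟩, Subtype.ext e⟩)
  obtain ⟨P, hP⟩ := exists_diag_conj (A.map toK) (by
    rintro _ ⟨x, hx, rfl⟩ _ ⟨y, hy, rfl⟩
    rw [← map_mul, ← map_mul, hc x hx y hy]) (by
    rw [Subgroup.card_map_of_injective toK_injective, ← map_natCast (algebraMap F (AlgebraicClosure F))]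
    exact (_root_.map_ne_zero _).2 hA)
  choose! d hd using fun a (ha : a ∈ A) => hP (toK a) ⟨a, ha, rfl⟩
  exact ⟨P, d, fun a ha => hd a ha⟩

/-- The eigenvalues of an element of prime order: a set of at most three, stable under the Frobenius map and under
the exponents of the normalising elements. -/
theorem exists_orbit {ℓ : ℕ} (hl : ℓ.Prime) (hlF : (ℓ : F) ≠ 0) {y : SL₃} (hy : orderOf y = ℓ) :
    ∃ (S : Finset (AlgebraicClosure F)) (ζ : AlgebraicClosure F), S.card ≤ 3 ∧ ζ ∈ S ∧ IsPrimitiveRoot ζ ℓ ∧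
      (∀ s ∈ S, s ^ Fintype.card F ∈ S) ∧
      ∀ (g : SL₃) (i : ℕ), g * y * g⁻¹ = y ^ i → ∀ s ∈ S, s ^ i ∈ S := by
  classical
  set K := AlgebraicClosure F
  have hc : ∀ a ∈ Subgroup.zpowers y, ∀ b ∈ Subgroup.zpowers y, a * b = b * a := by
    rintro _ ⟨i, rfl⟩ _ ⟨j, rfl⟩
    exact (zpow_mul_comm y i j)
  obtain ⟨P, d, hd⟩ := exists_diag_toK (Subgroup.zpowers y) hc (by rw [Nat.card_zpowers, hy]; exact hlF)
  have hdy := hd y (Subgroup.mem_zpowers y)
  set Y : Matrix (Fin 3) (Fin 3) K := (toK y).val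
  let S := Y.charpoly.roots.toFinset
  have hY : Y = (P⁻¹ : GL (Fin 3) K).val * diagonal (d y) * P.val := by
    rw [← hdy, ← Units.val_mul, ← Units.val_mul]
    show _ = (P⁻¹ * (P * toK y * P⁻¹) * P : GL (Fin 3) K).val
    rw [show P⁻¹ * (P * toK y * P⁻¹) * P = toK y by group]
  obtain ⟨j, hj⟩ : ∃ j, d y j ≠ 1 := by
    by_contra hno
    push Not at hno
    have h1 : toK y = 1 := Units.ext (by
      show Y = 1
      rw [hY, funext hno, diagonal_one, mul_one, ← Units.val_mul, inv_mul_cancel, Units.val_one])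
    rw [(map_eq_one_iff _ toK_injective).1 h1, orderOf_one] at hy
    exact hl.ne_one hy.symm
  have hmem : ∀ s, s ∈ S ↔ ∃ v : Fin 3 → K, v ≠ 0 ∧ Y *ᵥ v = s • v := fun s => by
    rw [Multiset.mem_toFinset, Polynomial.mem_roots Y.charpoly_monic.ne_zero, Polynomial.IsRoot.def,
      Matrix.eval_charpoly, ← exists_mulVec_eq_zero_iff]
    refine exists_congr fun v => and_congr_right fun _ => ?_
    rw [sub_mulVec, sub_eq_zero, eq_comm]
    rw [Matrix.scalar_apply, ← smul_one_eq_diagonal, smul_mulVec, one_mulVec]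
  have hζS : d y j ∈ S := by
    refine (hmem _).2 ⟨(P⁻¹ : GL (Fin 3) K).val *ᵥ Pi.single j 1, fun e => ?_, ?_⟩
    · have := congrArg (P.val *ᵥ ·) e
      simp only [mulVec_mulVec, ← Units.val_mul, mul_inv_cancel, Units.val_one, one_mulVec, mulVec_zero] at this
      exact (one_ne_zero (α := K)) (by simpa using congrFun this j)
    · rw [mulVec_mulVec, hY, mul_assoc, ← Units.val_mul, mul_inv_cancel, Units.val_one, mul_one, ← mulVec_mulVec,
        show diagonal (d y) *ᵥ Pi.single j (1 : K) = d y j • Pi.single j 1 by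
          funext k; rw [mulVec_diagonal]; rcases eq_or_ne k j with rfl | h <;> simp [*],
        mulVec_smul]
  have hpowv : ∀ (s : K) v, Y *ᵥ v = s • v → ∀ k : ℕ, (toK (y ^ k)).val *ᵥ v = s ^ k • v := by
    intro s v hv k
    induction k with
    | zero => simp
    | succ k ih => rw [pow_succ, map_mul, Units.val_mul, ← mulVec_mulVec, hv, mulVec_smul, ih, smul_smul, ← pow_succ']
  have hprim : IsPrimitiveRoot (d y j) ℓ := by
    obtain ⟨v, hv0, hv⟩ := (hmem _).1 hζS
    have h1 := hpowv _ v hv ℓ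
    rw [← hy, pow_orderOf_eq_one, map_one, Units.val_one, one_mulVec, hy] at h1
    have h2 : d y j ^ ℓ = 1 := smul_left_injective K hv0 (show _ • v = (1 : K) • v by rw [one_smul]; exact h1.symm)
    haveI : Fact ℓ.Prime := ⟨hl⟩
    exact IsPrimitiveRoot.iff_orderOf.2 (orderOf_eq_prime h2 hj)
  refine ⟨S, d y j, ?_, hζS, hprim, fun s hs => ?_, fun g i hg s hs => ?_⟩
  · calc S.card ≤ Y.charpoly.roots.card := Multiset.toFinset_card_le _
      _ ≤ Y.charpoly.natDegree := Polynomial.card_roots' _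
      _ = 3 := by rw [Matrix.charpoly_natDegree_eq_dim, Fintype.card_fin]
  · have hchar : Y.charpoly = (y : M₃).charpoly.map (algebraMap F K) :=
      Matrix.charpoly_map (y : M₃) (algebraMap F K)
    rw [Multiset.mem_toFinset, Polynomial.mem_roots Y.charpoly_monic.ne_zero, Polynomial.IsRoot.def, hchar,
      Polynomial.eval_map_algebraMap] at hs ⊢
    rw [← Polynomial.expand_aeval, FiniteField.expand_card, map_pow, hs, zero_pow Fintype.card_ne_zero]
  · obtain ⟨v, hv0, hv⟩ := (hmem _).1 hs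
    have h1 := hpowv _ v hv i
    rw [← hg, map_mul, map_mul, map_inv, Units.val_mul, Units.val_mul] at h1
    refine (hmem _).2 ⟨((toK g)⁻¹).val *ᵥ v, fun e => hv0 ?_, ?_⟩
    · have := congrArg ((toK g).val *ᵥ ·) e
      simpa [mulVec_mulVec, ← Units.val_mul] using this
    · have := congrArg (((toK g)⁻¹).val *ᵥ ·) h1
      simp only [mulVec_mulVec, mulVec_smul, ← mul_assoc, ← Units.val_mul, inv_mul_cancel, one_mul] at this
      rw [mulVec_mulVec]
      exact this

/-- An exponent preserving a set of at most three eigenvalues repeats within four steps. -/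
theorem pow_collide {K : Type*} [Field K] {ℓ : ℕ} (hl : 0 < ℓ) {S : Finset K} {ζ : K} (hS : S.card ≤ 3)
    (hζ : ζ ∈ S) (hprim : IsPrimitiveRoot ζ ℓ) {k : ℕ} (hk : ∀ s ∈ S, s ^ k ∈ S) :
    ∃ a b : ℕ, a < b ∧ b < 4 ∧ (k : ZMod ℓ) ^ a = (k : ZMod ℓ) ^ b := by
  classical
  have hin : ∀ a : ℕ, ζ ^ (k ^ a) ∈ S := by
    intro a
    induction a with
    | zero => simpa using hζ
    | succ a ih => rw [pow_succ, pow_mul]; exact hk _ ih
  obtain ⟨a, ha, b, hb, hab, e⟩ := Finset.exists_ne_map_eq_of_card_lt_of_maps_to (s := Finset.range 4) (t := S)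
    (f := fun a => ζ ^ (k ^ a)) (by rw [Finset.card_range]; omega) fun a _ => hin a
  rw [Finset.mem_range] at ha hb
  have key : ∀ {a b : ℕ}, ζ ^ (k ^ a) = ζ ^ (k ^ b) → (k : ZMod ℓ) ^ a = (k : ZMod ℓ) ^ b := fun {a b} e => by
    rw [← Nat.cast_pow, ← Nat.cast_pow, ZMod.natCast_eq_natCast_iff, hprim.eq_orderOf]
    have hfin : IsOfFinOrder ζ := isOfFinOrder_iff_pow_eq_one.2 ⟨ℓ, hl, hprim.pow_eq_one⟩
    exact hfin.pow_eq_pow_iff_modEq.1 e
  rcases Nat.lt_or_gt_of_ne hab with h | h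
  · exact ⟨a, b, h, hb, key e⟩
  · exact ⟨b, a, h, ha, key e.symm⟩

/-- The consequences for an element of the projective group. -/
theorem orbit_collide {ℓ : ℕ} (hl : ℓ.Prime) (hl3 : ℓ ≠ 3) (hlF : (ℓ : F) ≠ 0) {x : PSL₃} (hx : orderOf x = ℓ) :
    (∃ a b : ℕ, a < b ∧ b < 4 ∧ (Fintype.card F : ZMod ℓ) ^ a = (Fintype.card F : ZMod ℓ) ^ b) ∧
      ∀ (g : PSL₃) (i : ℕ), g * x * g⁻¹ = x ^ i →
        (∃ a b : ℕ, a < b ∧ b < 4 ∧ (i : ZMod ℓ) ^ a = (i : ZMod ℓ) ^ b) ∧
          ∃ a b : ℕ, a < b ∧ b < 4 ∧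
            ((i * Fintype.card F : ℕ) : ZMod ℓ) ^ a = ((i * Fintype.card F : ℕ) : ZMod ℓ) ^ b := by
  have hfree : Free F ℓ := free_of_not_three fun h => hl3 ((Nat.prime_dvd_prime_iff_eq Nat.prime_three hl).1 h).symm
  have hxl : x ^ ℓ = 1 := by rw [← hx]; exact pow_orderOf_eq_one x
  obtain ⟨y, hyx, hyl⟩ := exists_lift hfree hxl
  obtain ⟨S, ζ, hS, hζ, hprim, hfrob, hconj⟩ := exists_orbit hl hlF (orderOf_lift hl hx hyx hyl)
  refine ⟨pow_collide hl.pos hS hζ hprim hfrob, fun g i hg => ?_⟩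
  obtain ⟨g', rfl⟩ := pr_surjective g
  rw [← hyx] at hg
  have h := hconj g' i (conj_eq_pow hfree hyl hg)
  exact ⟨pow_collide hl.pos hS hζ hprim h, pow_collide hl.pos hS hζ hprim fun s hs => by
    rw [pow_mul]; exact hfrob _ (h s hs)⟩

theorem perm_small {α : Type*} [Fintype α] [DecidableEq α] (h : Fintype.card α ≤ 3) (σ : Equiv.Perm α) :
    σ ^ 2 = 1 ∨ σ ^ 3 = 1 := by
  have key : ∀ k : Fin 4, ∀ τ : Equiv.Perm (Fin k.val), τ ^ 2 = 1 ∨ τ ^ 3 = 1 := by decide
  let e := Fintype.equivFin α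
  have h' := key ⟨Fintype.card α, by omega⟩ (e.permCongrHom σ)
  rw [← map_pow, ← map_pow] at h'
  simpa only [EmbeddingLike.map_eq_one_iff] using h'

set_option maxHeartbeats 1000000 in
/-- Conjugation on an abelian subgroup of order prime to the characteristic has order at most three up to the
square. -/
theorem automizer_small (A : Subgroup SL₃) (hc : ∀ a ∈ A, ∀ b ∈ A, a * b = b * a) (hA : (Nat.card A : F) ≠ 0)
    {g : SL₃} (hg : ∀ a, a ∈ A ↔ g * a * g⁻¹ ∈ A) :
    (∀ a ∈ A, g ^ 2 * a * (g ^ 2)⁻¹ = a) ∨ (∀ a ∈ A, g ^ 3 * a * (g ^ 3)⁻¹ = a) := by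
  classical
  set K := AlgebraicClosure F
  obtain ⟨P, d, hd⟩ := exists_diag_toK A hc hA
  let χ : Fin 3 → A → K := fun i a => d a i
  let X : Finset (A → K) := Finset.univ.image χ
  have hgn : ∀ (n : ℕ) (a : SL₃), a ∈ A → g ^ n * a * (g ^ n)⁻¹ ∈ A := by
    intro n
    induction n with
    | zero => intro a ha; simpa using ha
    | succ n ih =>
      intro a ha
      have := (hg _).1 (ih a ha)
      rw [pow_succ', show g * g ^ n * a * (g * g ^ n)⁻¹ = g * (g ^ n * a * (g ^ n)⁻¹) * g⁻¹ by group]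
      exact this
  let c : A → A := fun a => ⟨g * a * g⁻¹, (hg a).1 a.2⟩
  have hcs : Function.Surjective c := fun b => ⟨⟨g⁻¹ * b * g, (hg _).2 (by
    rw [show g * (g⁻¹ * (b : SL₃) * g) * g⁻¹ = b by group]; exact b.2)⟩, Subtype.ext (by
    show g * (g⁻¹ * (b : SL₃) * g) * g⁻¹ = b; group)⟩
  have hX : ∀ f ∈ X, f ∘ c ∈ X := by
    intro f hf
    obtain ⟨j, -, rfl⟩ := Finset.mem_image.1 hf
    obtain ⟨G, hG⟩ : ∃ G, G = (P * toK g * P⁻¹ : GL (Fin 3) K).val := ⟨_, rfl⟩
    obtain ⟨i, hi⟩ : ∃ i, G j i ≠ 0 := by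
      by_contra hno
      push Not at hno
      exact ((Matrix.isUnit_iff_isUnit_det G).1 (hG ▸ Units.isUnit _)).ne_zero (det_eq_zero_of_row_eq_zero j hno)
    refine Finset.mem_image.2 ⟨i, Finset.mem_univ _, funext fun a => ?_⟩
    have hGL : (P * toK g * P⁻¹) * (P * toK (a : SL₃) * P⁻¹) =
        (P * toK (c a : SL₃) * P⁻¹) * (P * toK g * P⁻¹) := by
      have e : (c a : SL₃) * g = g * (a : SL₃) := inv_mul_cancel_right _ g
      calc (P * toK g * P⁻¹) * (P * toK (a : SL₃) * P⁻¹) = P * (toK g * toK (a : SL₃)) * P⁻¹ := by group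
        _ = P * (toK (c a : SL₃) * toK g) * P⁻¹ := by rw [← map_mul, ← map_mul, e]
        _ = (P * toK (c a : SL₃) * P⁻¹) * (P * toK g * P⁻¹) := by group
    have h1 : G * diagonal (d a) = diagonal (d (c a : SL₃)) * G := by
      have := congrArg Units.val hGL
      rw [Units.val_mul (P * toK g * P⁻¹), Units.val_mul (P * toK (c a : SL₃) * P⁻¹), hd _ a.2, hd _ (c a).2, ← hG] at this
      exact this
    have h2 := congrFun (congrFun h1 j) i
    rw [mul_diagonal, diagonal_mul, mul_comm] at h2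
    exact mul_right_cancel₀ hi h2
  have hinj : ∀ f f' : A → K, f ∘ c = f' ∘ c → f = f' := fun f f' e => hcs.injective_comp_right e
  let σf : X → X := fun f => ⟨f.1 ∘ c, hX f.1 f.2⟩
  have hσi : Function.Injective σf := fun f f' e => Subtype.ext (hinj _ _ (congrArg Subtype.val e))
  let σ : Equiv.Perm X := Equiv.ofBijective σf ((Finite.injective_iff_bijective).1 hσi)
  have hσn : ∀ (n : ℕ) (f : X) (a : A),
      ((σ ^ n) f).1 a = f.1 ⟨g ^ n * a * (g ^ n)⁻¹, hgn n a a.2⟩ := by
    intro n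
    induction n with
    | zero => intro f a; simp
    | succ n ih =>
      intro f a
      rw [pow_succ', Equiv.Perm.mul_apply]
      show ((σ ^ n) f).1 (c a) = _
      rw [ih]
      exact congrArg f.1 (Subtype.ext (by
        show g ^ n * (g * (a : SL₃) * g⁻¹) * (g ^ n)⁻¹ = g ^ (n + 1) * a * (g ^ (n + 1))⁻¹
        rw [pow_succ]; group))
  have hfix : ∀ n : ℕ, σ ^ n = 1 → ∀ a ∈ A, g ^ n * a * (g ^ n)⁻¹ = a := by
    intro n hn a ha
    refine toK_injective ?_
    have hm := hgn n a ha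
    have e : d (g ^ n * a * (g ^ n)⁻¹) = d a := funext fun i => by
      have := hσn n ⟨χ i, Finset.mem_image_of_mem _ (Finset.mem_univ _)⟩ ⟨a, ha⟩
      rw [hn] at this
      exact this.symm
    have := (hd _ hm).trans ((congrArg diagonal e).trans (hd _ ha).symm)
    exact mul_left_cancel (mul_right_cancel (Units.ext this))
  have hX3 : Fintype.card X ≤ 3 := by
    rw [Fintype.card_coe]
    exact Finset.card_image_le.trans (by simp)
  exact (perm_small hX3 σ).imp (hfix 2) (hfix 3)

/-- What commutes with two elements with a nontrivial scalar commutator is scalar. -/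
theorem scalar_of_commute_pair {a b c : SL₃} {ω : F} (hω : ω ^ 3 = 1) (hω1 : ω ≠ 1)
    (hab : (a : M₃) * (b : M₃) = ω • ((b : M₃) * (a : M₃))) (hca : c * a = a * c) (hcb : c * b = b * c) :
    pr c = 1 := by
  classical
  set K := AlgebraicClosure F
  set A := (toK a).val.toLin'
  set B := (toK b).val.toLin'
  set C := (toK c).val.toLin'
  obtain ⟨μ, hμ⟩ := Module.End.exists_eigenvalue C
  let W := Module.End.eigenspace C μ
  haveI : Nontrivial W := Submodule.nontrivial_iff_ne_bot.2 hμ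
  have hcomm : ∀ {u v : SL₃}, u * v = v * u → ∀ x, (toK u).val.toLin' ((toK v).val.toLin' x) =
      (toK v).val.toLin' ((toK u).val.toLin' x) := fun {u v} h x => by
    simp only [Matrix.toLin'_apply, mulVec_mulVec, ← Units.val_mul, ← map_mul, h]
  have hWA : ∀ x ∈ W, A x ∈ W := fun x hx => by
    rw [Module.End.mem_eigenspace_iff] at hx ⊢
    rw [hcomm hca, hx, map_smul]
  have hWB : ∀ x ∈ W, B x ∈ W := fun x hx => by
    rw [Module.End.mem_eigenspace_iff] at hx ⊢
    rw [hcomm hcb, hx, map_smul]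
  obtain ⟨lam, hlam⟩ := Module.End.exists_eigenvalue (A.restrict hWA)
  obtain ⟨v, hv⟩ := hlam.exists_hasEigenvector
  have hv0 : (v : Fin 3 → K) ≠ 0 := fun e => hv.2 (Subtype.ext e)
  have hAv : A (v : Fin 3 → K) = lam • (v : Fin 3 → K) := congrArg Subtype.val hv.apply_eq_smul
  set w : K := algebraMap F K ω
  have hAB : ∀ x, A (B x) = w • B (A x) := fun x => by
    simp only [A, B, Matrix.toLin'_apply, mulVec_mulVec, ← smul_mulVec]
    rw [toK_coe, toK_coe, ← Matrix.map_mul, ← Matrix.map_mul, hab, Matrix.map_smul' _ _ _ (map_mul _)]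
  let u : Fin 3 → Fin 3 → K := fun k => (B ^ (k : ℕ)) (v : Fin 3 → K)
  have hu : ∀ k : ℕ, A ((B ^ k) (v : Fin 3 → K)) = (w ^ k * lam) • (B ^ k) (v : Fin 3 → K) := by
    intro k
    induction k with
    | zero => simpa using hAv
    | succ k ih => rw [pow_succ', Module.End.mul_apply, hAB, ih, map_smul, smul_smul, pow_succ', mul_assoc]
  have hBinj : Function.Injective B := fun x y e => by
    have := congrArg ((toK b)⁻¹.val *ᵥ ·) e
    simpa [B, Matrix.toLin'_apply, mulVec_mulVec, ← Units.val_mul] using this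
  have hBne : ∀ k : ℕ, (B ^ k) (v : Fin 3 → K) ≠ 0 := by
    intro k
    induction k with
    | zero => simpa using hv0
    | succ k ih =>
      rw [pow_succ', Module.End.mul_apply]
      exact fun e => ih (hBinj (e.trans (map_zero B).symm))
  have hlam0 : lam ≠ 0 := fun e => by
    rw [e, zero_smul] at hAv
    have := congrArg ((toK a)⁻¹.val *ᵥ ·) hAv
    exact hv0 (by simpa [A, Matrix.toLin'_apply, mulVec_mulVec, ← Units.val_mul] using this)
  haveI : Fact (Nat.Prime 3) := ⟨Nat.prime_three⟩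
  have hprim : IsPrimitiveRoot ω 3 := IsPrimitiveRoot.iff_orderOf.2 (orderOf_eq_prime hω hω1)
  have hprimK : IsPrimitiveRoot w 3 := hprim.map_of_injective (algebraMap F K).injective
  have hli : LinearIndependent K u := Module.End.eigenvectors_linearIndependent' A (fun k : Fin 3 => w ^ (k : ℕ) * lam)
    (fun k l e => Fin.ext (hprimK.pow_inj k.isLt l.isLt (mul_right_cancel₀ hlam0 e))) u fun k =>
    ⟨Module.End.mem_eigenspace_iff.2 (hu k), hBne k⟩
  have htop : W = ⊤ := by
    refine top_le_iff.1 (le_trans (hli.span_eq_top_of_card_eq_finrank (by simp)).ge (Submodule.span_le.2 ?_))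
    rintro _ ⟨k, rfl⟩
    show (B ^ (k : ℕ)) (v : Fin 3 → K) ∈ W
    induction (k : ℕ) with
    | zero => simpa using v.2
    | succ n ih => rw [pow_succ', Module.End.mul_apply]; exact hWB _ ih
  have hscal : (toK c).val = μ • 1 := by
    refine Matrix.ext fun i j => ?_
    have h := Module.End.mem_eigenspace_iff.1 (htop ▸ Submodule.mem_top : Pi.single j (1 : K) ∈ W)
    have := congrFun h i
    simp only [C, Matrix.toLin'_apply, mulVec_single_one, Matrix.col_apply, Pi.smul_apply] at this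
    rw [this, Matrix.smul_apply, one_apply, Pi.single_apply]
  have hμ0 : algebraMap F K ((c : M₃) 0 0) = μ := by
    have := congrFun (congrFun hscal 0) 0
    simpa [toK_coe] using this
  have hcF : (c : M₃) = (c : M₃) 0 0 • 1 := Matrix.ext fun i j => (algebraMap F K).injective (by
    have := congrFun (congrFun hscal i) j
    rw [toK_coe, Matrix.map_apply] at this
    rw [this, ← hμ0, Matrix.smul_apply, Matrix.smul_apply, smul_eq_mul, smul_eq_mul, map_mul]
    congr 1
    rw [one_apply, one_apply]; split_ifs <;> simp)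
  refine pr_eq_one.2 ⟨_, ?_, hcF⟩
  have := c.2
  rw [hcF, det_smul, det_one, mul_one, Fintype.card_fin] at this
  exact this

end Cfsg.Agent.Classical.Bloom
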