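import Cfsg.Agent.Lib.Classical.Bloom.Transvection

/-!
The group of order 120 inside `SL(2, 9)` does not extend to an irreducible transvection group in dimension three
in which all products lie in `{0, 1, -1, i, -i}`.
-/

set_option autoImplicit false

namespace Cfsg.Agent.Classical.Bloom

open Matrix

variable {F : Type*} [Field F]

local notation "V" => (Fin 3 → F)
local notation "SL₃" => Matrix.SpecialLinearGroup (Fin 3) F
local notation "M₃" => Matrix (Fin 3) (Fin 3) F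

abbrev P9 := ZMod 3 × ZMod 3

/-- Multiplication in `GF(9) = GF(3)[i]`. -/
def m9 (a b : P9) : P9 := (a.1 * b.1 - a.2 * b.2, a.1 * b.2 + a.2 * b.1)

/-- The elements with `x ^ 5 = x`. -/
def small9 : List P9 := [(0, 0), (1, 0), (2, 0), (0, 1), (0, 2)]

theorem small9_check : ∀ A ∈ small9, ∀ B ∈ small9, ∀ s ∈ small9,
    let M10 := m9 (0, 2) A
    let D := m9 (0, 2) (B + M10 - s)
    let a := m9 D D + m9 M10 B
    let T₁ := m9 (2, 1) D + M10 + m9 (0, 2) B
    let T₂ := m9 (1, 2) D + M10 + m9 (0, 2) B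
    a ≠ (0, 0) → B + M10 + m9 (0, 1) D ∈ small9 → a - m9 T₁ T₁ ∈ small9 → a - m9 T₂ T₂ ∈ small9 →
      a ∈ small9 → False := by
  decide +kernel

theorem sq_sum_eq_zero : ∀ a : P9, a.1 * a.1 + a.2 * a.2 = 0 → a = (0, 0) := by decide

/-- The map to the field. -/
def ev9 [CharP F 3] (i : F) (a : P9) : F := ZMod.castHom dvd_rfl F a.1 + ZMod.castHom dvd_rfl F a.2 * i

section Ev

variable [CharP F 3] {i : F} (hi : i ^ 2 = -1)

theorem ev9_add (a b : P9) : ev9 i (a + b) = ev9 i a + ev9 i b := by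
  simp only [ev9, Prod.fst_add, Prod.snd_add, map_add]; ring

theorem ev9_sub (a b : P9) : ev9 i (a - b) = ev9 i a - ev9 i b := by
  simp only [ev9, Prod.fst_sub, Prod.snd_sub, map_sub]; ring

include hi in
theorem ev9_mul (a b : P9) : ev9 i (m9 a b) = ev9 i a * ev9 i b := by
  simp only [ev9, m9, map_add, map_sub, map_mul]
  linear_combination (ZMod.castHom dvd_rfl F a.2 * ZMod.castHom dvd_rfl F b.2) * (-hi)

include hi in
theorem ev9_inj {a : P9} (h : ev9 i a = 0) : a = (0, 0) := by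
  set f := ZMod.castHom dvd_rfl F (n := 3)
  have h1 : f a.1 * f a.1 + f a.2 * f a.2 = 0 := by
    unfold ev9 at h
    linear_combination (f a.1 - f a.2 * i) * h + (f a.2 * f a.2) * hi
  rw [← map_mul, ← map_mul, ← map_add, map_eq_zero] at h1
  exact sq_sum_eq_zero a h1

include hi in
theorem small_of_pow {x : F} (h : x ^ 5 = x) : ∃ a ∈ small9, ev9 i a = x := by
  have h' : x * (x - 1) * (x + 1) * (x - i) * (x + i) = 0 := by
    linear_combination h - x * (x ^ 2 - 1) * hi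
  have h2 : ZMod.castHom dvd_rfl F (2 : ZMod 3) = -1 := by
    rw [show (2 : ZMod 3) = -1 by decide, map_neg, map_one]
  rcases mul_eq_zero.1 h' with h' | e
  swap
  · exact ⟨(0, 2), by simp [small9], by simp [ev9, h2]; linear_combination -e⟩
  rcases mul_eq_zero.1 h' with h' | e
  swap
  · exact ⟨(0, 1), by simp [small9], by simp [ev9]; linear_combination -e⟩
  rcases mul_eq_zero.1 h' with h' | e
  swap
  · exact ⟨(2, 0), by simp [small9], by simp [ev9, h2]; linear_combination -e⟩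
  rcases mul_eq_zero.1 h' with e | e
  · exact ⟨(0, 0), by simp [small9], by simp [ev9, e]⟩
  · exact ⟨(1, 0), by simp [small9], by simp [ev9]; linear_combination -e⟩

include hi in
theorem mem_small {a : P9} (h : ev9 i a ^ 5 = ev9 i a) : a ∈ small9 := by
  obtain ⟨b, hb, e⟩ := small_of_pow hi h
  have : a - b = (0, 0) := ev9_inj hi (by rw [ev9_sub, e, sub_self])
  rw [show a = b from sub_eq_zero.1 this]
  exact hb

end Ev

theorem pow_five_congr {x y : F} (h : x ^ 5 = x) (e : x = y) : y ^ 5 = y := e ▸ h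

/-- The six products of a transvection with nonzero last coordinates cannot all be small. -/
theorem scalar_false [CharP F 3] {i M00 M01 M10 M11 b : F} (hi : i ^ 2 = -1) (hb : M00 + M11 = b) (hb0 : b ≠ 0)
    (hdet : M00 * M11 = M01 * M10)
    (hA : (i * M10) ^ 5 = i * M10) (hB : M01 ^ 5 = M01)
    (hR' : (M01 + M10 - i * (M00 - M11)) ^ 5 = M01 + M10 - i * (M00 - M11))
    (hR : (M01 + M10 + i * (M00 - M11)) ^ 5 = M01 + M10 + i * (M00 - M11))
    (hT : (b ^ 2) ^ 5 = b ^ 2)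
    (h₃ : (b ^ 2 - ((-1 + i) * (M00 - M11) + M10 - i * M01) ^ 2) ^ 5 = b ^ 2 - ((-1 + i) * (M00 - M11) + M10 - i * M01) ^ 2)
    (h₄ : (b ^ 2 - ((1 - i) * (M00 - M11) + M10 - i * M01) ^ 2) ^ 5 = b ^ 2 - ((1 - i) * (M00 - M11) + M10 - i * M01) ^ 2) :
    False := by
  have h3 : (3 : F) = 0 := by exact_mod_cast CharP.cast_eq_zero F 3
  obtain ⟨A, hA', eA⟩ := small_of_pow hi hA
  obtain ⟨B, hB', eB⟩ := small_of_pow hi hB
  obtain ⟨s, hs, es⟩ := small_of_pow hi hR'
  have c2 : ZMod.castHom (dvd_refl 3) F (2 : ZMod 3) = -1 := by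
    rw [show (2 : ZMod 3) = -1 by decide, map_neg, map_one]
  have e02 : ev9 i ((0, 2) : P9) = -i := by simp only [ev9, c2, map_zero]; ring
  have e01 : ev9 i ((0, 1) : P9) = i := by simp only [ev9, map_zero, map_one]; ring
  have e21 : ev9 i ((2, 1) : P9) = -1 + i := by simp only [ev9, c2, map_one]; ring
  have e12 : ev9 i ((1, 2) : P9) = 1 - i := by simp only [ev9, c2, map_one]; ring
  have eM : ev9 i (m9 (0, 2) A) = M10 := by rw [ev9_mul hi, eA, e02]; linear_combination -M10 * hi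
  have eD : ev9 i (m9 (0, 2) (B + m9 (0, 2) A - s)) = M00 - M11 := by
    rw [ev9_mul hi, ev9_sub, ev9_add, eB, es, eM, e02]; linear_combination -(M00 - M11) * hi
  have ea : ev9 i (m9 (m9 (0, 2) (B + m9 (0, 2) A - s)) (m9 (0, 2) (B + m9 (0, 2) A - s)) + m9 (m9 (0, 2) A) B)
      = b ^ 2 := by
    rw [ev9_add, ev9_mul hi, ev9_mul hi (m9 (0, 2) A), eD, eM, eB, ← hb]
    linear_combination (-M00 * M11) * h3 - hdet
  refine small9_check A hA' B hB' s hs ?_ ?_ ?_ ?_ ?_
  · intro h0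
    rw [h0] at ea
    exact hb0 (pow_eq_zero_iff two_ne_zero |>.1 (ea.symm.trans (by simp [ev9])))
  · refine mem_small hi ?_
    rw [ev9_add, ev9_add, eB, ev9_mul hi (0, 1), eM, eD, e01]
    exact hR
  · refine mem_small hi ?_
    rw [ev9_sub, ea, ev9_mul hi, ev9_add, ev9_add, ev9_mul hi (2, 1), ev9_mul hi (0, 2) B, eB, eM, eD, e21, e02]
    exact pow_five_congr h₃ (by ring)
  · refine mem_small hi ?_
    rw [ev9_sub, ea, ev9_mul hi, ev9_add, ev9_add, ev9_mul hi (1, 2), ev9_mul hi (0, 2) B, eB, eM, eD, e12, e02]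
    exact pow_five_congr h₄ (by ring)
  · refine mem_small hi ?_
    rw [ea]
    exact hT

theorem inv_eq_of_mat {x : SL₃} {N : M₃} (h : (x : M₃) * N = 1) : ((x⁻¹ : SL₃) : M₃) = N := by
  calc ((x⁻¹ : SL₃) : M₃) = ((x⁻¹ : SL₃) : M₃) * ((x : M₃) * N) := by rw [h, mul_one]
    _ = _ := by rw [← mul_assoc, ← Matrix.SpecialLinearGroup.coe_mul, inv_mul_cancel,
      Matrix.SpecialLinearGroup.coe_one, one_mul]

/-- A block matrix fixing the third axis. -/
def blk (a b c d : F) : M₃ := !![a, b, 0; c, d, 0; 0, 0, 1]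

theorem blk_mul (a b c d a' b' c' d' : F) :
    blk a b c d * blk a' b' c' d' = blk (a * a' + b * c') (a * b' + b * d') (c * a' + d * c') (c * b' + d * d') := by
  ext x y; fin_cases x <;> fin_cases y <;> simp [blk, Matrix.mul_apply, Fin.sum_univ_three]

theorem blk_one : blk (1 : F) 0 0 1 = 1 := by
  ext x y; fin_cases x <;> fin_cases y <;> simp [blk]

theorem blk_congr {a b c d a' b' c' d' : F} (h1 : a = a') (h2 : b = b') (h3 : c = c') (h4 : d = d') :
    blk a b c d = blk a' b' c' d' := by rw [h1, h2, h3, h4]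

theorem blk_mulVec (a b c d : F) (v : Fin 3 → F) :
    blk a b c d *ᵥ v = ![a * v 0 + b * v 1, c * v 0 + d * v 1, v 2] := by
  funext x; fin_cases x <;> simp [blk, mulVec, dotProduct, Fin.sum_univ_three]

theorem vecMul_blk (a b c d : F) (v : Fin 3 → F) :
    v ᵥ* blk a b c d = ![v 0 * a + v 1 * c, v 0 * b + v 1 * d, v 2] := by
  funext x; fin_cases x <;> simp [blk, vecMul, dotProduct, Fin.sum_univ_three]

theorem ico_elems [CharP F 3] {Γ : Subgroup SL₃} {i : F} (hi : i ^ 2 = -1) (hU : InT Γ ![1, 0, 0] ![0, i, 0])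
    (hL : InT Γ ![0, 1, 0] ![1, 0, 0]) :
    (∃ d ∈ Γ, (d : M₃) = blk i 0 0 (-i) ∧ ((d⁻¹ : SL₃) : M₃) = blk (-i) 0 0 i) ∧
      (∃ g ∈ Γ, (g : M₃) = blk (1 + i) 1 (-i) (-i) ∧ ((g⁻¹ : SL₃) : M₃) = blk (-i) (-1) i (1 + i)) ∧
      (∃ g ∈ Γ, (g : M₃) = blk (-i) 1 (-i) (1 + i) ∧ ((g⁻¹ : SL₃) : M₃) = blk (1 + i) (-1) i (-i)) := by
  have h3 : (3 : F) = 0 := by exact_mod_cast CharP.cast_eq_zero F 3
  obtain ⟨gU, hgU, eU⟩ := hU.2
  obtain ⟨gL, hgL, eL⟩ := hL.2
  obtain ⟨gU', hgU', eU'⟩ := (InT.neg_right hU).2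
  obtain ⟨gL', hgL', eL'⟩ := (InT.neg_right hL).2
  replace eU : (gU : M₃) = blk 1 i 0 1 := by
    rw [eU]; ext a b; fin_cases a <;> fin_cases b <;> simp [vecMulVec_apply, blk]
  replace eU' : (gU' : M₃) = blk 1 (-i) 0 1 := by
    rw [eU']; ext a b; fin_cases a <;> fin_cases b <;> simp [vecMulVec_apply, blk]
  replace eL : (gL : M₃) = blk 1 0 1 1 := by
    rw [eL]; ext a b; fin_cases a <;> fin_cases b <;> simp [vecMulVec_apply, blk]
  replace eL' : (gL' : M₃) = blk 1 0 (-1) 1 := by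
    rw [eL']; ext a b; fin_cases a <;> fin_cases b <;> simp [vecMulVec_apply, blk]
  have hii : i * i = -1 := by rw [← sq]; exact hi
  refine ⟨⟨gU * gL * gU' * gL' * gU * gL, mul_mem (mul_mem (mul_mem (mul_mem (mul_mem hgU hgL) hgU') hgL') hgU) hgL,
    ?e1, ?f1⟩, ⟨gL' * gU * gL * gU', mul_mem (mul_mem (mul_mem hgL' hgU) hgL) hgU', ?e2, ?f2⟩,
    ⟨gU' * gL * gU * gL', mul_mem (mul_mem (mul_mem hgU' hgL) hgU) hgL', ?e3, ?f3⟩⟩
  case e1 =>
    simp only [Matrix.SpecialLinearGroup.coe_mul, eU, eL, eU', eL', blk_mul]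
    exact blk_congr (by grobner) (by grobner) (by grobner) (by grobner)
  case e2 =>
    simp only [Matrix.SpecialLinearGroup.coe_mul, eU, eL, eU', eL', blk_mul]
    exact blk_congr (by grobner) (by grobner) (by grobner) (by grobner)
  case e3 =>
    simp only [Matrix.SpecialLinearGroup.coe_mul, eU, eL, eU', eL', blk_mul]
    exact blk_congr (by grobner) (by grobner) (by grobner) (by grobner)
  case f1 =>
    refine inv_eq_of_mat ?_
    simp only [Matrix.SpecialLinearGroup.coe_mul, eU, eL, eU', eL', blk_mul]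
    rw [← blk_one]
    exact blk_congr (by grobner) (by grobner) (by grobner) (by grobner)
  case f2 =>
    refine inv_eq_of_mat ?_
    simp only [Matrix.SpecialLinearGroup.coe_mul, eU, eL, eU', eL', blk_mul]
    rw [← blk_one]
    exact blk_congr (by grobner) (by grobner) (by grobner) (by grobner)
  case f3 =>
    refine inv_eq_of_mat ?_
    simp only [Matrix.SpecialLinearGroup.coe_mul, eU, eL, eU', eL', blk_mul]
    rw [← blk_one]
    exact blk_congr (by grobner) (by grobner) (by grobner) (by grobner)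

theorem exceptional_false [CharP F 3] {Γ : Subgroup SL₃} (hgen : Γ = Subgroup.closure (tvs Γ)) (hirr : Irr Γ)
    {i : F} (hi : i ^ 2 = -1) (hU : InT Γ ![1, 0, 0] ![0, i, 0]) (hL : InT Γ ![0, 1, 0] ![1, 0, 0])
    (hS : ∀ v φ w ψ, InT Γ v φ → InT Γ w ψ → ((φ ⬝ᵥ w) * (ψ ⬝ᵥ v)) ^ 5 = (φ ⬝ᵥ w) * (ψ ⬝ᵥ v)) : False := by
  have h3 : (3 : F) = 0 := by exact_mod_cast CharP.cast_eq_zero F 3
  have hi0 : i ≠ 0 := fun e => by simp [e] at hi
  have h2 : (2 : F) ≠ 0 := fun e => one_ne_zero (by linear_combination h3 - e : (1 : F) = 0)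
  obtain ⟨⟨d, hd, ed, ed'⟩, ⟨g₃, hg₃, e₃, e₃'⟩, ⟨g₄, hg₄, e₄, e₄'⟩⟩ := ico_elems hi hU hL
  obtain ⟨v, φ, hτ, hφ0, hv2⟩ := exists_center_off hgen hirr (χ := ![0, 0, 1]) (by simp)
  replace hv2 : v 2 ≠ 0 := by simpa [dotProduct, Fin.sum_univ_three] using hv2
  have hinc : φ 0 * v 0 + φ 1 * v 1 + φ 2 * v 2 = 0 := by
    simpa [dotProduct, Fin.sum_univ_three] using hτ.incident
  have hdot : ∀ (u : Fin 3 → F) (x y z : F), u ⬝ᵥ ![x, y, z] = u 0 * x + u 1 * y + u 2 * z := fun u x y z => by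
    simp [dotProduct, Fin.sum_univ_three]
  have hdot' : ∀ (u : Fin 3 → F) (x y z : F), ![x, y, z] ⬝ᵥ u = x * u 0 + y * u 1 + z * u 2 := fun u x y z => by
    simp [dotProduct, Fin.sum_univ_three]
  have hτt : InT Γ ![-v 0, -v 1, v 2] ![-φ 0, -φ 1, φ 2] := by
    have h := (hτ.conj hd).conj hd
    simp [ed, ed', blk_mulVec, vecMul_blk] at h
    convert h using 1 <;> (funext j; fin_cases j <;> simp <;> grobner)
  have hφ2 : φ 2 = 0 := by
    by_contra hφ2
    refine scalar_false (i := i) (M00 := φ 0 * v 0) (M01 := φ 1 * v 0) (M10 := φ 0 * v 1) (M11 := φ 1 * v 1)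
      (b := -(φ 2 * v 2)) hi (by linear_combination hinc) (neg_ne_zero.2 (mul_ne_zero hφ2 hv2)) (by ring)
      (pow_five_congr (hS _ _ _ _ hτ hU) ?_) (pow_five_congr (hS _ _ _ _ hτ hL) ?_)
      (pow_five_congr (hS _ _ _ _ hτ (hL.conj_tv (InT.neg_right hU))) ?_)
      (pow_five_congr (hS _ _ _ _ hτ (hL.conj_tv hU)) ?_)
      (pow_five_congr (hS _ _ _ _ hτ hτt) ?_)
      (pow_five_congr (hS _ _ _ _ hτ (hτ.conj hg₃)) ?_) (pow_five_congr (hS _ _ _ _ hτ (hτ.conj hg₄)) ?_)
    all_goals simp only [ed, e₃, e₃', e₄, e₄', blk_mulVec, vecMul_blk, hdot, hdot']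
    · ring
    · ring
    · simp [dotProduct, Fin.sum_univ_three]; grobner
    · simp [dotProduct, Fin.sum_univ_three]; grobner
    · grobner
    · grobner
    · grobner
  -- a translation
  have hψ : InT Γ ![0, 0, 1] ((2 * v 2) • φ) := by
    refine InT.of_scalar_left ?_ (mul_ne_zero h2 hv2)
    have h1 : InT Γ ![-v 0, -v 1, v 2] ((-1 : F) • φ) := by
      convert hτt using 1; funext j; fin_cases j <;> simp [hφ2]
    have h := hτ.add_left (h1.move_scalar (neg_ne_zero.2 one_ne_zero)).neg_left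
    convert h using 1; funext j; fin_cases j <;> simp <;> ring
  -- conjugates of it
  obtain ⟨χ, hχ, hχ2, hχ0⟩ : ∃ χ : Fin 3 → F, InT Γ ![0, 0, 1] χ ∧ χ 2 = 0 ∧ χ 0 ≠ 0 := by
    rcases eq_or_ne (φ 0) 0 with h0 | h0
    · have h1 : φ 1 ≠ 0 := fun h1 => hφ0 (by funext j; fin_cases j <;> assumption)
      have h := (hψ.conj_fix hL (by simp [dotProduct, Fin.sum_univ_three])).add_right hψ.neg_right
      refine ⟨![-(2 * v 2 * φ 1), 0, 0], ?_, by simp, by simp [h1, hv2, h2]⟩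
      convert h using 1 <;> (funext j; fin_cases j <;> simp [dotProduct, Fin.sum_univ_three, vecHead, vecTail] <;> ring)
    · exact ⟨_, hψ, by simp [hφ2], by simp [h0, hv2, h2]⟩
  have hU1 : InT Γ ![0, 0, 1] ![0, i * χ 0, 0] := by
    have h := (hχ.conj_fix hU (by simp [dotProduct, Fin.sum_univ_three])).neg_right.add_right hχ
    convert h using 1 <;> (funext j; fin_cases j <;> simp [dotProduct, Fin.sum_univ_three, vecHead, vecTail, mul_comm])
  have hU2 : InT Γ ![0, 0, 1] ![0, χ 0, 0] := by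
    have h := (hU1.conj hd).neg_right
    simp only [ed, ed', blk_mulVec, vecMul_blk] at h
    convert h using 1 <;> (funext j; fin_cases j <;> simp <;> grobner)
  have hL1 : ∀ c : F, InT Γ ![0, 0, 1] ![0, c, 0] → InT Γ ![0, 0, 1] ![c, 0, 0] := fun c hc => by
    have h := (hc.conj_fix hL (by simp [dotProduct, Fin.sum_univ_three])).neg_right.add_right hc
    convert h using 1 <;> (funext j; fin_cases j <;> simp [dotProduct, Fin.sum_univ_three])
  obtain ⟨w, ψ, hw, hw0, hψ2⟩ := exists_axis_off hgen hirr (x := ![0, 0, 1]) (by simp)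
  replace hψ2 : ψ 2 ≠ 0 := by simpa [dotProduct, Fin.sum_univ_three] using hψ2
  have hzero : ∀ j : Fin 3, ∀ η η' : Fin 3 → F, InT Γ ![0, 0, 1] η → InT Γ ![0, 0, 1] η' →
      η ⬝ᵥ w = χ 0 * w j → η' ⬝ᵥ w = i * (χ 0 * w j) → w j = 0 := by
    intro j η η' hη hη' e e'
    have e2 : ψ ⬝ᵥ (![0, 0, 1] : Fin 3 → F) = ψ 2 := by simp [dotProduct, Fin.sum_univ_three]
    have h1 := hS _ _ _ _ hη hw
    have h1' := hS _ _ _ _ (hη.add_right hη') hw
    rw [add_dotProduct] at h1'
    rw [e2, e] at h1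
    rw [e2, e, e'] at h1'
    set k := χ 0 * w j * ψ 2
    have hk1 : ((1 + i) * k) ^ 5 = (1 + i) * k := by
      simp only [k]; linear_combination h1'
    have hk : k = 0 := by
      have h5 : (1 + i) * (-1) * k = (1 + i) * k := by grobner
      by_contra hk
      have h6 : (1 + i : F) ≠ 0 := fun e6 => by
        have : (2 : F) = 0 := by linear_combination (1 - i) * e6 + hi
        exact h2 this
      have := mul_right_cancel₀ hk h5
      rw [mul_neg_one] at this
      exact mul_ne_zero h2 h6 (by linear_combination -this)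
    rcases mul_eq_zero.1 hk with hk | hk
    · exact (mul_eq_zero.1 hk).resolve_left hχ0
    · exact absurd hk hψ2
  have hw1 : w 1 = 0 := hzero 1 _ _ hU2 hU1 (by simp [dotProduct, Fin.sum_univ_three])
    (by simp [dotProduct, Fin.sum_univ_three]; ring)
  have hw2 : w 0 = 0 := hzero 0 _ _ (hL1 _ hU2) (hL1 _ hU1) (by simp [dotProduct, Fin.sum_univ_three])
    (by simp [dotProduct, Fin.sum_univ_three]; ring)
  have h := hw.incident
  simp [dotProduct, Fin.sum_univ_three, hw1, hw2] at h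
  rcases h with h | h
  · exact hψ2 h
  · exact hw0 (by funext j; fin_cases j <;> assumption)

end Cfsg.Agent.Classical.Bloom
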