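import Mathlib
import Cfsg.Agent.Lib.Lie.RegUnipTwoExists

/-!
Finite fields: an element all of whose multiples by a subfield generate small fields lies in that subfield.
-/

set_option autoImplicit false

namespace Cfsg.Agent.Classical.Bloom

variable {F : Type*} [Field F]

/-- The subfield generated by one element. -/
def gen (x : F) : Subfield F := Subfield.closure {x}

theorem self_mem_gen (x : F) : x ∈ gen x := Subfield.subset_closure rfl

theorem gen_le {x : F} {L : Subfield F} (hx : x ∈ L) : gen x ≤ L :=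
  Subfield.closure_le.2 (Set.singleton_subset_iff.2 hx)

variable [Fintype F]

theorem mem_iff_pow_card (L : Subfield F) {x : F} : x ∈ L ↔ x ^ Nat.card L = x := by
  classical
  refine ⟨fun h => Lie.RegUnip.subfield_pow_natCard h, fun h => ?_⟩
  have h2 : 1 < Nat.card L := Finite.one_lt_card
  set P : Polynomial F := Polynomial.X ^ Nat.card L - Polynomial.X with hP
  have hP0 : P ≠ 0 := FiniteField.X_pow_card_sub_X_ne_zero F h2
  have hd : P.natDegree = Nat.card L := FiniteField.X_pow_card_sub_X_natDegree_eq F h2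
  have hsub : (Finset.univ.filter (· ∈ L)) ⊆ P.roots.toFinset := fun y hy => by
    rw [Finset.mem_filter] at hy
    rw [Multiset.mem_toFinset, Polynomial.mem_roots hP0, Polynomial.IsRoot, hP]
    simp [sub_eq_zero, ← Nat.card_eq_fintype_card, Lie.RegUnip.subfield_pow_natCard hy.2]
  have hc : P.roots.toFinset.card ≤ (Finset.univ.filter (· ∈ L)).card := by
    refine (Multiset.toFinset_card_le _).trans ((Polynomial.card_roots' P).trans ?_)
    rw [hd, Nat.card_eq_fintype_card, Fintype.card_subtype]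
  have hx : x ∈ P.roots.toFinset := by
    rw [Multiset.mem_toFinset, Polynomial.mem_roots hP0, Polynomial.IsRoot, hP]
    simp [sub_eq_zero, ← Nat.card_eq_fintype_card, h]
  rw [← Finset.eq_of_subset_of_card_le hsub hc] at hx
  exact (Finset.mem_filter.1 hx).2

theorem eq_of_natCard {L L' : Subfield F} (h : Nat.card L = Nat.card L') : L = L' := by
  ext x
  rw [mem_iff_pow_card, mem_iff_pow_card, h]

theorem natCard_sq_le_of_lt {D L : Subfield F} (hlt : D < L) : Nat.card D ^ 2 ≤ Nat.card L := by
  classical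
  have hne : D.comap L.subtype ≠ ⊤ := fun h => hlt.not_ge fun x hx => by
    have : (⟨x, hx⟩ : L) ∈ D.comap L.subtype := h ▸ trivial
    exact this
  have := Lie.RegUnip.natCard_subfield_sq_le (F := L) hne
  rwa [Nat.card_congr (show (D.comap L.subtype) ≃ D from
    { toFun := fun y => ⟨y.1.1, y.2⟩
      invFun := fun y => ⟨⟨y.1, hlt.le y.2⟩, y.2⟩
      left_inv := fun _ => rfl
      right_inv := fun _ => rfl })] at this

theorem natCard_eq_pow (p : ℕ) [Fact p.Prime] [CharP F p] (L : Subfield F) : ∃ d : ℕ, 1 ≤ d ∧ Nat.card L = p ^ d := by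
  classical
  haveI : CharP L p := L.subtype.charP L.subtype.injective p
  obtain ⟨n, -, hn⟩ := FiniteField.card L p
  exact ⟨n, n.pos, by rw [Nat.card_eq_fintype_card, hn]⟩

theorem le_three_pow_half : ∀ k : ℕ, 2 ≤ k → k ≤ 3 ^ (k / 2)
  | 0, h => by omega
  | 1, h => by omega
  | 2, _ => by norm_num
  | 3, _ => by norm_num
  | k + 4, _ => by
    have ih := le_three_pow_half (k + 2) (by omega)
    rw [show (k + 4) / 2 = (k + 2) / 2 + 1 by omega, pow_succ]
    have : 1 ≤ 3 ^ ((k + 2) / 2) := Nat.one_le_pow _ _ (by norm_num)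
    omega

theorem mem_of_small (h2 : (2 : F) ≠ 0) (L : Subfield F) {a : F}
    (h : ∀ s ∈ L, s ≠ 0 → Nat.card (gen (s * a)) ≤ Nat.card L) : a ∈ L := by
  classical
  by_contra ha
  set p := ringChar F
  haveI : Fact p.Prime := ⟨CharP.char_is_prime F p⟩
  have hp3 : 3 ≤ p := by
    rcases (Fact.out : p.Prime).two_le.lt_or_eq with h' | h'
    · exact h'
    · exact absurd (by exact_mod_cast h'.symm ▸ CharP.cast_eq_zero F p) h2
  obtain ⟨k, hk1, hk⟩ := natCard_eq_pow p L
  let S : Finset F := Finset.univ.filter fun s => s ∈ L ∧ s ≠ 0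
  let f : F → ℕ := fun s => Nat.card (gen (s * a))
  have hS : S.card + 1 = p ^ k := by
    have h0 : Finset.univ.filter (fun s => s ∈ L) = insert 0 S := by
      ext x
      by_cases hx : x = 0 <;> simp [S, hx, L.zero_mem]
    rw [← hk, Nat.card_eq_fintype_card, Fintype.card_subtype, h0, Finset.card_insert_of_notMem (by simp [S])]
  have hne : ∀ s ∈ S, gen (s * a) ≠ L := fun s hs e => by
    simp only [S, Finset.mem_filter] at hs
    have := L.mul_mem (L.inv_mem hs.2.1) (e ▸ self_mem_gen (s * a))
    rw [← mul_assoc, inv_mul_cancel₀ hs.2.2, one_mul] at this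
    exact ha this
  have himg : S.image f ⊆ (Finset.Ico 1 k).image fun d => p ^ d := by
    intro n hn
    obtain ⟨s, hs, rfl⟩ := Finset.mem_image.1 hn
    obtain ⟨d, hd1, hd⟩ := natCard_eq_pow p (gen (s * a))
    have hs' := hs
    simp only [S, Finset.mem_filter] at hs
    have hle := h s hs.2.1 hs.2.2
    rw [hd, hk] at hle
    have hdk : d ≤ k := (Nat.pow_le_pow_iff_right (by omega)).1 hle
    have hdk' : d ≠ k := fun e => hne s hs' (eq_of_natCard (by rw [hd, hk, e]))
    exact Finset.mem_image.2 ⟨d, Finset.mem_Ico.2 ⟨hd1, by omega⟩, hd.symm⟩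
  have hfib : ∀ n ∈ S.image f, (S.filter fun s => f s = n).card + 1 ≤ p ^ (k / 2) := by
    intro n hn
    obtain ⟨s₁, hs₁, rfl⟩ := Finset.mem_image.1 hn
    set D := gen (s₁ * a) ⊓ L with hD
    have hlt : D < L := by
      refine inf_le_right.lt_of_ne fun e => hne s₁ hs₁ ?_
      have hLE : L ≤ gen (s₁ * a) := by
        calc L = D := e.symm
          _ ≤ _ := inf_le_left
      simp only [S, Finset.mem_filter] at hs₁
      refine (le_antisymm hLE ?_).symm
      intro x hx
      have hle := h s₁ hs₁.2.1 hs₁.2.2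
      have hsub : (L : Set F) ⊆ (gen (s₁ * a) : Set F) := hLE
      have heq : (L : Set F) = (gen (s₁ * a) : Set F) :=
        Set.eq_of_subset_of_ncard_le hsub (by simpa [← Nat.card_coe_set_eq] using hle) (Set.toFinite _)
      exact (Set.ext_iff.1 heq x).2 hx
    obtain ⟨e, he1, he⟩ := natCard_eq_pow p D
    have hsq := natCard_sq_le_of_lt hlt
    rw [he, hk, ← pow_mul] at hsq
    have he2 : e ≤ k / 2 := by
      have := (Nat.pow_le_pow_iff_right (show 1 < p by omega)).1 hsq
      omega
    have h1 : s₁ ∈ L ∧ s₁ ≠ 0 := (Finset.mem_filter.1 hs₁).2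
    have hinj : (S.filter fun s => f s = f s₁).card ≤ (Finset.univ.filter fun x => x ∈ D ∧ x ≠ 0).card := by
      refine Finset.card_le_card_of_injOn (fun s => s / s₁) ?_ ?_
      · intro s hs
        simp only [Finset.coe_filter, Set.mem_setOf_eq] at hs ⊢
        obtain ⟨hsS, hfs⟩ := hs
        simp only [S, Finset.mem_filter] at hsS
        have hE : gen (s * a) = gen (s₁ * a) := eq_of_natCard hfs
        refine ⟨Finset.mem_univ _, Subfield.mem_inf.2 ⟨?_, L.div_mem hsS.2.1 h1.1⟩, div_ne_zero hsS.2.2 h1.2⟩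
        have ha0 : a ≠ 0 := fun e => ha (e ▸ L.zero_mem)
        rw [show s / s₁ = s * a / (s₁ * a) by field_simp]
        exact Subfield.div_mem _ (hE ▸ self_mem_gen _) (self_mem_gen _)
      · intro x _ y _ hxy
        exact (div_left_inj' h1.2).1 hxy
    have hDc : (Finset.univ.filter fun x => x ∈ D ∧ x ≠ 0).card + 1 = Nat.card D := by
      have h0 : Finset.univ.filter (fun x => x ∈ D) = insert 0 (Finset.univ.filter fun x => x ∈ D ∧ x ≠ 0) := by
        ext x
        by_cases hx : x = 0 <;> simp [hx, D.zero_mem]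
      rw [Nat.card_eq_fintype_card, Fintype.card_subtype, h0, Finset.card_insert_of_notMem (by simp)]
    have : p ^ e ≤ p ^ (k / 2) := Nat.pow_le_pow_right (by omega) he2
    omega
  have himgc : (S.image f).card ≤ k - 1 :=
    (Finset.card_le_card himg).trans (Finset.card_image_le.trans (by simp))
  have hsum : S.card ≤ (S.image f).card * (p ^ (k / 2) - 1) := by
    rw [mul_comm]
    exact Finset.card_le_mul_card_image S _ fun n hn => Nat.le_sub_one_of_lt (hfib n hn)
  have hbound : S.card ≤ (k - 1) * (p ^ (k / 2) - 1) := hsum.trans (Nat.mul_le_mul_right _ himgc)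
  rcases eq_or_lt_of_le hk1 with rfl | hk2
  · rw [pow_one] at hS
    simp only [Nat.sub_self, Nat.zero_mul, Nat.le_zero] at hbound
    omega
  · have h3 : k ≤ p ^ (k / 2) := (le_three_pow_half k hk2).trans (Nat.pow_le_pow_left hp3 _)
    have h4 : p ^ (k / 2) * p ^ (k / 2) ≤ p ^ k := by
      rw [← pow_add]
      exact Nat.pow_le_pow_right (by omega) (by omega)
    have h5 : (k - 1) * (p ^ (k / 2) - 1) ≤ (p ^ (k / 2) - 1) * (p ^ (k / 2) - 1) := Nat.mul_le_mul_right _ (by omega)
    have h6 : 2 ≤ p ^ (k / 2) := le_trans (by omega) h3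
    obtain ⟨c, hc⟩ : ∃ c, p ^ (k / 2) = c + 1 := ⟨_, (Nat.sub_add_cancel (by omega : 1 ≤ p ^ (k / 2))).symm⟩
    rw [hc] at h4 h5 hbound
    simp only [Nat.add_sub_cancel] at h5 hbound
    nlinarith

end Cfsg.Agent.Classical.Bloom
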