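import Cfsg.Agent.Lib.Classical.Bloom.Exceptional
import Cfsg.Agent.Lib.Classical.Bloom.Conj

/-!
A group generated by transvections containing the standard `SL(2, L)`, with `L` largest possible.
-/

set_option autoImplicit false

namespace Cfsg.Agent.Classical.Bloom

open Matrix

variable {F : Type*} [Field F]

local notation "SL₃" => Matrix.SpecialLinearGroup (Fin 3) F
local notation "M₃" => Matrix (Fin 3) (Fin 3) F

/-- The standing hypothesis in standard coordinates. -/
structure Frame (Γ : Subgroup SL₃) (L : Subfield F) : Prop where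
  two : (2 : F) ≠ 0
  gen : Γ = Subgroup.closure (tvs Γ)
  irr : Irr Γ
  upper : ∀ c ∈ L, InT Γ ![1, 0, 0] ![0, c, 0]
  lower : ∀ c ∈ L, InT Γ ![0, 1, 0] ![c, 0, 0]
  bound : ∀ x ∈ prods Γ, Nat.card (Bloom.gen x) ≤ Nat.card L

namespace Frame

variable {Γ : Subgroup (Matrix.SpecialLinearGroup (Fin 3) F)} {L : Subfield F} (K : Frame Γ L)
  {v φ w ψ : Fin 3 → F}

include K in
/-- Against a transvection group with coefficients in `L` the products lie in `L`. -/
theorem line [Fintype F] (hw : ∀ c ∈ L, InT Γ w (c • ψ)) (h : InT Γ v φ) :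
    (φ ⬝ᵥ w) * (ψ ⬝ᵥ v) ∈ L := by
  rcases eq_or_ne ((φ ⬝ᵥ w) * (ψ ⬝ᵥ v)) 0 with e | e
  · rw [e]; exact L.zero_mem
  · refine mem_of_small K.two L fun s hs hs0 => K.bound _ ⟨mul_ne_zero hs0 e, v, φ, w, _, h, hw s hs, ?_⟩
    rw [smul_dotProduct, smul_eq_mul]
    ring

include K in
/-- The roots with rational centre. -/
theorem root {a b : F} (ha : a ∈ L) (hb : b ∈ L) (c : F) (hc : c ∈ L) :
    InT Γ ![a, b, 0] (c • ![-b, a, 0]) := by
  rcases eq_or_ne a 0 with rfl | ha0
  · rcases eq_or_ne b 0 with rfl | hb0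
    · convert inT_zero_left Γ (c • ![-(0 : F), 0, 0]) using 1
      funext i; fin_cases i <;> simp
    · have h := (K.lower (-(c * b * b)) (L.neg_mem (L.mul_mem (L.mul_mem hc hb) hb))).smul_comm
        (a := b) (b := b⁻¹) (mul_inv_cancel₀ hb0)
      convert h using 1 <;> (funext i; fin_cases i <;> simp <;> field_simp)
  · have h1 := (K.upper (c * a * a) (L.mul_mem (L.mul_mem hc ha) ha)).conj_tv
      (K.lower (b / a) (L.div_mem hb ha))
    have h := h1.smul_comm (a := a) (b := a⁻¹) (mul_inv_cancel₀ ha0)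
    convert h using 1 <;>
      (funext i; fin_cases i <;> simp [dotProduct, Fin.sum_univ_three, vecHead, vecTail] <;> field_simp)

include K in
theorem root_one {a b : F} (ha : a ∈ L) (hb : b ∈ L) : InT Γ ![a, b, 0] ![-b, a, 0] := by
  simpa using K.root ha hb 1 L.one_mem

include K in
/-- The entries in the upper block of a transvection. -/
theorem block_mem [Fintype F] (h : InT Γ v φ) :
    φ 0 * v 1 ∈ L ∧ φ 1 * v 0 ∈ L ∧ φ 0 * v 0 - φ 1 * v 1 ∈ L := by
  have e : ∀ a b : F, a ∈ L → b ∈ L → (φ 0 * a + φ 1 * b) * (-b * v 0 + a * v 1) ∈ L := fun a b ha hb => by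
    have := K.line (fun c hc => K.root ha hb c hc) h
    simpa [dotProduct, Fin.sum_univ_three] using this
  have h1 := e 1 0 L.one_mem L.zero_mem
  have h2 := e 0 1 L.zero_mem L.one_mem
  have h3 := e 1 1 L.one_mem L.one_mem
  ring_nf at h1 h2 h3
  refine ⟨by simpa [mul_comm] using h1, by simpa [mul_comm] using L.neg_mem h2, ?_⟩
  have := L.neg_mem (L.sub_mem (L.sub_mem h3 h1) h2)
  convert this using 1
  ring

include K in
theorem dual : Frame (dualGroup Γ) L := by
  refine ⟨K.two, dual_gen K.gen, dual_irr K.irr, fun c hc => ?_, fun c hc => ?_,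
    fun x hx => K.bound x (prods_dual Γ hx)⟩
  · rcases eq_or_ne c 0 with rfl | hc0
    · convert inT_zero_right (dualGroup Γ) ![(1 : F), 0, 0] using 1
      funext i; fin_cases i <;> simp
    · have h := (K.lower c hc).dual.smul_comm (a := c⁻¹) (b := c) (inv_mul_cancel₀ hc0)
      convert h using 1 <;> (funext i; fin_cases i <;> simp [hc0])
  · rcases eq_or_ne c 0 with rfl | hc0
    · convert inT_zero_right (dualGroup Γ) ![(0 : F), 1, 0] using 1
      funext i; fin_cases i <;> simp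
    · have h := (K.upper c hc).dual.smul_comm (a := c⁻¹) (b := c) (inv_mul_cancel₀ hc0)
      convert h using 1 <;> (funext i; fin_cases i <;> simp [hc0])

end Frame

/-- Two transvections in general position, moved to standard coordinates. -/
theorem exists_coords {Γ : Subgroup SL₃} {v φ w ψ : Fin 3 → F} (hφ : φ ⬝ᵥ v = 0) (hψ : ψ ⬝ᵥ w = 0)
    (hα : φ ⬝ᵥ w ≠ 0) (hβ : ψ ⬝ᵥ v ≠ 0) :
    ∃ P : GL (Fin 3) F, ∀ c : F,
      (InT Γ v (c • φ) → InT (moveGL P Γ) ![1, 0, 0] ![0, c * ((φ ⬝ᵥ w) * (ψ ⬝ᵥ v)), 0]) ∧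
      (InT Γ w (c • ψ) → InT (moveGL P Γ) ![0, 1, 0] ![c, 0, 0]) := by
  set u : Fin 3 → F := crossProduct φ ψ with hu
  have hφu : φ ⬝ᵥ u = 0 := dot_self_cross φ ψ
  have hψu : ψ ⬝ᵥ u = 0 := dot_cross_self φ ψ
  have hu0 : u ≠ 0 := fun e => by
    have := cross_cross_eq_smul_sub_smul φ ψ v
    rw [← hu, e, hφ, zero_smul, zero_sub] at this
    rw [map_zero, LinearMap.zero_apply, eq_comm, neg_eq_zero, smul_eq_zero] at this
    rcases this with h | h
    · exact hβ h
    · exact hα (by rw [h, zero_dotProduct])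
  set β := ψ ⬝ᵥ v with hβdef
  let Q : M₃ := Matrix.of fun i j => ![v, β • w, u] j i
  have hQ : ∀ x : Fin 3 → F, Q *ᵥ x = x 0 • v + x 1 • (β • w) + x 2 • u := fun x => by
    funext i
    simp only [Q, mulVec, dotProduct, Fin.sum_univ_three, Matrix.of_apply, Matrix.cons_val_zero, Matrix.cons_val_one,
      Matrix.cons_val, Pi.add_apply, Pi.smul_apply, smul_eq_mul]
    ring
  have hinj : Function.Injective Q.mulVec := fun x y e => by
    have e0 : Q *ᵥ (x - y) = 0 := by rw [mulVec_sub, e, sub_self]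
    rw [hQ] at e0
    set z := x - y with hz
    have e1 := congrArg (φ ⬝ᵥ ·) e0
    have e2 := congrArg (ψ ⬝ᵥ ·) e0
    simp [dotProduct_add, dotProduct_smul, hφ, hψ, hφu, hψu, ← hβdef, hα, hβ] at e1 e2
    rw [e1, e2, zero_smul, zero_smul, zero_add, zero_add, smul_eq_zero] at e0
    refine sub_eq_zero.1 (show z = 0 from funext fun i => ?_)
    fin_cases i
    · exact e2
    · exact e1
    · exact e0.resolve_right hu0
  obtain ⟨Qu, hQu⟩ := Matrix.mulVec_injective_iff_isUnit.1 hinj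
  have key : ∀ x y : Fin 3 → F, Q *ᵥ x = y → ((Qu⁻¹ : GL (Fin 3) F) : M₃) *ᵥ y = x := fun x y e => by
    rw [← e, mulVec_mulVec, ← hQu, ← Units.val_mul, inv_mul_cancel, Units.val_one, one_mulVec]
  refine ⟨Qu⁻¹, fun c => ⟨fun h => ?_, fun h => ?_⟩⟩
  · have h' := h.moveGL Qu⁻¹
    rw [key ![1, 0, 0] v (by rw [hQ]; simp), inv_inv, hQu] at h'
    convert h' using 1
    funext j
    show _ = (c • φ) ⬝ᵥ (fun i => Q i j)
    have hβw : (fun i => β * w i) = β • w := rfl
    fin_cases j <;> simp [Q, hβw, smul_dotProduct, dotProduct_smul, hφ, hφu]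
    all_goals ring
  · have h' := (h.smul_comm (a := β) (b := β⁻¹) (mul_inv_cancel₀ hβ)).moveGL Qu⁻¹
    rw [key ![0, 1, 0] (β • w) (by rw [hQ]; simp), inv_inv, hQu] at h'
    convert h' using 1
    funext j
    show _ = (β⁻¹ • c • ψ) ⬝ᵥ (fun i => Q i j)
    have hβw : (fun i => β * w i) = β • w := rfl
    fin_cases j <;> simp [Q, hβw, smul_dotProduct, dotProduct_smul, hψ, hψu, ← hβdef]
    all_goals field_simp

/-- An irreducible group generated by transvections in odd characteristic has a frame. -/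
theorem exists_frame [Fintype F] (h2 : (2 : F) ≠ 0) {Γ : Subgroup SL₃}
    (hgen : Γ = Subgroup.closure (tvs Γ)) (hirr : Irr Γ) :
    ∃ (P : GL (Fin 3) F) (L : Subfield F), Frame (moveGL P Γ) L := by
  classical
  obtain ⟨x₀, hx₀, hmax⟩ := Set.exists_max_image (prods Γ) (fun x => Nat.card (gen x)) (Set.toFinite _)
    (prods_nonempty hgen hirr)
  set n := Nat.card (gen x₀) with hn
  by_cases hok : ∃ x ∈ prods Γ, Nat.card (gen x) = n ∧ ¬ (n = 9 ∧ x ^ 2 = -1)
  · obtain ⟨x, hx, hxn, hxe⟩ := hok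
    obtain ⟨hx0, v, φ, w, ψ, h, h', e⟩ := hx
    subst e
    obtain ⟨hα, hβ⟩ := mul_ne_zero_iff.1 hx0
    have hfull := pair_full h2 h h' hα hβ (by rw [hxn]; exact hxe)
    obtain ⟨P, hP⟩ := exists_coords (Γ := Γ) h.incident h'.incident hα hβ
    refine ⟨P, gen ((φ ⬝ᵥ w) * (ψ ⬝ᵥ v)), h2, tvs_moveGL_gen P hgen, hirr.moveGL P, fun c hc => ?_, fun c hc => ?_,
      fun y hy => by rw [prods_moveGL] at hy; exact hxn ▸ hmax y hy⟩
    · have := (hP (c / ((φ ⬝ᵥ w) * (ψ ⬝ᵥ v)))).1 (hfull _ (Subfield.div_mem _ hc (self_mem_gen _))).1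
      rwa [div_mul_cancel₀ _ hx0] at this
    · exact (hP c).2 (hfull c hc).2
  · exfalso
    push_neg at hok
    obtain ⟨hn9, hi⟩ := hok x₀ hx₀ rfl
    haveI h3 : CharP F 3 := by
      have hp : (ringChar F).Prime := CharP.char_is_prime F _
      haveI : Fact (ringChar F).Prime := ⟨hp⟩
      obtain ⟨d, hd1, hd⟩ := natCard_eq_pow (ringChar F) (gen x₀)
      have h3 : ringChar F ∣ 3 ^ 2 := by
        rw [show (3 : ℕ) ^ 2 = 9 from rfl, ← hn9, hn, hd]; exact dvd_pow_self _ (by omega)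
      have := (Nat.prime_dvd_prime_iff_eq hp Nat.prime_three).1 (hp.dvd_of_dvd_pow h3)
      exact this ▸ ringChar.charP F
    obtain ⟨hi0, v, φ, w, ψ, h, h', e⟩ := hx₀
    subst e
    obtain ⟨hα, hβ⟩ := mul_ne_zero_iff.1 hi0
    obtain ⟨P, hP⟩ := exists_coords (Γ := Γ) h.incident h'.incident hα hβ
    refine exceptional_false (tvs_moveGL_gen P hgen) (hirr.moveGL P) hi ?_ ?_ ?_
    · simpa using (hP 1).1 (by simpa using h)
    · simpa using (hP 1).2 (by simpa using h')
    · intro v' φ' w' ψ' k k'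
      by_cases hy0 : (φ' ⬝ᵥ w') * (ψ' ⬝ᵥ v') = 0
      · rw [hy0]; simp
      have hy : (φ' ⬝ᵥ w') * (ψ' ⬝ᵥ v') ∈ prods Γ := by
        rw [← prods_moveGL P Γ]; exact ⟨hy0, v', φ', w', ψ', k, k', rfl⟩
      have hy9 := hmax _ hy
      set y := (φ' ⬝ᵥ w') * (ψ' ⬝ᵥ v') with hydef
      obtain ⟨d, hd1, hd⟩ := natCard_eq_pow 3 (gen y)
      have hy9' : 3 ^ d ≤ 3 ^ 2 := by rw [← hd]; exact hy9.trans_eq hn9
      clear hy9
      rename' hy9' => hy9
      have hd2 : d ≤ 2 := (Nat.pow_le_pow_iff_right (by norm_num)).1 hy9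
      interval_cases d
      · have h3' : y ^ 3 = y := by
          have := (mem_iff_pow_card (gen y)).1 (self_mem_gen y)
          rwa [hd, pow_one] at this
        linear_combination (y ^ 2 + 1) * h3'
      · have h4 := (hok _ hy (by rw [hn9, hd]; rfl)).2
        linear_combination (y * (y ^ 2 - 1)) * h4

end Cfsg.Agent.Classical.Bloom
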