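import Mathlib
import Cfsg.Prelude.Def_LieClassical
import Cfsg.Agent.Lib.Invol.TwoSylowGLTwo

/-!
The group of order 96 generated by `diag(i, 1)` and the unitary reflection `(1/2)[[1+i, 1-i], [1-i, 1+i]]`, and its
identification with `GU(2, 3)`.
-/

set_option autoImplicit false
set_option maxRecDepth 20000
set_option maxHeartbeats 2000000

namespace Cfsg.Agent.Classical.Bloom.Gauss

open Matrix

/-- Twice the entries, as Gaussian integers. -/
def codes : List (List (ℤ × ℤ)) :=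
  [[(2, 0), (0, 0), (0, 0), (2, 0)],
   [(0, 2), (0, 0), (0, 0), (2, 0)],
   [(1, 1), (1, -1), (1, -1), (1, 1)],
   [(-2, 0), (0, 0), (0, 0), (2, 0)],
   [(-1, 1), (1, -1), (1, 1), (1, 1)],
   [(-1, 1), (1, 1), (1, -1), (1, 1)],
   [(0, 0), (2, 0), (2, 0), (0, 0)],
   [(0, -2), (0, 0), (0, 0), (2, 0)],
   [(-1, -1), (1, -1), (-1, 1), (1, 1)],
   [(-1, -1), (1, 1), (1, 1), (1, 1)],
   [(0, 0), (2, 0), (0, 2), (0, 0)],
   [(-1, -1), (-1, 1), (1, -1), (1, 1)],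
   [(0, 0), (0, 2), (2, 0), (0, 0)],
   [(1, -1), (1, 1), (1, 1), (1, -1)],
   [(1, -1), (1, -1), (-1, -1), (1, 1)],
   [(1, -1), (1, 1), (-1, 1), (1, 1)],
   [(0, 0), (2, 0), (-2, 0), (0, 0)],
   [(1, -1), (-1, 1), (1, 1), (1, 1)],
   [(0, 0), (0, 2), (0, 2), (0, 0)],
   [(1, 1), (1, 1), (-1, 1), (1, -1)],
   [(1, -1), (-1, -1), (1, -1), (1, 1)],
   [(0, -2), (0, 0), (0, 0), (0, 2)],
   [(0, 0), (-2, 0), (2, 0), (0, 0)],
   [(1, 1), (-1, 1), (1, 1), (1, -1)],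
   [(1, 1), (1, 1), (-1, -1), (1, 1)],
   [(0, 0), (2, 0), (0, -2), (0, 0)],
   [(1, 1), (-1, 1), (-1, 1), (1, 1)],
   [(0, 0), (0, 2), (-2, 0), (0, 0)],
   [(-1, 1), (1, 1), (-1, -1), (1, -1)],
   [(1, 1), (-1, -1), (1, 1), (1, 1)],
   [(2, 0), (0, 0), (0, 0), (0, 2)],
   [(0, 0), (-2, 0), (0, 2), (0, 0)],
   [(-1, 1), (-1, 1), (-1, 1), (1, -1)],
   [(1, -1), (1, -1), (1, -1), (-1, 1)],
   [(1, -1), (1, 1), (-1, -1), (-1, 1)],
   [(0, 0), (0, -2), (2, 0), (0, 0)],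
   [(1, -1), (-1, -1), (1, 1), (-1, 1)],
   [(-1, 1), (-1, -1), (1, 1), (1, -1)],
   [(-1, 1), (-1, 1), (-1, -1), (1, 1)],
   [(0, 0), (0, 2), (0, -2), (0, 0)],
   [(-1, -1), (1, 1), (1, -1), (1, -1)],
   [(-1, 1), (-1, -1), (-1, 1), (1, 1)],
   [(0, 2), (0, 0), (0, 0), (0, 2)],
   [(0, 0), (-2, 0), (-2, 0), (0, 0)],
   [(-1, -1), (-1, 1), (-1, -1), (1, -1)],
   [(1, 1), (1, -1), (1, 1), (-1, 1)],
   [(1, 1), (1, 1), (1, -1), (-1, 1)],
   [(0, 0), (0, -2), (0, 2), (0, 0)],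
   [(1, 1), (-1, -1), (-1, 1), (-1, 1)],
   [(-1, -1), (-1, -1), (-1, 1), (1, -1)],
   [(1, -1), (1, 1), (1, -1), (-1, -1)],
   [(1, 1), (-1, 1), (-1, -1), (-1, 1)],
   [(1, -1), (1, -1), (1, 1), (-1, -1)],
   [(2, 0), (0, 0), (0, 0), (-2, 0)],
   [(-1, -1), (1, -1), (1, 1), (1, -1)],
   [(-1, -1), (-1, -1), (-1, -1), (1, 1)],
   [(-2, 0), (0, 0), (0, 0), (0, 2)],
   [(0, 0), (-2, 0), (0, -2), (0, 0)],
   [(1, -1), (-1, 1), (1, -1), (1, -1)],
   [(-1, 1), (1, -1), (-1, 1), (-1, 1)],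
   [(-1, 1), (1, 1), (1, 1), (-1, 1)],
   [(0, 0), (0, -2), (-2, 0), (0, 0)],
   [(-1, 1), (-1, -1), (-1, -1), (-1, 1)],
   [(1, -1), (-1, -1), (-1, -1), (1, -1)],
   [(1, 1), (1, 1), (1, 1), (-1, -1)],
   [(-1, 1), (-1, 1), (1, -1), (-1, 1)],
   [(1, 1), (1, -1), (-1, 1), (-1, -1)],
   [(0, 2), (0, 0), (0, 0), (-2, 0)],
   [(1, -1), (1, -1), (-1, 1), (1, -1)],
   [(1, 1), (-1, 1), (1, -1), (-1, -1)],
   [(2, 0), (0, 0), (0, 0), (0, -2)],
   [(-1, -1), (1, -1), (-1, -1), (-1, 1)],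
   [(-1, -1), (1, 1), (-1, 1), (-1, 1)],
   [(0, 0), (0, -2), (0, -2), (0, 0)],
   [(-1, -1), (-1, -1), (1, -1), (-1, 1)],
   [(1, 1), (-1, -1), (1, -1), (1, -1)],
   [(-1, 1), (1, 1), (-1, 1), (-1, -1)],
   [(-1, -1), (-1, 1), (1, 1), (-1, 1)],
   [(-1, 1), (1, -1), (-1, -1), (-1, -1)],
   [(-2, 0), (0, 0), (0, 0), (-2, 0)],
   [(1, 1), (1, -1), (-1, -1), (1, -1)],
   [(-1, 1), (-1, 1), (1, 1), (-1, -1)],
   [(0, 2), (0, 0), (0, 0), (0, -2)],
   [(-1, 1), (-1, -1), (1, -1), (-1, -1)],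
   [(-1, -1), (1, 1), (-1, -1), (-1, -1)],
   [(1, -1), (-1, 1), (-1, 1), (-1, 1)],
   [(-1, -1), (1, -1), (1, -1), (-1, -1)],
   [(0, -2), (0, 0), (0, 0), (-2, 0)],
   [(-1, 1), (1, -1), (1, -1), (1, -1)],
   [(-1, -1), (-1, 1), (-1, 1), (-1, -1)],
   [(-2, 0), (0, 0), (0, 0), (0, -2)],
   [(-1, -1), (-1, -1), (1, 1), (-1, -1)],
   [(1, -1), (-1, 1), (-1, -1), (-1, -1)],
   [(0, -2), (0, 0), (0, 0), (0, -2)],
   [(1, -1), (-1, -1), (-1, 1), (-1, -1)],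
   [(1, 1), (-1, -1), (-1, -1), (-1, -1)]]

/-- Left products by the two generators. -/
def nextD : List ℕ :=
  [1, 3, 5, 7, 9, 11, 12, 0, 15, 17, 18, 20, 22, 23, 24, 26, 27, 29, 31, 32, 2, 30, 35, 37, 38, 39, 41, 43, 44, 4, 42, 47, 49, 46, 51, 6, 45, 54, 55, 57, 58, 8, 56, 61, 63, 60, 65, 10, 59, 68, 69, 62, 64, 67, 13, 14, 21, 73, 75, 72, 77, 16, 71, 80, 81, 74, 76, 79, 19, 83, 82, 34, 85, 25, 33, 88, 89, 36, 84, 87, 28, 91, 90, 86, 92, 48, 50, 53, 40, 94, 93, 52, 95, 70, 66, 78]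

def nextR : List ℕ :=
  [2, 4, 6, 8, 10, 9, 13, 14, 16, 15, 19, 21, 17, 0, 25, 24, 28, 30, 26, 1, 33, 34, 36, 29, 5, 40, 42, 38, 3, 45, 46, 48, 41, 50, 39, 52, 53, 47, 56, 11, 7, 59, 60, 62, 55, 64, 12, 66, 67, 61, 58, 65, 70, 69, 68, 71, 72, 74, 20, 76, 18, 78, 79, 73, 23, 77, 82, 81, 80, 22, 75, 84, 27, 86, 87, 35, 32, 85, 90, 89, 88, 31, 37, 91, 44, 51, 93, 92, 54, 43, 49, 94, 57, 63, 95, 83]

/-- The spanning tree. -/
def parent : List ℕ :=
  [0, 0, 0, 1, 1, 2, 2, 3, 3, 4, 4, 5, 6, 6, 7, 8, 8, 9, 10, 10, 11, 11, 12, 13, 14, 14, 15, 16, 16, 17, 17, 18, 19, 20, 21, 22, 22, 23, 24, 25, 25, 26, 26, 27, 28, 29, 30, 31, 31, 32, 33, 34, 35, 36, 37, 38, 38, 39, 40, 41, 42, 43, 43, 44, 45, 46, 47, 48, 49, 50, 52, 55, 56, 57, 57, 58, 59, 60, 61, 62, 63, 64, 66, 69, 71, 72, 73, 74, 75, 76, 78, 81, 84, 86, 89, 92]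

def edge : List ℕ :=
  [0, 0, 1, 0, 1, 0, 1, 0, 1, 0, 1, 0, 0, 1, 1, 0, 1, 0, 0, 1, 0, 1, 0, 0, 0, 1, 0, 0, 1, 0, 1, 0, 0, 1, 1, 0, 1, 0, 0, 0, 1, 0, 1, 0, 0, 1, 1, 0, 1, 0, 1, 0, 1, 1, 0, 0, 1, 0, 0, 1, 1, 0, 1, 0, 1, 0, 1, 1, 0, 0, 1, 1, 1, 0, 1, 0, 1, 0, 1, 1, 0, 0, 1, 0, 1, 0, 1, 1, 0, 0, 1, 0, 0, 1, 0, 0]

/-- An entry of a code. -/
def cd (k : Fin 96) (r c : Fin 2) : ℤ × ℤ := (codes.getD k.val []).getD (2 * r.val + c.val) (0, 0)

/-- A number at an index. -/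
def at' (L : List ℕ) (k : Fin 96) : Fin 96 := Fin.ofNat 96 (L.getD k.val 0)

/-- The Gaussian product of a row and a column. -/
def rc (g k : Fin 96) (r c : Fin 2) : ℤ × ℤ :=
  ((cd g r 0).1 * (cd k 0 c).1 - (cd g r 0).2 * (cd k 0 c).2 +
      ((cd g r 1).1 * (cd k 1 c).1 - (cd g r 1).2 * (cd k 1 c).2),
    (cd g r 0).1 * (cd k 0 c).2 + (cd g r 0).2 * (cd k 0 c).1 +
      ((cd g r 1).1 * (cd k 1 c).2 + (cd g r 1).2 * (cd k 1 c).1))

theorem mul_ok : ∀ k r c, rc 1 k r c = (2 * (cd (at' nextD k) r c).1, 2 * (cd (at' nextD k) r c).2) ∧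
    rc 2 k r c = (2 * (cd (at' nextR k) r c).1, 2 * (cd (at' nextR k) r c).2) := by decide +kernel

theorem tree_ok : ∀ k : Fin 96, k ≠ 0 → (at' parent k).val < k.val ∧
    k = if edge.getD k.val 0 = 0 then at' nextD (at' parent k) else at' nextR (at' parent k) := by decide +kernel

theorem head_ok : cd 0 = ![![(2, 0), (0, 0)], ![(0, 0), (2, 0)]] ∧ cd 1 = ![![(0, 2), (0, 0)], ![(0, 0), (2, 0)]] ∧
    cd 2 = ![![(1, 1), (1, -1)], ![(1, -1), (1, 1)]] := by decide +kernel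

theorem sep_ok : ∀ k l : Fin 96, k ≠ l → ∃ r c : Fin 2, ∃ n : Fin 6,
    ((cd k r c).1 - (cd l r c).1) ^ 2 + ((cd k r c).2 - (cd l r c).2) ^ 2 = 2 ^ n.val := by decide +kernel

variable {K : Type*} [Field K]

/-- The matrix of a code. -/
def val (i : K) (k : Fin 96) : Matrix (Fin 2) (Fin 2) K :=
  Matrix.of fun r c => (((cd k r c).1 : K) + ((cd k r c).2 : K) * i) / 2

variable {i : K} (hi : i ^ 2 = -1) (h2 : (2 : K) ≠ 0)

include hi h2

theorem val_mul {g k l : Fin 96} (h : ∀ r c, rc g k r c = (2 * (cd l r c).1, 2 * (cd l r c).2)) :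
    val i g * val i k = val i l := by
  ext r c
  have e1 : ((rc g k r c).1 : K) = 2 * ((cd l r c).1 : K) := by rw [h r c]; push_cast; rfl
  have e2 : ((rc g k r c).2 : K) = 2 * ((cd l r c).2 : K) := by rw [h r c]; push_cast; rfl
  simp only [rc, Int.cast_add, Int.cast_sub, Int.cast_mul] at e1 e2
  simp only [val, Matrix.mul_apply, Fin.sum_univ_two, Matrix.of_apply]
  field_simp
  linear_combination e1 + i * e2 + (((cd g r 0).2 : K) * ((cd k 0 c).2 : K) + ((cd g r 1).2 : K) * ((cd k 1 c).2 : K)) * hi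

omit hi in
theorem val_zero : val i 0 = 1 := by
  ext r c
  fin_cases r <;> fin_cases c <;> simp [val, head_ok.1, div_self h2]

omit hi in
theorem val_one : val i 1 = !![i, 0; 0, 1] := by
  ext r c
  fin_cases r <;> fin_cases c <;> simp [val, head_ok.2.1, h2]

omit hi in
theorem val_two : val i 2 = !![(1 + i) / 2, (1 - i) / 2; (1 - i) / 2, (1 + i) / 2] := by
  ext r c
  fin_cases r <;> fin_cases c <;> simp [val, head_ok.2.2, sub_eq_add_neg]

theorem val_inj {k l : Fin 96} (h : val i k = val i l) : k = l := by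
  by_contra hk
  obtain ⟨r, c, n, hn⟩ := sep_ok k l hk
  have e := congrFun (congrFun h r) c
  simp only [val, Matrix.of_apply] at e
  have e' : (((cd k r c).1 - (cd l r c).1 : ℤ) : K) + (((cd k r c).2 - (cd l r c).2 : ℤ) : K) * i = 0 := by
    push_cast
    field_simp at e
    linear_combination e
  have hz : (((((cd k r c).1 - (cd l r c).1) ^ 2 + ((cd k r c).2 - (cd l r c).2) ^ 2 : ℤ)) : K) = 0 := by
    push_cast at e' ⊢
    linear_combination (((cd k r c).1 : K) - ((cd l r c).1 : K) - (((cd k r c).2 : K) - ((cd l r c).2 : K)) * i) * e' +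
      (((cd k r c).2 : K) - ((cd l r c).2 : K)) ^ 2 * hi
  rw [hn] at hz
  push_cast at hz
  exact pow_ne_zero _ h2 hz

theorem val_eq_one {k : Fin 96} (h : val i k = 1) : k = 0 :=
  val_inj hi h2 (h.trans (val_zero h2).symm)

omit hi in
theorem det_one : (!![i, 0; 0, 1] : Matrix (Fin 2) (Fin 2) K).det = i := by simp [det_fin_two]

omit hi in
theorem det_two : (!![(1 + i) / 2, (1 - i) / 2; (1 - i) / 2, (1 + i) / 2] : Matrix (Fin 2) (Fin 2) K).det = i := by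
  rw [det_fin_two_of]
  field_simp
  ring

variable {L : Type*} [Field L] {j : L} (hj : j ^ 2 = -1) (h2' : (2 : L) ≠ 0)

include hj h2'

/-- Two copies of the group are isomorphic, of order 96. -/
theorem exists_equiv {D R : GL (Fin 2) K} {D' R' : GL (Fin 2) L}
    (hD : (D : Matrix (Fin 2) (Fin 2) K) = val i 1) (hR : (R : Matrix (Fin 2) (Fin 2) K) = val i 2)
    (hD' : (D' : Matrix (Fin 2) (Fin 2) L) = val j 1) (hR' : (R' : Matrix (Fin 2) (Fin 2) L) = val j 2) :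
    Nonempty (Subgroup.closure ({D, R} : Set (GL (Fin 2) K)) ≃* Subgroup.closure ({D', R'} : Set (GL (Fin 2) L))) ∧
      Nat.card (Subgroup.closure ({D, R} : Set (GL (Fin 2) K))) = 96 := by
  classical
  let Γ : Subgroup (GL (Fin 2) K × GL (Fin 2) L) := Subgroup.closure {(D, D'), (R, R')}
  have hex : ∀ k : Fin 96, ∃ g ∈ Γ, g.1.val = val i k ∧ g.2.val = val j k := by
    intro k
    induction hn : k.val using Nat.strong_induction_on generalizing k with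
    | _ n ih =>
      by_cases h0 : k = 0
      · exact ⟨1, one_mem _, by rw [h0, val_zero h2]; rfl, by rw [h0, val_zero h2']; rfl⟩
      · obtain ⟨hlt, he⟩ := tree_ok k h0
        obtain ⟨g, hg, g1, g2⟩ := ih _ (hn ▸ hlt) (at' parent k) rfl
        split_ifs at he
        · refine ⟨(D, D') * g, mul_mem (Subgroup.subset_closure (Or.inl rfl)) hg, ?_, ?_⟩
          · rw [Prod.fst_mul, Units.val_mul, hD, g1, val_mul hi h2 fun r c => (mul_ok _ r c).1, ← he]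
          · rw [Prod.snd_mul, Units.val_mul, hD', g2, val_mul hj h2' fun r c => (mul_ok _ r c).1, ← he]
        · refine ⟨(R, R') * g, mul_mem (Subgroup.subset_closure (Or.inr rfl)) hg, ?_, ?_⟩
          · rw [Prod.fst_mul, Units.val_mul, hR, g1, val_mul hi h2 fun r c => (mul_ok _ r c).2, ← he]
          · rw [Prod.snd_mul, Units.val_mul, hR', g2, val_mul hj h2' fun r c => (mul_ok _ r c).2, ← he]
  choose e heΓ he1 he2 using hex
  have hall : ∀ g ∈ Γ, ∃ k, g = e k := by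
    haveI : Finite (Set.range e) := inferInstance
    have hfin : ∀ g ∈ ({(D, D'), (R, R')} : Set (GL (Fin 2) K × GL (Fin 2) L)), ∀ k, ∃ l, g * e k = e l := by
      rintro g (rfl | rfl) k
      · exact ⟨at' nextD k, Prod.ext (Units.ext (by rw [Prod.fst_mul, Units.val_mul, hD, he1, he1,
          val_mul hi h2 fun r c => (mul_ok _ r c).1])) (Units.ext (by rw [Prod.snd_mul, Units.val_mul, hD', he2, he2,
          val_mul hj h2' fun r c => (mul_ok _ r c).1]))⟩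
      · exact ⟨at' nextR k, Prod.ext (Units.ext (by rw [Prod.fst_mul, Units.val_mul, hR, he1, he1,
          val_mul hi h2 fun r c => (mul_ok _ r c).2])) (Units.ext (by rw [Prod.snd_mul, Units.val_mul, hR', he2, he2,
          val_mul hj h2' fun r c => (mul_ok _ r c).2]))⟩
    intro g hg
    suffices h : ∀ k, ∃ l, g * e k = e l by
      obtain ⟨l, hl⟩ := h 0
      have h0 : e 0 = 1 := Prod.ext (Units.ext (by rw [he1, val_zero h2]; rfl)) (Units.ext (by rw [he2, val_zero h2']; rfl))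
      rw [h0, mul_one] at hl
      exact ⟨l, hl⟩
    induction hg using Subgroup.closure_induction with
    | mem x hx => exact hfin x hx
    | one => exact fun k => ⟨k, one_mul _⟩
    | mul x y _ _ ihx ihy =>
      intro k
      obtain ⟨l, hl⟩ := ihy k
      obtain ⟨m, hm⟩ := ihx l
      exact ⟨m, by rw [mul_assoc, hl, hm]⟩
    | inv x _ ihx =>
      intro k
      choose σ hσ using ihx
      have hσi : Function.Injective σ := fun a b h => by
        have h' : e a = e b := mul_left_cancel ((hσ a).trans ((congrArg e h).trans (hσ b).symm))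
        obtain ⟨w, hw, ew1, ew2⟩ : ∃ w : GL (Fin 2) K × GL (Fin 2) L, w = e a ∧
            w.1.val = val i a ∧ w.1.val = val i b := ⟨_, rfl, he1 a, by rw [h', he1 b]⟩
        exact val_inj hi h2 (ew1.symm.trans ew2)
      obtain ⟨l, hl⟩ := Finite.surjective_of_injective hσi k
      exact ⟨l, by rw [inv_mul_eq_iff_eq_mul, hσ, hl]⟩
  have hker : ∀ g ∈ Γ, (g.1 = 1 ∨ g.2 = 1) → g = 1 := by
    intro g hg h
    obtain ⟨k, rfl⟩ := hall g hg
    have hk : k = 0 := by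
      rcases h with h | h
      · exact val_eq_one hi h2 (by rw [← he1, h, Units.val_one])
      · exact val_eq_one hj h2' (by rw [← he2, h, Units.val_one])
    exact Prod.ext (Units.ext (by rw [he1, hk, val_zero h2]; rfl)) (Units.ext (by rw [he2, hk, val_zero h2']; rfl))
  have hfst : Γ.map (MonoidHom.fst _ _) = Subgroup.closure ({D, R} : Set (GL (Fin 2) K)) := by
    rw [MonoidHom.map_closure, Set.image_pair]; rfl
  have hsnd : Γ.map (MonoidHom.snd _ _) = Subgroup.closure ({D', R'} : Set (GL (Fin 2) L)) := by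
    rw [MonoidHom.map_closure, Set.image_pair]; rfl
  have h1 : Function.Injective ((MonoidHom.fst (GL (Fin 2) K) (GL (Fin 2) L)).subgroupMap Γ) :=
    (injective_iff_map_eq_one _).2 fun g hg => Subtype.ext (hker g g.2 (Or.inl (congrArg Subtype.val hg)))
  have h1' : Function.Injective ((MonoidHom.snd (GL (Fin 2) K) (GL (Fin 2) L)).subgroupMap Γ) :=
    (injective_iff_map_eq_one _).2 fun g hg => Subtype.ext (hker g g.2 (Or.inr (congrArg Subtype.val hg)))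
  let e1 := (MulEquiv.ofBijective _ ⟨h1, MonoidHom.subgroupMap_surjective _ Γ⟩).trans (MulEquiv.subgroupCongr hfst)
  let e2 := (MulEquiv.ofBijective _ ⟨h1', MonoidHom.subgroupMap_surjective _ Γ⟩).trans (MulEquiv.subgroupCongr hsnd)
  refine ⟨⟨e1.symm.trans e2⟩, ?_⟩
  rw [← Nat.card_congr e1.toEquiv, ← Nat.card_fin 96]
  refine (Nat.card_eq_of_bijective (fun k => (⟨e k, heΓ k⟩ : Γ)) ⟨fun a b h => ?_, fun g => ?_⟩).symm
  · exact val_inj hi h2 (by rw [← he1, ← he1, show e a = e b from congrArg Subtype.val h])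
  · obtain ⟨k, hk⟩ := hall g g.2
    exact ⟨k, Subtype.ext hk.symm⟩

end Cfsg.Agent.Classical.Bloom.Gauss
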