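import Cfsg.Agent.Lib.Classical.Bloom.Unitary

/-!
Irreducible subgroups of `SL(3, F)` generated by transvections, `F` finite of odd characteristic.
-/

set_option autoImplicit false

namespace Cfsg.Agent.Classical.Bloom

open Matrix

variable {F : Type*} [Field F]

local notation "SL₃" => Matrix.SpecialLinearGroup (Fin 3) F
local notation "M₃" => Matrix (Fin 3) (Fin 3) F

theorem Frame.rescale {Γ : Subgroup SL₃} {L : Subfield F} (K : Frame Γ L) {k : F} (D : GL (Fin 3) F)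
    (hD : (D : M₃) = Matrix.diagonal ![1, 1, k]) : Frame (moveGL D Γ) L := by
  have h1 : (D : M₃) *ᵥ ![1, 0, 0] = ![1, 0, 0] := by
    rw [hD]; funext i; fin_cases i <;> simp [mulVec_diagonal]
  have h2 : (D : M₃) *ᵥ ![0, 1, 0] = ![0, 1, 0] := by
    rw [hD]; funext i; fin_cases i <;> simp [mulVec_diagonal]
  have h3 : ∀ a b : F, (![a, b, 0] : Fin 3 → F) ᵥ* ((D⁻¹ : GL (Fin 3) F) : M₃) = ![a, b, 0] := by
    intro a b
    have : (![a, b, 0] : Fin 3 → F) ᵥ* (D : M₃) = ![a, b, 0] := by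
      rw [hD]; funext i; fin_cases i <;> simp [vecMul_diagonal]
    conv_lhs => rw [← this]
    rw [vecMul_vecMul, ← Units.val_mul, mul_inv_cancel, Units.val_one, vecMul_one]
  refine ⟨K.two, tvs_moveGL_gen D K.gen, K.irr.moveGL D, fun c hc => ?_, fun c hc => ?_,
    fun x hx => by rw [prods_moveGL] at hx; exact K.bound x hx⟩
  · have := (K.upper c hc).moveGL D; rwa [h1, h3] at this
  · have := (K.lower c hc).moveGL D; rwa [h2, h3] at this

/-- The groups generated by transvections are conjugate to `SL(3, r)` or `SU(3, r)`. -/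
theorem generated_main [Fintype F] (h2 : (2 : F) ≠ 0) {Γ : Subgroup SL₃}
    (hgen : Γ = Subgroup.closure (tvs Γ)) (hirr : Irr Γ) :
    ∃ D : GL (Fin 3) F, (∃ L : Subfield F, moveGL D Γ = slOver L) ∨
      ∃ (M : Subfield F) (r : ℕ), Nat.card M = r ^ 2 ∧ moveGL D Γ = UFrame.suOver M r := by
  classical
  obtain ⟨P, L, K⟩ := exists_frame h2 hgen hirr
  by_cases hb : ∀ v φ, InT (moveGL P Γ) v φ → φ 2 * v 2 ∈ L
  · obtain ⟨D, hD⟩ := K.rational_main hb
    exact ⟨D * P, Or.inl ⟨L, by rw [← moveGL_mul, hD]⟩⟩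
  push_neg at hb
  obtain ⟨v, φ, h, hb⟩ := hb
  obtain ⟨hA, hB, hDd⟩ := K.block_mem h
  have hi : φ 0 * v 0 + φ 1 * v 1 + φ 2 * v 2 = 0 := by
    simpa [dotProduct, Fin.sum_univ_three] using h.incident
  set Dd := φ 0 * v 0 - φ 1 * v 1 with hDddef
  set b := φ 0 * v 0 + φ 1 * v 1 with hbdef
  have hbe : φ 2 * v 2 = -b := by rw [hbdef]; linear_combination hi
  have hbL : b ∉ L := fun h' => hb (by rw [hbe]; exact L.neg_mem h')
  have hb0 : b ≠ 0 := fun e => hbL (e ▸ L.zero_mem)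
  have hv2 : v 2 ≠ 0 := right_ne_zero_of_mul (show φ 2 * v 2 ≠ 0 by rw [hbe]; exact neg_ne_zero.2 hb0)
  have hsq : b ^ 2 = Dd ^ 2 + 4 * ((φ 0 * v 1) * (φ 1 * v 0)) := by rw [hbdef, hDddef]; ring
  have hA0 : φ 0 * v 1 ≠ 0 := fun e => by
    rw [e, zero_mul, mul_zero, add_zero] at hsq
    rcases sq_eq_sq_iff_eq_or_eq_neg.1 hsq with e' | e'
    · exact hbL (e' ▸ hDd)
    · exact hbL (e' ▸ L.neg_mem hDd)
  have hv1 : v 1 ≠ 0 := right_ne_zero_of_mul hA0
  -- the field automorphism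
  obtain ⟨σ, hσ⟩ : ∃ σ : F →+* F, ∀ x, σ x = x ^ Nat.card L := by
    obtain ⟨p, hp⟩ : ∃ p, CharP F p := ⟨_, ringChar.charP F⟩
    haveI : Fact p.Prime := ⟨CharP.char_is_prime F p⟩
    obtain ⟨d, -, hd⟩ := natCard_eq_pow p L
    exact ⟨iterateFrobenius F p d, fun x => by rw [hd, iterateFrobenius_def]⟩
  have hfix : ∀ {x : F}, σ x = x ↔ x ∈ L := fun {x} => by rw [hσ, mem_iff_pow_card]
  have hb2 : σ b ^ 2 = b ^ 2 := by
    rw [← map_pow]
    refine hfix.2 ?_
    rw [hsq]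
    refine L.add_mem (pow_mem hDd 2) (L.mul_mem ?_ (L.mul_mem hA hB))
    exact_mod_cast natCast_mem L 4
  have hσb : σ b = -b := (sq_eq_sq_iff_eq_or_eq_neg.1 hb2).resolve_left fun e => hbL (hfix.1 e)
  have hσA : σ (φ 0 * v 1) = φ 0 * v 1 := hfix.2 hA
  have hσD : σ Dd = Dd := hfix.2 hDd
  have hσ00 : σ (φ 0 * v 0) = -(φ 1 * v 1) := by
    refine mul_left_cancel₀ h2 ?_
    rw [← map_ofNat σ 2, ← map_mul, show (2 : F) * (φ 0 * v 0) = Dd + b by rw [hbdef, hDddef]; ring, map_add, hσD,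
      hσb, hbdef, hDddef, map_ofNat]
    ring
  have hσ11 : σ (φ 1 * v 1) = -(φ 0 * v 0) := by
    rw [hbdef, map_add, hσ00] at hσb
    linear_combination hσb
  have hz2 : σ (σ (v 0 / v 1)) = v 0 / v 1 := by
    have e : v 0 / v 1 = (φ 0 * v 0) / (φ 0 * v 1) := by
      rw [mul_div_mul_left _ _ (left_ne_zero_of_mul hA0)]
    rw [e, map_div₀, map_div₀, hσA, hσA, hσ00, map_neg, hσ11, neg_neg]
  let D : GL (Fin 3) F := Matrix.GeneralLinearGroup.mkOfDetNeZero (Matrix.diagonal ![1, 1, v 1 / v 2])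
    (by simp [Fin.prod_univ_three, hv1, hv2])
  have hD : (D : M₃) = Matrix.diagonal ![1, 1, v 1 / v 2] := rfl
  have hD' : ((D⁻¹ : GL (Fin 3) F) : M₃) = Matrix.diagonal ![1, 1, v 2 / v 1] := by
    rw [Matrix.coe_units_inv]
    refine Matrix.inv_eq_right_inv ?_
    rw [hD, diagonal_mul_diagonal, ← diagonal_one]
    congr 1
    funext j; fin_cases j <;> simp <;> field_simp
  have hσz : σ (v 0 / v 1) = -(φ 1 * v 1) / (φ 0 * v 1) := by
    rw [show v 0 / v 1 = (φ 0 * v 0) / (φ 0 * v 1) by rw [mul_div_mul_left _ _ (left_ne_zero_of_mul hA0)],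
      map_div₀, hσA, hσ00]
  let U : UFrame (moveGL D (moveGL P Γ)) L :=
    { frame := K.rescale D hD
      σ := σ
      hσ := hσ
      z := v 0 / v 1
      z_two := hz2
      z_ne := fun e => hbL (by
        have h00 : φ 0 * v 0 ∈ L := by
          rw [show φ 0 * v 0 = (v 0 / v 1) * (φ 0 * v 1) by field_simp]
          exact L.mul_mem (hfix.1 e) hA
        rw [show b = 2 * (φ 0 * v 0) - Dd by rw [hbdef, hDddef]; ring]
        exact L.sub_mem (L.mul_mem (by exact_mod_cast natCast_mem L 2) h00) hDd)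
      A := φ 0 * v 1
      A_mem := hA
      A_ne := hA0
      tau := by
        have h' := (h.moveGL D).smul_comm (a := (v 1)⁻¹) (b := v 1) (inv_mul_cancel₀ hv1)
        have hφ0 : φ 0 ≠ 0 := left_ne_zero_of_mul hA0
        convert h' using 1
        · funext j; fin_cases j <;> simp [hD, mulVec_diagonal] <;> field_simp
        · funext j; fin_cases j <;> simp [hD', vecMul_diagonal, hσz] <;> field_simp
          linear_combination -hi }
  obtain ⟨D', M, hM, hD''⟩ := U.unitary_main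
  exact ⟨D' * D * P, Or.inr ⟨M, Nat.card L, hM, by rw [← moveGL_mul, ← moveGL_mul, hD'']⟩⟩

end Cfsg.Agent.Classical.Bloom
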