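import Cfsg.Agent.Lib.Classical.Bloom.NoTransvection
import Cfsg.Agent.Lib.Classical.Bloom.Eigen
import Cfsg.Agent.Lib.Recog.PSU33Action
import Cfsg.Agent.S1601
import Cfsg.Agent.S1602
import Cfsg.Agent.Lib.Fus.MathieuTwoGroups

/-!
Groups with no embedding in `PSL(3, F)`, `F` of characteristic prime to six: `L₃(3)`, `U₃(3)`; and `M₁₁`.
-/

set_option autoImplicit false

namespace Cfsg.Agent.Classical.Bloom

open Matrix
open scoped Pointwise

local instance decEqSL {n : ℕ} {R : Type*} [CommRing R] [DecidableEq R] :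
    DecidableEq (Matrix.SpecialLinearGroup (Fin n) R) :=
  fun a b => decidable_of_iff ((a : Matrix (Fin n) (Fin n) R) = b) Subtype.ext_iff.symm

variable {F : Type*} [Field F] [Fintype F]

local notation "SL₃" => Matrix.SpecialLinearGroup (Fin 3) F
local notation "PSL₃" => Matrix.ProjectiveSpecialLinearGroup (Fin 3) F
local notation "M₃" => Matrix (Fin 3) (Fin 3) F

omit [Fintype F] in
/-- An element of order three, commuting with an involution and inverted, with too large a centraliser. -/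
theorem kill_four [Finite F] (h2 : (2 : F) ≠ 0) (h3 : (3 : F) ≠ 0) {G : Type*} [Group G] {f : G →* PSL₃}
    (hf : Function.Injective f) {z t s : G} (hz : z * z * z = 1) (hz1 : z ≠ 1) (ht : t * t = 1)
    (hzt : z * t = t * z) (hs : s * z = z * z * s) (u : Fin 4 → G) (hu : ∀ i, u i * z = z * u i)
    (hdist : ∀ i j, i ≠ j → ((u i)⁻¹ * u j) * t ≠ t * ((u i)⁻¹ * u j)) : False := by
  classical
  haveI : Fintype F := Fintype.ofFinite F
  set K := AlgebraicClosure F
  obtain ⟨a, hpa, ha⟩ := exists_lift (F := F) free_two (x := f t) (by rw [pow_two, ← map_mul, ht, map_one])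
  obtain ⟨y, hy⟩ := pr_surjective (f z)
  obtain ⟨r, hr⟩ := pr_surjective (f s)
  choose l hl using fun i => pr_surjective (f (u i))
  have hy3 : pr (y ^ 3) = 1 := by
    rw [map_pow, hy, ← map_pow, pow_succ, pow_two, hz, map_one]
  have hy9 : y ^ 9 = 1 := by
    rw [show 9 = 3 * 3 by norm_num, pow_mul]; exact center_pow_three hy3
  have hA : (Nat.card (Subgroup.zpowers y) : F) ≠ 0 := by
    obtain ⟨k, -, hk⟩ := (Nat.dvd_prime_pow Nat.prime_three).1
      (show orderOf y ∣ 3 ^ 2 by exact orderOf_dvd_of_pow_eq_one hy9)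
    rw [Nat.card_zpowers, hk, Nat.cast_pow, Nat.cast_ofNat]
    exact pow_ne_zero _ h3
  obtain ⟨P, d, hd⟩ := exists_diag_toK (Subgroup.zpowers y) (by
    rintro _ ⟨i, rfl⟩ _ ⟨j, rfl⟩; exact zpow_mul_comm y i j) hA
  have hdy := hd y (Subgroup.mem_zpowers y)
  obtain ⟨c0, hc0, ec0⟩ := pr_eq_one.1 hy3
  -- the cube is scalar, the conjugate is the inverse up to a scalar
  obtain ⟨w, hw, ew⟩ := pr_eq_pr.1 (show pr (y * r * y) = pr r by
    rw [map_mul, map_mul, hy, hr, ← map_mul, ← map_mul]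
    congr 1
    rw [mul_assoc, hs, ← mul_assoc, ← mul_assoc, hz, one_mul])
  set T : SL₃ → Matrix (Fin 3) (Fin 3) K := fun g => (P * toK g * P⁻¹ : GL (Fin 3) K).val with hT
  have hTm : ∀ g h : SL₃, T (g * h) = T g * T h := fun g h => by
    simp only [hT, ← Units.val_mul]; congr 1; rw [map_mul]; group
  have hTi : Function.Injective T := fun g h e => toK_injective (mul_left_cancel (mul_right_cancel (Units.ext e)))
  have hTs : ∀ (g h : SL₃) (c : F), (h : M₃) = c • (g : M₃) → T h = algebraMap F K c • T g := fun g h c e => by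
    simp only [hT, Units.val_mul, toK_coe, e, Matrix.map_smul' _ _ _ (map_mul _), mul_smul_comm, smul_mul_assoc]
    rfl
  have hTy : T y = diagonal (d y) := hdy
  have hT1 : T 1 = 1 := by simp [hT]
  have hcube : ∀ i, d y i ^ 3 = algebraMap F K c0 := fun i => by
    have h := hTs 1 (y ^ 3) c0 ec0
    rw [hT1, pow_succ, pow_two, hTm, hTm, hTy, diagonal_mul_diagonal, diagonal_mul_diagonal,
      smul_one_eq_diagonal] at h
    have := congrFun (congrFun h i) i
    rw [diagonal_apply_eq, diagonal_apply_eq] at this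
    linear_combination this
  have hc0' : algebraMap F K c0 ≠ 0 := by
    rw [ne_eq, map_eq_zero]
    intro e
    rw [e, zero_pow three_ne_zero] at hc0
    exact zero_ne_one hc0
  have hd0 : ∀ i, d y i ≠ 0 := fun i e => hc0' (by rw [← hcube i, e, zero_pow three_ne_zero])
  -- the inverting element pairs the eigenvalues
  have hpair : ∀ i j, T r i j ≠ 0 → algebraMap F K w * (d y i * d y j) = 1 := fun i j hij => by
    have h := hTs (y * r * y) r w ew
    rw [hTm, hTm, hTy] at h
    have := congrFun (congrFun h i) j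
    rw [Matrix.smul_apply, mul_diagonal, diagonal_mul, smul_eq_mul] at this
    exact mul_right_cancel₀ hij (by rw [one_mul]; linear_combination -this)
  have hinj : Function.Injective (d y) := by
    intro i j hij
    by_contra hne
    obtain ⟨σ, hσ⟩ : ∃ σ : Equiv.Perm (Fin 3), ∀ l, T r (σ l) l ≠ 0 := by
      by_contra hno
      push Not at hno
      have hdet : (T r).det ≠ 0 := ((Matrix.isUnit_iff_isUnit_det _).1 (Units.isUnit _)).ne_zero
      refine hdet ?_
      rw [Matrix.det_apply]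
      refine Finset.sum_eq_zero fun σ _ => ?_
      obtain ⟨l, hl⟩ := hno σ
      rw [Finset.prod_eq_zero (f := fun l => T r (σ l) l) (Finset.mem_univ l) hl, smul_zero]
    have hw0 : algebraMap F K w ≠ 0 := fun e => by simpa [e] using hpair _ _ (hσ 0)
    obtain ⟨k, hki, hkj, hall⟩ : ∃ k, k ≠ i ∧ k ≠ j ∧ ∀ m, m = i ∨ m = j ∨ m = k := by
      revert hne; clear hij; revert i j; decide
    set v := d y i with hv
    -- two equal eigenvalues
    have hvv : algebraMap F K w * (v * v) = 1 := by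
      have hi := hpair _ _ (hσ i)
      have hj := hpair _ _ (hσ j)
      rcases hall (σ i) with e | e | e
      · rw [e] at hi; exact hi
      · rw [e, ← hij] at hi; exact hi
      · rcases hall (σ j) with e' | e' | e'
        · rw [e', ← hij] at hj; exact hj
        · rw [e', ← hij] at hj; exact hj
        · exact absurd (σ.injective (e.trans e'.symm)) hne
    have hk := hpair _ _ (hσ k)
    have key : d y k = v := by
      rcases hall (σ k) with e | e | e
      · rw [e] at hk
        exact mul_left_cancel₀ (hd0 i) (mul_left_cancel₀ hw0 (hk.trans hvv.symm))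
      · rw [e, ← hij] at hk
        exact mul_left_cancel₀ (hd0 i) (mul_left_cancel₀ hw0 (hk.trans hvv.symm))
      · rw [e] at hk
        rcases mul_self_eq_mul_self_iff.1 (mul_left_cancel₀ hw0 (hk.trans hvv.symm)) with h | h
        · exact h
        · exfalso
          have h3' : d y k ^ 3 = v ^ 3 := by rw [hcube, hcube]
          rw [h] at h3'
          have : (2 : K) * v ^ 3 = 0 := by linear_combination -h3'
          exact (hd0 i) (by simpa using (mul_eq_zero.1 this).resolve_left (by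
            rw [← map_ofNat (algebraMap F K) 2]; exact (_root_.map_ne_zero _).2 h2))
    -- then the element is scalar
    have hsc : T y = v • 1 := by
      rw [hTy, smul_one_eq_diagonal]
      congr 1
      funext m
      rcases hall m with rfl | rfl | rfl
      exacts [rfl, hij.symm, key]
    have hyc : ∀ g : SL₃, g * y = y * g := fun g => hTi (by
      rw [hTm, hTm, hsc, mul_smul_comm, smul_mul_assoc, mul_one, one_mul])
    have : pr y = 1 := by rw [← MonoidHom.mem_ker, ker_pr]; exact Subgroup.mem_center_iff.2 hyc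
    rw [hy] at this
    exact hz1 (hf (this.trans (map_one f).symm))
  have hcomm : ∀ g h : SL₃, g * y = y * g → h * y = y * h → g * h = h * g := by
    intro g h hg hh
    have hdg : ∀ x : SL₃, x * y = y * x → IsDg (T x) := fun x hx i j hij => by
      have := congrArg T hx
      rw [hTm, hTm, hTy] at this
      have := congrFun (congrFun this i) j
      rw [mul_diagonal, diagonal_mul] at this
      by_contra h0
      exact hij (hinj (mul_right_cancel₀ h0 (by linear_combination -this)))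
    exact hTi (by rw [hTm, hTm]; exact (hdg g hg).commute (hdg h hh))
  have hay : a * y = y * a :=
    (commute_of_pr free_two ha (by rw [hy, hpa]; exact Commute.map hzt f)).symm
  -- pigeonhole on the conjugates of the lift
  let S : Finset M₃ := ((Polynomial.X ^ 3 - 1 : Polynomial F).roots.toFinset).image fun c => c • (y : M₃)
  have hS : S.card < (Finset.univ : Finset (Fin 4)).card := by
    refine lt_of_le_of_lt (Finset.card_image_le.trans ((Multiset.toFinset_card_le _).trans (Polynomial.card_roots' _))) ?_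
    rw [show (Polynomial.X ^ 3 - 1 : Polynomial F) = Polynomial.X ^ 3 - Polynomial.C 1 by simp,
      Polynomial.natDegree_X_pow_sub_C]
    simp
  obtain ⟨i, -, j, -, hne, e⟩ := Finset.exists_ne_map_eq_of_card_lt_of_maps_to hS
    (f := fun i => ((l i * y * (l i)⁻¹ : SL₃) : M₃)) fun i _ => by
      obtain ⟨c, hc, ec⟩ := pr_eq_pr.1 (show pr y = pr (l i * y * (l i)⁻¹) by
        rw [map_mul, map_mul, map_inv, hl, hy, ← map_inv, ← map_mul, ← map_mul, hu, mul_inv_cancel_right])
      refine Finset.mem_image.2 ⟨c, ?_, ec.symm⟩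
      rw [Multiset.mem_toFinset, Polynomial.mem_roots']
      exact ⟨by simpa using Polynomial.X_pow_sub_C_ne_zero (show 0 < 3 by norm_num) (1 : F),
        by simp [hc]⟩
  have e' : l i * y * (l i)⁻¹ = l j * y * (l j)⁻¹ := Subtype.ext e
  have hg : ((l i)⁻¹ * l j) * y = y * ((l i)⁻¹ * l j) := by
    calc (l i)⁻¹ * l j * y = (l i)⁻¹ * (l j * y * (l j)⁻¹) * l j := by group
      _ = (l i)⁻¹ * (l i * y * (l i)⁻¹) * l j := by rw [e']
      _ = y * ((l i)⁻¹ * l j) := by group
  have hga := congrArg pr (hcomm _ a hg hay)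
  simp only [map_mul, map_inv, hl, hpa] at hga
  simp only [← map_inv, ← map_mul] at hga
  exact hdist i j hne (hf hga)

theorem eleven_checks : (!![5, 0; 0, 9] : Matrix (Fin 2) (Fin 2) (ZMod 11)).det = 1 ∧
    ∀ x y : Matrix.SpecialLinearGroup (Fin 2) (ZMod 11), (x : Matrix (Fin 2) (Fin 2) (ZMod 11)) = !![1, 1; 0, 1] →
      (y : Matrix (Fin 2) (Fin 2) (ZMod 11)) = !![5, 0; 0, 9] → x ^ 11 = 1 ∧ y * x * y⁻¹ = x ^ 3 ∧ y * x ≠ x * y := by
  refine ⟨by decide +kernel, fun x y hx hy => ?_⟩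
  obtain rfl : x = (⟨!![1, 1; 0, 1], by decide +kernel⟩ : Matrix.SpecialLinearGroup (Fin 2) (ZMod 11)) := Subtype.ext hx
  obtain rfl : y = (⟨!![5, 0; 0, 9], by decide +kernel⟩ : Matrix.SpecialLinearGroup (Fin 2) (ZMod 11)) := Subtype.ext hy
  clear hx hy
  decide +kernel

theorem psl_eleven_pair : ∃ x y : Matrix.ProjectiveSpecialLinearGroup (Fin 2) (ZMod 11),
    orderOf x = 11 ∧ y * x * y⁻¹ = x ^ 3 := by
  obtain ⟨h9, h⟩ := eleven_checks
  let x : Matrix.SpecialLinearGroup (Fin 2) (ZMod 11) := ⟨!![1, 1; 0, 1], by simp [det_fin_two]⟩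
  let y : Matrix.SpecialLinearGroup (Fin 2) (ZMod 11) := ⟨!![5, 0; 0, 9], h9⟩
  obtain ⟨h1, h2, h3⟩ := h x y rfl rfl
  haveI : Fact (Nat.Prime 11) := ⟨by norm_num⟩
  let P := QuotientGroup.mk' (Subgroup.center (Matrix.SpecialLinearGroup (Fin 2) (ZMod 11)))
  exact ⟨P x, P y, orderOf_eq_prime (by rw [← map_pow, h1, map_one]) fun e =>
    h3 (Subgroup.mem_center_iff.1 ((QuotientGroup.eq_one_iff x).1 e) y),
    by rw [← map_inv, ← map_mul, ← map_mul, ← map_pow, h2]⟩

theorem not_m11 (p : ℕ) [Fact p.Prime] [CharP F p] {G : Type*} [Group G] (hG : Cfsg.Spor.IsoM11 G) {f : G →* PSL₃}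
    (hf : Function.Injective f) : False := by
  classical
  obtain ⟨e⟩ := hG
  obtain ⟨qa, qb, hqa, hqb, hab⟩ : ∃ qa qb : Cfsg.GolayPt,
      qa ∉ Cfsg.Spor.squareDodecad ∧ qb ∉ Cfsg.Spor.squareDodecad ∧ qa ≠ qb := by
    decide +kernel
  have hd : Cfsg.Spor.squareDodecad ∈ Cfsg.dodecads := Fus.Mathieu.square_mem
  have h0 : (some 0 : Cfsg.GolayPt) ∈ Cfsg.Spor.squareDodecad := by decide +kernel
  -- maps of the two subgroups
  let A : Subgroup Cfsg.M24 :=
    MulAction.stabilizer Cfsg.M24 Cfsg.Spor.squareDodecad ⊓ MulAction.stabilizer Cfsg.M24 (some 0 : Cfsg.GolayPt)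
  let j : A →* Cfsg.Spor.M11 :=
    { toFun := fun x => ⟨(x : Cfsg.M24).1, ⟨⟨(x : Cfsg.M24).2, x.2.1⟩, x.2.2⟩⟩
      map_one' := rfl
      map_mul' := fun _ _ => rfl }
  have hj : Function.Injective j := fun x y h => Subtype.ext (Subtype.ext (congrArg Subtype.val h :))
  let g : A →* PSL₃ := f.comp (e.symm.toMonoidHom.comp j)
  have hg : Function.Injective g := hf.comp (e.symm.injective.comp hj)
  have collide : ∀ {L : Type} [Group L] (m : L →* A), Function.Injective m → ∀ (ℓ : ℕ) (x y : L) (i : ℕ),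
      ℓ.Prime → ℓ ≠ 3 → (ℓ : F) ≠ 0 → orderOf x = ℓ → y * x * y⁻¹ = x ^ i →
      ∃ a b : ℕ, a < b ∧ b < 4 ∧ (i : ZMod ℓ) ^ a = (i : ZMod ℓ) ^ b := by
    intro L _ m hm ℓ x y i hl hl3 hlF hx hxy
    refine ((orbit_collide hl hl3 hlF (x := g (m x)) ?_).2 (g (m y)) i ?_).1
    · rw [orderOf_injective g hg, orderOf_injective m hm, hx]
    · rw [← map_inv, ← map_inv, ← map_mul, ← map_mul, ← map_mul, ← map_mul, hxy, map_pow, map_pow]
  by_cases hp5 : p = 5
  · obtain ⟨e11⟩ := Cfsg.Agent.S1601.result Cfsg.Spor.squareDodecad hd (some 0) qa h0 hqa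
    let m : Matrix.ProjectiveSpecialLinearGroup (Fin 2) (ZMod 11) →* A :=
      (Subgroup.inclusion (inf_le_left : A ⊓ MulAction.stabilizer Cfsg.M24 qa ≤ A)).comp e11.symm.toMonoidHom
    have hm : Function.Injective m := (Subgroup.inclusion_injective (inf_le_left : A ⊓ MulAction.stabilizer Cfsg.M24 qa ≤ A)).comp e11.symm.injective
    obtain ⟨x, y, hx, hxy⟩ := psl_eleven_pair
    obtain ⟨a, b, ha, hb, hab'⟩ := collide m hm 11 x y 3 (by norm_num) (by norm_num) (fun h => by
      have := (Nat.prime_dvd_prime_iff_eq Fact.out (by norm_num : Nat.Prime 11)).1 ((CharP.cast_eq_zero_iff F p 11).1 h)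
      omega) hx hxy
    interval_cases b <;> interval_cases a <;> revert hab' <;> decide
  · obtain ⟨e5⟩ := Cfsg.Agent.S1602.result Cfsg.Spor.squareDodecad hd (some 0) qa qb h0 hqa hqb hab
    have hle : A ⊓ MulAction.stabilizer Cfsg.M24 ({qa, qb} : Finset Cfsg.GolayPt) ≤ A := inf_le_left
    let m : Equiv.Perm (Fin 5) →* A := (Subgroup.inclusion hle).comp e5.symm.toMonoidHom
    have hm : Function.Injective m := (Subgroup.inclusion_injective hle).comp e5.symm.injective
    let x : Equiv.Perm (Fin 5) := finRotate 5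
    let y : Equiv.Perm (Fin 5) := Equiv.swap 1 2 * Equiv.swap 2 4 * Equiv.swap 4 3
    haveI : Fact (Nat.Prime 5) := ⟨Nat.prime_five⟩
    have hx : orderOf x = 5 := orderOf_eq_prime (by decide +kernel) (by decide +kernel)
    obtain ⟨a, b, ha, hb, hab'⟩ := collide m hm 5 x y 2 Nat.prime_five (by norm_num) (fun h => hp5
      ((Nat.prime_dvd_prime_iff_eq Fact.out Nat.prime_five).1 ((CharP.cast_eq_zero_iff F p 5).1 h)))
      hx (by decide +kernel)
    interval_cases b <;> interval_cases a <;> revert hab' <;> decide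

/-- An element of `SL(3, 3)`. -/
def mkThree (A : Matrix (Fin 3) (Fin 3) (ZMod 3)) (h : A.det = 1) : Matrix.SpecialLinearGroup (Fin 3) (ZMod 3) :=
  ⟨A, h⟩

theorem not_l33 (h2 : (2 : F) ≠ 0) (h3 : (3 : F) ≠ 0) {G : Type*} [Group G]
    (hG : Nonempty (G ≃* Matrix.ProjectiveSpecialLinearGroup (Fin 3) (ZMod 3))) {f : G →* PSL₃}
    (hf : Function.Injective f) : False := by
  obtain ⟨e⟩ := hG
  have hpr : Function.Injective (pr (F := ZMod 3)) := (injective_iff_map_eq_one _).2 fun g hg => by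
    obtain ⟨c, hc, e⟩ := pr_eq_one.1 hg
    have : ∀ c : ZMod 3, c ^ 3 = 1 → c = 1 := by decide
    rw [this c hc, one_smul] at e
    exact Subtype.ext e
  let φ : Matrix.SpecialLinearGroup (Fin 3) (ZMod 3) →* PSL₃ := f.comp (e.symm.toMonoidHom.comp pr)
  have hφ : Function.Injective φ := hf.comp (e.symm.injective.comp hpr)
  exact kill_four h2 h3 hφ
    (z := mkThree !![1, 0, 1; 0, 1, 0; 0, 0, 1] (by decide +kernel))
    (t := mkThree !![-1, 0, 0; 0, 1, 0; 0, 0, -1] (by decide +kernel))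
    (s := mkThree !![1, 0, 0; 0, -1, 0; 0, 0, -1] (by decide +kernel))
    (by decide +kernel) (by decide +kernel) (by decide +kernel) (by decide +kernel) (by decide +kernel)
    ![1, mkThree !![1, 1, 0; 0, 1, 0; 0, 0, 1] (by decide +kernel), mkThree !![1, -1, 0; 0, 1, 0; 0, 0, 1] (by decide +kernel),
      mkThree !![1, 0, 0; 0, 1, 1; 0, 0, 1] (by decide +kernel)]
    (by decide +kernel) (by decide +kernel)

section U33

open Cfsg.Agent.SpectrumPSU3Three Cfsg.Agent.PSU33

def u33T : Matrix (Fin 3) (Fin 3) E9 := Matrix.of ![![(0, 0), (0, 0), (0, 2)], ![(0, 0), (2, 0), (0, 0)], ![(0, 1), (0, 0), (0, 0)]]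
def u33Z : Matrix (Fin 3) (Fin 3) E9 := Matrix.of ![![(1, 1), (0, 1), (2, 0)], ![(0, 1), (1, 1), (2, 0)], ![(1, 0), (1, 0), (1, 1)]]
def u33S : Matrix (Fin 3) (Fin 3) E9 := Matrix.of ![![(0, 0), (2, 2), (1, 2)], ![(1, 1), (0, 1), (1, 0)], ![(1, 2), (2, 0), (0, 1)]]
def u33U : Fin 4 → Matrix (Fin 3) (Fin 3) E9 := ![Matrix.of ![![(0, 0), (1, 0), (0, 0)], ![(0, 0), (0, 0), (0, 1)], ![(0, 2), (0, 0), (0, 0)]], Matrix.of ![![(0, 0), (0, 0), (0, 1)], ![(1, 0), (0, 0), (0, 0)], ![(0, 0), (0, 2), (0, 0)]], Matrix.of ![![(1, 0), (0, 0), (0, 0)], ![(0, 0), (1, 0), (0, 0)], ![(0, 0), (0, 0), (1, 0)]], Matrix.of ![![(0, 0), (2, 1), (1, 2)], ![(2, 1), (0, 2), (0, 2)], ![(2, 1), (0, 1), (0, 1)]]]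
def u33W : Fin 4 → Matrix (Fin 3) (Fin 3) E9 := ![Matrix.of ![![(0, 0), (0, 0), (0, 1)], ![(1, 0), (0, 0), (0, 0)], ![(0, 0), (0, 2), (0, 0)]], Matrix.of ![![(0, 0), (1, 0), (0, 0)], ![(0, 0), (0, 0), (0, 1)], ![(0, 2), (0, 0), (0, 0)]], Matrix.of ![![(1, 0), (0, 0), (0, 0)], ![(0, 0), (1, 0), (0, 0)], ![(0, 0), (0, 0), (1, 0)]], Matrix.of ![![(0, 0), (2, 2), (2, 2)], ![(2, 2), (0, 1), (0, 2)], ![(1, 1), (0, 1), (0, 2)]]]

theorem u33_data : (md u33T = (1, 0) ∧ IsU u33T) ∧ (md u33Z = (1, 0) ∧ IsU u33Z) ∧ (md u33S = (1, 0) ∧ IsU u33S) ∧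
    ∀ i, (md (u33U i) = (1, 0) ∧ IsU (u33U i)) ∧ (md (u33W i) = (1, 0) ∧ IsU (u33W i)) := by
  unfold IsU; decide +kernel

theorem u33_rels : mm (mm u33Z u33Z) u33Z = me ∧ u33Z ≠ me ∧ mm u33T u33T = me ∧
    mm u33Z u33T = mm u33T u33Z ∧ mm u33S u33Z = mm (mm u33Z u33Z) u33S ∧
    (∀ i, mm (u33U i) u33Z = mm u33Z (u33U i)) ∧ (∀ i, mm (u33U i) (u33W i) = me) ∧
    ∀ i j, i ≠ j → mm (mm (u33W i) (u33U j)) u33T ≠ mm u33T (mm (u33W i) (u33U j)) := by
  decide +kernel

theorem not_u33 (h2 : (2 : F) ≠ 0) (h3 : (3 : F) ≠ 0) {F9 : Type*} [Field F9] [Fintype F9]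
    (h9 : Fintype.card F9 = 9) {G : Type*} [Group G] (hG : Nonempty (G ≃* Cfsg.PSU 3 F9 3)) {f : G →* PSL₃}
    (hf : Function.Injective f) : False := by
  obtain ⟨e⟩ := hG
  haveI : Fact (Fintype.card F9 = 9) := ⟨h9⟩
  have hinj : Function.Injective (QuotientGroup.mk' (Subgroup.center (Cfsg.SU 3 F9 3))) := by
    rw [← MonoidHom.ker_eq_bot_iff, QuotientGroup.ker_mk', SpectrumPSU3Three.center_eq_bot h9]
  let φ : Cfsg.SU 3 F9 3 →* PSL₃ := f.comp (e.symm.toMonoidHom.comp (QuotientGroup.mk' _))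
  have hφ : Function.Injective φ := hf.comp (e.symm.injective.comp hinj)
  obtain ⟨⟨t1, t2⟩, ⟨z1, z2⟩, ⟨s1, s2⟩, huw⟩ := u33_data
  obtain ⟨t, ht⟩ := exists_code (F := F9) _ t1 t2
  obtain ⟨z, hz⟩ := exists_code (F := F9) _ z1 z2
  obtain ⟨s, hs⟩ := exists_code (F := F9) _ s1 s2
  choose u hu using fun i => exists_code (F := F9) _ (huw i).1.1 (huw i).1.2
  choose w hw using fun i => exists_code (F := F9) _ (huw i).2.1 (huw i).2.2
  obtain ⟨r1, r2, r3, r4, r5, r6, r7, r8⟩ := u33_rels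
  have hwi : ∀ i, (u i)⁻¹ = w i := fun i => inv_eq_of_mul_eq_one_right (code_inj (by
    rw [code_mul, hu, hw, r7, code_one]))
  exact kill_four h2 h3 hφ (z := z) (t := t) (s := s) (code_inj (by rw [code_mul, code_mul, hz, r1, code_one]))
    (fun h => r2 (by rw [← hz, h, code_one])) (code_inj (by rw [code_mul, ht, r3, code_one]))
    (code_inj (by rw [code_mul, code_mul, hz, ht, r4])) (code_inj (by rw [code_mul, code_mul, code_mul, hs, hz, r5]))
    u (fun i => code_inj (by rw [code_mul, code_mul, hu, hz, r6]))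
    fun i j hij h => r8 i j hij (by
      have h' := congrArg code h
      simp only [hwi, code_mul, hw, hu, ht] at h'
      exact h')

end U33

end Cfsg.Agent.Classical.Bloom
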