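import Mathlib

/-!
Lifting from `PSL(3, F)` to `SL(3, F)`: for an exponent prime to the order of the centre the lift is unique.
-/

set_option autoImplicit false

namespace Cfsg.Agent.Classical.Bloom

open Matrix

variable {F : Type*} [Field F]

local notation "SL₃" => Matrix.SpecialLinearGroup (Fin 3) F
local notation "PSL₃" => Matrix.ProjectiveSpecialLinearGroup (Fin 3) F
local notation "M₃" => Matrix (Fin 3) (Fin 3) F

/-- The projection to `PSL(3, F)`. -/
def pr : Matrix.SpecialLinearGroup (Fin 3) F →* Matrix.ProjectiveSpecialLinearGroup (Fin 3) F :=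
  QuotientGroup.mk' (Subgroup.center (Matrix.SpecialLinearGroup (Fin 3) F))

theorem pr_surjective : Function.Surjective (pr (F := F)) := QuotientGroup.mk'_surjective _

theorem ker_pr : (pr (F := F)).ker = Subgroup.center SL₃ := QuotientGroup.ker_mk' _

theorem mem_center_scalar {z : SL₃} :
    z ∈ Subgroup.center SL₃ ↔ ∃ c : F, c ^ 3 = 1 ∧ (z : M₃) = c • 1 := by
  rw [Matrix.SpecialLinearGroup.mem_center_iff]
  simp only [Fintype.card_fin, scalar_apply]
  refine exists_congr fun c => and_congr_right fun _ => ?_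
  rw [eq_comm, smul_one_eq_diagonal]

theorem pr_eq_one {z : SL₃} : pr z = 1 ↔ ∃ c : F, c ^ 3 = 1 ∧ (z : M₃) = c • 1 := by
  rw [← MonoidHom.mem_ker, ker_pr, mem_center_scalar]

theorem pr_eq_pr {g h : SL₃} : pr g = pr h ↔ ∃ c : F, c ^ 3 = 1 ∧ (h : M₃) = c • (g : M₃) := by
  rw [← inv_mul_eq_one, ← map_inv, ← map_mul, pr_eq_one]
  constructor
  · rintro ⟨c, hc, e⟩
    refine ⟨c, hc, ?_⟩
    calc (h : M₃) = ((g * (g⁻¹ * h) : SL₃) : M₃) := by rw [mul_inv_cancel_left]
      _ = (g : M₃) * ((g⁻¹ * h : SL₃) : M₃) := Matrix.SpecialLinearGroup.coe_mul _ _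
      _ = c • (g : M₃) := by rw [e, mul_smul_comm, mul_one]
  · rintro ⟨c, hc, e⟩
    refine ⟨c, hc, ?_⟩
    rw [Matrix.SpecialLinearGroup.coe_mul, e, mul_smul_comm, ← Matrix.SpecialLinearGroup.coe_mul, inv_mul_cancel,
      Matrix.SpecialLinearGroup.coe_one]

theorem center_pow_three {z : SL₃} (hz : pr z = 1) : z ^ 3 = 1 := by
  obtain ⟨c, hc, e⟩ := pr_eq_one.1 hz
  refine Subtype.ext ?_
  rw [Matrix.SpecialLinearGroup.coe_pow, e, smul_pow, hc, one_smul, one_pow, Matrix.SpecialLinearGroup.coe_one]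

theorem center_commute {z : SL₃} (hz : pr z = 1) (g : SL₃) : g * z = z * g := by
  rw [← MonoidHom.mem_ker, ker_pr] at hz
  exact Subgroup.mem_center_iff.1 hz g

variable (F) in
/-- No central element other than `1` has order dividing `n`. -/
def Free (n : ℕ) : Prop :=
  ∀ z : Matrix.SpecialLinearGroup (Fin 3) F, pr z = 1 → z ^ n = 1 → z = 1

theorem free_of_not_three {n : ℕ} (h : ¬ 3 ∣ n) : Free F n := fun z hz hn => by
  have h1 : orderOf z ∣ Nat.gcd n 3 :=
    Nat.dvd_gcd (orderOf_dvd_of_pow_eq_one hn) (orderOf_dvd_of_pow_eq_one (center_pow_three hz))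
  rw [((Nat.Prime.coprime_iff_not_dvd Nat.prime_three).2 h).symm.gcd_eq_one, Nat.dvd_one] at h1
  exact orderOf_eq_one_iff.1 h1

theorem free_char (p : ℕ) [hp : Fact p.Prime] [CharP F p] : Free F p := by
  rcases eq_or_ne p 3 with e | e
  · subst e
    intro z hz _
    obtain ⟨c, hc, ez⟩ := pr_eq_one.1 hz
    have : c = 1 := frobenius_inj F 3 (by rw [frobenius_def, frobenius_def, hc, one_pow])
    exact Subtype.ext (by rw [ez, this, one_smul, Matrix.SpecialLinearGroup.coe_one])
  · exact free_of_not_three fun h => e ((Nat.prime_dvd_prime_iff_eq Nat.prime_three hp.out).1 h).symm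

/-- The lift of an element of order dividing `n`. -/
theorem exists_lift {n : ℕ} (hn : Free F n) {x : PSL₃} (hx : x ^ n = 1) : ∃ g : SL₃, pr g = x ∧ g ^ n = 1 := by
  obtain ⟨g, rfl⟩ := pr_surjective x
  rw [← map_pow] at hx
  by_cases h3 : 3 ∣ n
  · -- then the centre is trivial
    have hz : g ^ n = 1 := hn _ hx (by
      obtain ⟨m, hm⟩ := h3
      conv_lhs => arg 2; rw [hm]
      rw [pow_mul (g ^ n), center_pow_three hx, one_pow])
    exact ⟨g, rfl, hz⟩
  · obtain ⟨k, hk⟩ : ∃ k : ℕ, n * k % 3 = 1 := by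
      rcases (show n % 3 = 1 ∨ n % 3 = 2 by omega) with e | e
      · exact ⟨1, by omega⟩
      · exact ⟨2, by omega⟩
    set z := g ^ n with hz
    have hz3 : z ^ 3 = 1 := center_pow_three hx
    refine ⟨g * (z⁻¹) ^ k, ?_, ?_⟩
    · rw [map_mul, map_pow, map_inv, hx, inv_one, one_pow, mul_one]
    · rw [((show Commute g z from center_commute hx g).inv_right.pow_right k).mul_pow, ← hz, ← pow_mul, inv_pow,
        show k * n = 3 * (n * k / 3) + 1 by rw [mul_comm k]; omega, pow_add, pow_one, pow_mul, hz3, one_pow,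
        one_mul, mul_inv_cancel]

theorem lift_unique {n : ℕ} (hn : Free F n) {g h : SL₃} (hg : g ^ n = 1) (hh : h ^ n = 1) (e : pr g = pr h) :
    g = h := by
  have hz : pr (g⁻¹ * h) = 1 := by rw [map_mul, map_inv, e, inv_mul_cancel]
  have hc : Commute g (g⁻¹ * h) := center_commute hz g
  have hh' : h = g * (g⁻¹ * h) := by rw [mul_inv_cancel_left]
  have : (g⁻¹ * h) ^ n = 1 := by
    rw [hh', hc.mul_pow, hg, one_mul] at hh
    exact hh
  rw [hh', hn _ hz this, mul_one]

/-- Elements commuting in the quotient commute, if one of them is a lift of the given exponent. -/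
theorem commute_of_pr {n : ℕ} (hn : Free F n) {g y : SL₃} (hy : y ^ n = 1) (e : Commute (pr g) (pr y)) :
    Commute g y := by
  have : g * y * g⁻¹ = y := lift_unique hn (by rw [conj_pow, hy, mul_one, mul_inv_cancel]) hy (by
    rw [map_mul, map_mul, map_inv, e.eq, mul_inv_cancel_right])
  exact mul_inv_eq_iff_eq_mul.1 this

theorem conj_eq_pow {n : ℕ} (hn : Free F n) {g y : SL₃} (hy : y ^ n = 1) {i : ℕ}
    (e : pr g * pr y * (pr g)⁻¹ = pr y ^ i) : g * y * g⁻¹ = y ^ i :=
  lift_unique hn (by rw [conj_pow, hy, mul_one, mul_inv_cancel]) (by rw [← pow_mul, mul_comm, pow_mul, hy, one_pow])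
    (by rw [map_mul, map_mul, map_inv, e, map_pow])

theorem orderOf_lift {n : ℕ} (hp : n.Prime) {x : PSL₃} (hx : orderOf x = n) {g : SL₃} (hg : pr g = x)
    (hgn : g ^ n = 1) : orderOf g = n := by
  refine ((Nat.dvd_prime hp).1 (orderOf_dvd_of_pow_eq_one hgn)).resolve_left fun e => hp.ne_one ?_
  rw [orderOf_eq_one_iff] at e
  rw [← hx, ← hg, e, map_one, orderOf_one]

end Cfsg.Agent.Classical.Bloom
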