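import Cfsg.Agent.Lib.Classical.Bloom.Lift
import Cfsg.Agent.Lib.Classical.Bloom.Field

/-!
A subgroup of `PSL(3, F)` above the image of a classical group over a subfield, whose elements are scalar multiples
of matrices of the classical type: it is this image, or contains it with index three.
-/

set_option autoImplicit false

namespace Cfsg.Agent.Classical.Bloom

open Matrix

variable {F : Type*} [Field F] [Fintype F]

local notation "SL₃" => Matrix.SpecialLinearGroup (Fin 3) F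
local notation "PSL₃" => Matrix.ProjectiveSpecialLinearGroup (Fin 3) F
local notation "M₃" => Matrix (Fin 3) (Fin 3) F

/-- The cubes of a group of units. -/
def cubes (U : Subgroup Fˣ) : Subgroup U := (powMonoidHom 3 : U →* U).range

omit [Fintype F] in
theorem mk_eq_of_cube {U : Subgroup Fˣ} {x y w : U} (h : (x : Fˣ) = (y : Fˣ) * (w : Fˣ) ^ 3) :
    (QuotientGroup.mk x : U ⧸ cubes U) = QuotientGroup.mk y := by
  have e : x = y * w ^ 3 := Subtype.ext (h.trans (by rw [Subgroup.coe_mul, Subgroup.coe_pow]))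
  refine QuotientGroup.eq.2 ⟨w⁻¹, Subtype.ext ?_⟩
  show ((w⁻¹ ^ 3 : U) : Fˣ) = ((x⁻¹ * y : U) : Fˣ)
  rw [e]
  simp [mul_assoc, mul_comm, mul_left_comm]

/-- The matrix model of a classical group over a subfield. -/
structure Model (N₀ : Subgroup SL₃) where
  Adm : M₃ → Prop
  U : Subgroup Fˣ
  mem_iff : ∀ g : SL₃, g ∈ N₀ ↔ Adm (g : M₃)
  adm_mul : ∀ A B : M₃, Adm A → Adm B → Adm (A * B)
  adm_smul : ∀ (A : M₃) (u : Fˣ), u ∈ U → Adm A → Adm ((u : F) • A)
  adm_unique : ∀ (A : M₃) (d : F), d ≠ 0 → A.det ≠ 0 → Adm A → Adm (d • A) → ∃ u ∈ U, (u : F) = d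
  adm_det : ∀ A : M₃, A.det ≠ 0 → Adm A → ∃ u ∈ U, (u : F) = A.det
  adm_center : ∀ X : M₃, (∀ g ∈ N₀, X * (g : M₃) = (g : M₃) * X) → ∃ c : F, X = c • 1

variable {H : Subgroup (Matrix.ProjectiveSpecialLinearGroup (Fin 3) F)}
  {N₀ : Subgroup (Matrix.SpecialLinearGroup (Fin 3) F)}

namespace Model

variable (T : Model N₀)

/-- The class of the cube of a multiplier. -/
def IsClass (g : SL₃) (θ : T.U ⧸ cubes T.U) : Prop :=
  ∃ (c : F) (A : M₃) (u : T.U), T.Adm A ∧ (g : M₃) = c • A ∧ ((u : Fˣ) : F) = c ^ 3 ∧ θ = QuotientGroup.mk u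

theorem exists_class {g : SL₃} {c : F} {A : M₃} (hA : T.Adm A) (e : (g : M₃) = c • A) :
    ∃ θ, T.IsClass g θ := by
  have hdet : c ^ 3 * A.det = 1 := by
    have := g.2
    rwa [e, det_smul, Fintype.card_fin] at this
  obtain ⟨u, hu, eu⟩ := T.adm_det A (right_ne_zero_of_mul_eq_one hdet) hA
  refine ⟨_, c, A, ⟨u⁻¹, inv_mem hu⟩, hA, e, ?_, rfl⟩
  rw [Units.val_inv_eq_inv_val, eu]
  exact inv_eq_of_mul_eq_one_left hdet

theorem class_unique {g g' : SL₃} (hp : pr g = pr g') {θ θ' : T.U ⧸ cubes T.U} (h : T.IsClass g θ)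
    (h' : T.IsClass g' θ') : θ = θ' := by
  obtain ⟨w, hw, ew⟩ := pr_eq_pr.1 hp
  obtain ⟨c, A, u, hA, e, eu, rfl⟩ := h
  obtain ⟨c', A', u', hA', e', eu', rfl⟩ := h'
  have hu0 : c ≠ 0 := fun e0 => (u : Fˣ).ne_zero (by rw [eu, e0, zero_pow three_ne_zero])
  have hu0' : c' ≠ 0 := fun e0 => (u' : Fˣ).ne_zero (by rw [eu', e0, zero_pow three_ne_zero])
  have hA0 : A.det ≠ 0 := fun e0 => by
    have := g.2
    rw [e, det_smul, e0, mul_zero] at this
    exact zero_ne_one this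
  have hAA : A' = (c'⁻¹ * (w * c)) • A := by
    rw [← smul_smul, ← smul_smul, ← e, ← ew, e', smul_smul, inv_mul_cancel₀ hu0', one_smul]
  have hd0 : c'⁻¹ * (w * c) ≠ 0 := mul_ne_zero (inv_ne_zero hu0')
    (mul_ne_zero (fun e0 => by rw [e0, zero_pow three_ne_zero] at hw; exact zero_ne_one hw) hu0)
  obtain ⟨d, hd, ed⟩ := T.adm_unique A _ hd0 hA0 hA (hAA ▸ hA')
  refine mk_eq_of_cube (w := ⟨d, hd⟩) (Units.ext ?_)
  simp only [Units.val_mul, Units.val_pow_eq_pow_val, eu, eu', ed]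
  field_simp
  first
    | done
    | linear_combination c ^ 3 * hw
    | linear_combination -(c ^ 3) * hw
    | linear_combination hw
    | linear_combination -hw

theorem class_mul {g g' : SL₃} {θ θ' : T.U ⧸ cubes T.U} (h : T.IsClass g θ) (h' : T.IsClass g' θ') :
    T.IsClass (g * g') (θ * θ') := by
  obtain ⟨c, A, u, hA, e, eu, rfl⟩ := h
  obtain ⟨c', A', u', hA', e', eu', rfl⟩ := h'
  refine ⟨c * c', A * A', u * u', T.adm_mul _ _ hA hA', ?_, ?_, rfl⟩
  · rw [Matrix.SpecialLinearGroup.coe_mul, e, e', smul_mul_smul_comm]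
  · rw [Subgroup.coe_mul, Units.val_mul, eu, eu', mul_pow]

theorem class_one_iff {g : SL₃} {θ : T.U ⧸ cubes T.U} (h : T.IsClass g θ) :
    θ = 1 ↔ ∃ n ∈ N₀, pr n = pr g := by
  constructor
  · rintro rfl
    obtain ⟨c, A, u, hA, e, eu, hθ⟩ := h
    obtain ⟨v, hv⟩ := (QuotientGroup.eq_one_iff u).1 hθ.symm
    have hcv : c ^ 3 = ((v : Fˣ) : F) ^ 3 := by
      rw [← eu, ← hv]; simp
    have hn : (((v : Fˣ) : F) • A).det = 1 := by
      have := g.2
      rw [e, det_smul, Fintype.card_fin, hcv] at this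
      rwa [det_smul, Fintype.card_fin]
    refine ⟨⟨_, hn⟩, (T.mem_iff _).2 (T.adm_smul A v v.2 hA), pr_eq_pr.2 ⟨c / ((v : Fˣ) : F), ?_, ?_⟩⟩
    · rw [div_pow, hcv, div_self (pow_ne_zero _ (Units.ne_zero _))]
    · rw [e, smul_smul, div_mul_cancel₀ _ (Units.ne_zero _)]
  · rintro ⟨n, hn, e⟩
    exact T.class_unique (g' := n) e.symm h ⟨1, n, 1, (T.mem_iff n).1 hn, by rw [one_smul], by simp, rfl⟩

include T in
theorem center_iff {S : Type*} [Group S] (f : S →* SL₃) (hf : Function.Injective f) (hr : f.range = N₀) (s : S) :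
    s ∈ Subgroup.center S ↔ pr (f s) = 1 := by
  constructor
  · intro hs
    obtain ⟨c, hc⟩ := T.adm_center (f s : M₃) (by
      intro g hg
      rw [← hr] at hg
      obtain ⟨x, rfl⟩ := hg
      rw [← Matrix.SpecialLinearGroup.coe_mul, ← Matrix.SpecialLinearGroup.coe_mul, ← map_mul, ← map_mul,
        Subgroup.mem_center_iff.1 hs x])
    refine pr_eq_one.2 ⟨c, ?_, hc⟩
    have := (f s).2
    rwa [hc, det_smul, det_one, mul_one, Fintype.card_fin] at this
  · intro hs
    exact Subgroup.mem_center_iff.2 fun x => hf (by rw [map_mul, map_mul, center_commute hs])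

include T in
/-- The subgroup is the image of the classical group, or has it with index three. -/
theorem cases_index {S : Type*} [Group S] (f : S →* SL₃) (hf : Function.Injective f) (hr : f.range = N₀)
    (hN : ∀ g ∈ N₀, pr g ∈ H)
    (hform : ∀ g : SL₃, pr g ∈ H → ∃ (c : F) (A : M₃), T.Adm A ∧ (g : M₃) = c • A) :
    Nonempty (H ≃* S ⧸ Subgroup.center S) ∨
      (3 ∣ Nat.card T.U ∧ (∃ L : Subgroup H, L.index = 3 ∧ Nonempty (L ≃* S ⧸ Subgroup.center S)) ∧
        ∃ (c : F) (u : Fˣ), u ∈ T.U ∧ c ^ 3 = (u : F) ∧ ∀ v ∈ T.U, (v : Fˣ) ^ 3 ≠ u) := by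
  classical
  choose l hl using fun x : H => pr_surjective (x : PSL₃)
  have hex : ∀ x : H, ∃ θ, T.IsClass (l x) θ := fun x => by
    obtain ⟨c, A, hA, e⟩ := hform (l x) (by rw [hl]; exact x.2)
    exact T.exists_class hA e
  choose θ hθ using hex
  let Θ : H →* T.U ⧸ cubes T.U := MonoidHom.mk' θ fun x y => T.class_unique (g := l (x * y)) (g' := l x * l y)
    (by rw [map_mul, hl, hl, hl]; rfl) (hθ _) (T.class_mul (hθ x) (hθ y))
  let L := ((N₀.map pr).subgroupOf H)
  have hker : Θ.ker = L := by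
    ext x
    rw [MonoidHom.mem_ker, Subgroup.mem_subgroupOf, Subgroup.mem_map]
    show θ x = 1 ↔ _
    rw [T.class_one_iff (hθ x), hl]
  have hle : N₀.map pr ≤ H := by
    rintro _ ⟨g, hg, rfl⟩
    exact hN g hg
  have eL : Nonempty (L ≃* S ⧸ Subgroup.center S) := by
    let ψ : S →* L := (((pr.comp f).codRestrict H fun s => hN _ (hr ▸ ⟨s, rfl⟩)).codRestrict L
      fun s => ⟨f s, hr ▸ ⟨s, rfl⟩, rfl⟩)
    have hψ : Function.Surjective ψ := by
      rintro ⟨x, g, hg, e⟩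
      rw [← hr] at hg
      obtain ⟨s, rfl⟩ := hg
      exact ⟨s, Subtype.ext (Subtype.ext e)⟩
    have hk : ψ.ker = Subgroup.center S := by
      ext s
      rw [MonoidHom.mem_ker, T.center_iff f hf hr s]
      exact ⟨fun h => congrArg (fun z : L => ((z : H) : PSL₃)) h, fun h => Subtype.ext (Subtype.ext h)⟩
    exact ⟨((QuotientGroup.quotientMulEquivOfEq hk.symm).trans
      (QuotientGroup.quotientKerEquivOfSurjective ψ hψ)).symm⟩
  obtain ⟨eL⟩ := eL
  haveI : IsCyclic T.U := inferInstance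
  have hQ : Nat.card (T.U ⧸ cubes T.U) = Nat.gcd (Nat.card T.U) 3 := by
    rw [← Subgroup.index_eq_card, cubes, IsCyclic.index_powMonoidHom_range]
  have hdvd : L.index ∣ Nat.gcd (Nat.card T.U) 3 := by
    rw [← hker, Subgroup.index_ker, ← hQ]
    exact Subgroup.card_subgroup_dvd_card _
  rcases (Nat.dvd_prime Nat.prime_three).1 (hdvd.trans (Nat.gcd_dvd_right _ _)) with h1 | h3
  · rw [Subgroup.index_eq_one] at h1
    exact Or.inl ⟨(Subgroup.topEquiv.symm.trans (MulEquiv.subgroupCongr h1.symm)).trans eL⟩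
  · refine Or.inr ⟨h3 ▸ hdvd.trans (Nat.gcd_dvd_left _ _), ⟨L, h3, ⟨eL⟩⟩, ?_⟩
    obtain ⟨x, hx⟩ : ∃ x : H, x ∉ L := by
      by_contra hno
      push Not at hno
      rw [(eq_top_iff.2 fun x _ => hno x : L = ⊤), Subgroup.index_top] at h3
      omega
    obtain ⟨c, A, u, hA, e, eu, hθx⟩ := hθ x
    refine ⟨c, u, u.2, eu.symm, fun v hv hvu => hx ?_⟩
    rw [← hker, MonoidHom.mem_ker]
    show θ x = 1
    rw [hθx]
    exact (QuotientGroup.eq_one_iff u).2 ⟨⟨v, hv⟩, Subtype.ext hvu⟩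

end Model

/-- A cube root outside the subfield forces degree divisible by three. -/
theorem degree_three {p α d : ℕ} [hp : Fact p.Prime] (hd : 1 ≤ d) (hF : Fintype.card F = p ^ α) (M : Subfield F)
    (hM : Nat.card M = p ^ d) (h3 : 3 ∣ Nat.card M - 1) {c : F} (hc : c ^ 3 ∈ M) (hcM : c ∉ M) :
    3 * d ∣ α := by
  classical
  set m := Nat.card M with hm
  have hc0 : c ≠ 0 := fun e => hcM (e ▸ M.zero_mem)
  set w := c ^ m / c with hw
  have hcm : c ^ m = w * c := (div_mul_cancel₀ _ hc0).symm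
  have hw3 : w ^ 3 = 1 := by
    rw [hw, div_pow, ← pow_mul, mul_comm m 3, pow_mul, (mem_iff_pow_card M).1 hc, div_self (pow_ne_zero _ hc0)]
  have hw1 : w ≠ 1 := fun e => hcM ((mem_iff_pow_card M).2 (by rw [hcm, e, one_mul]))
  obtain ⟨k, hk⟩ := h3
  have hm1 : 1 ≤ m := Nat.card_pos
  have hwm : w ^ m = w := by
    rw [show m = 3 * k + 1 by omega, pow_succ, pow_mul, hw3, one_pow, one_mul]
  have hiter : ∀ e : ℕ, c ^ m ^ e = w ^ e * c := by
    intro e
    induction e with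
    | zero => simp
    | succ e ih => rw [pow_succ m, pow_mul, ih, mul_pow, ← pow_mul, mul_comm e m, pow_mul, hwm, hcm, ← mul_assoc, ← pow_succ]
  obtain ⟨e, he⟩ : ∃ e, p ^ α = (p ^ d) ^ e := by
    refine ⟨Module.finrank M F, ?_⟩
    rw [← hF, ← Nat.card_eq_fintype_card, Module.natCard_eq_pow_finrank (K := M), ← hM]
  rw [← pow_mul] at he
  have hα : α = d * e := Nat.pow_right_injective hp.out.two_le he
  have hwe : w ^ e = 1 := by
    have h := hiter e
    rw [show m ^ e = Fintype.card F by rw [hF, hα, hM, ← pow_mul], FiniteField.pow_card] at h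
    exact mul_right_cancel₀ hc0 (by rw [one_mul]; exact h.symm)
  have ho : orderOf w = 3 := by
    haveI : Fact (Nat.Prime 3) := ⟨Nat.prime_three⟩
    exact orderOf_eq_prime hw3 hw1
  obtain ⟨j, hj⟩ := ho ▸ orderOf_dvd_of_pow_eq_one hwe
  exact ⟨j, by rw [hα, hj]; ring⟩

theorem degree_dvd {p α d : ℕ} [hp : Fact p.Prime] (hF : Fintype.card F = p ^ α) (M : Subfield F)
    (hM : Nat.card M = p ^ d) : d ∣ α := by
  classical
  refine ⟨Module.finrank M F, Nat.pow_right_injective hp.out.two_le ?_⟩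
  show p ^ α = p ^ (d * Module.finrank M F)
  rw [← hF, ← Nat.card_eq_fintype_card, Module.natCard_eq_pow_finrank (K := M), hM, pow_mul]

end Cfsg.Agent.Classical.Bloom
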