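import Cfsg.Agent.Lib.Classical.Bloom.NoTransvection
import Cfsg.Agent.Lib.Classical.Bloom.Eigen

/-!
Lifts of a root group of `PSL(2, L)` inside `PSL(3, F)`: in the defining characteristic they give an embedding of
`L` in `F`; otherwise `L` has five, seven or nine elements.
-/

set_option autoImplicit false

namespace Cfsg.Agent.Classical.Bloom

open Matrix

variable {F : Type*} [Field F] [Fintype F]

local notation "SL₃" => Matrix.SpecialLinearGroup (Fin 3) F
local notation "PSL₃" => Matrix.ProjectiveSpecialLinearGroup (Fin 3) F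
local notation "M₃" => Matrix (Fin 3) (Fin 3) F

variable {L : Type*} [Field L] [Fintype L] {G : Type*} [Group G]

/-- A root group with a torus acting by squares. -/
structure Root (L : Type*) [Field L] (G : Type*) [Group G] where
  u : L → G
  add : ∀ s t, u (s + t) = u s * u t
  inj : Function.Injective u
  tor : ∀ a : Lˣ, ∃ t : G, ∀ s, t * u s * t⁻¹ = u ((a : L) ^ 2 * s)

namespace Root

variable (R : Root L G)

omit [Fintype L] in
theorem zero : R.u 0 = 1 := by
  have h := R.add 0 0
  rw [add_zero] at h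
  exact left_eq_mul.1 h

omit [Fintype L] in
theorem nsmul (n : ℕ) (s : L) : R.u (n • s) = R.u s ^ n := by
  induction n with
  | zero => rw [zero_smul, pow_zero, R.zero]
  | succ n ih => rw [succ_nsmul, R.add, ih, pow_succ]

omit [Fintype L] in
theorem comm (s t : L) : R.u s * R.u t = R.u t * R.u s := by rw [← R.add, ← R.add, add_comm]

omit [Fintype L] in
theorem pow_char (ℓ : ℕ) [CharP L ℓ] (s : L) : R.u s ^ ℓ = 1 := by
  rw [← R.nsmul, nsmul_eq_mul, CharP.cast_eq_zero, zero_mul, R.zero]

omit [Fintype L] in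
theorem orderOf_u (ℓ : ℕ) [Fact ℓ.Prime] [CharP L ℓ] {s : L} (hs : s ≠ 0) : orderOf (R.u s) = ℓ :=
  orderOf_eq_prime (R.pow_char ℓ s) fun h => hs (R.inj (h.trans R.zero.symm))

/-- In the defining characteristic the coefficient of the regular nilpotent is a field embedding. -/
theorem exists_embedding (p : ℕ) [Fact p.Prime] [CharP F p] [CharP L p] (hp2 : p ≠ 2) {f : G →* PSL₃}
    (hf : TvFree f) :
    ∃ β : L →+* F, ∀ (g : G) (φ : L → L), (∀ s, g * R.u s * g⁻¹ = R.u (φ s)) → ∀ s, β (φ s) = β s * β (φ 1) := by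
  classical
  choose l hl hlp using fun s => exists_lift (F := F) (free_char p)
    (x := f (R.u s)) (by rw [← map_pow, R.pow_char p s, map_one])
  have huniq : ∀ (g : SL₃) (s : L), pr g = f (R.u s) → g ^ p = 1 → g = l s := fun g s h1 h2 =>
    lift_unique (free_char p) h2 (hlp s) (h1.trans (hl s).symm)
  have hlc : ∀ s t, l s * l t = l t * l s := fun s t => commute_of_pr (free_char p) (hlp t)
    (by rw [hl, hl]; exact (show Commute (R.u s) (R.u t) from R.comm s t).map f)
  have hladd : ∀ s t, l s * l t = l (s + t) := fun s t => huniq _ _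
    (by rw [map_mul, hl, hl, R.add, map_mul]) (by rw [(show Commute (l s) (l t) from hlc s t).mul_pow, hlp, hlp, mul_one])
  have hreg : ∀ s, s ≠ 0 → ((l s : M₃) - 1) * ((l s : M₃) - 1) * ((l s : M₃) - 1) = 0 ∧
      ((l s : M₃) - 1) * ((l s : M₃) - 1) ≠ 0 := fun s hs => by
    obtain ⟨u, hu, hup, h3, hsq⟩ := regular_lift p hf (R.orderOf_u p hs)
    rw [huniq u s hu hup] at h3 hsq
    exact ⟨h3, hsq⟩
  have hzero : l 0 = 1 := (huniq 1 0 (by rw [map_one, R.zero, map_one]) (one_pow p)).symm
  obtain ⟨N, hN⟩ : ∃ N : M₃, N = (l 1 : M₃) - 1 := ⟨_, rfl⟩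
  obtain ⟨hN3, hN2⟩ := hreg 1 one_ne_zero
  rw [← hN] at hN3 hN2
  have hcoef : ∀ s, ∃ b c : F, (l s : M₃) = 1 + b • N + c • (N * N) := by
    intro s
    obtain ⟨a, b, c, e⟩ := regular_commute hN3 hN2 (X := (l s : M₃)) (by
      rw [hN, mul_sub, sub_mul, mul_one, one_mul, ← Matrix.SpecialLinearGroup.coe_mul, hlc,
        Matrix.SpecialLinearGroup.coe_mul])
    refine ⟨b, c, ?_⟩
    suffices ha : a = 1 by rw [e, ha, one_smul]
    have h3 : ((l s : M₃) - 1) * ((l s : M₃) - 1) * ((l s : M₃) - 1) = 0 := by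
      rcases eq_or_ne s 0 with rfl | hs
      · simp [hzero]
      · exact (hreg s hs).1
    have hNX : N * N * ((l s : M₃) - 1) = (a - 1) • (N * N) := by
      rw [e, mul_sub, mul_one, mul_add, mul_add, mul_smul_comm, mul_smul_comm, mul_smul_comm, mul_one, hN3,
        ← mul_assoc (N * N) N N, hN3, zero_mul, smul_zero, smul_zero, add_zero, add_zero, sub_smul, one_smul]
    have h := congrArg (N * N * ·) h3
    simp only [mul_zero] at h
    rw [← mul_assoc, ← mul_assoc, hNX, smul_mul_assoc, hNX, smul_mul_assoc, smul_mul_assoc, hNX, smul_smul,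
      smul_smul] at h
    rcases smul_eq_zero.1 h with h | h
    · exact sub_eq_zero.1 (pow_eq_zero_iff (three_ne_zero) |>.1 (by rw [← h]; ring))
    · exact absurd h hN2
  choose b c hbc using hcoef
  have huniq' : ∀ b b' c c' : F, b • N + c • (N * N) = b' • N + c' • (N * N) → b = b' := fun b b' c c' h => by
    have h' := congrArg (· * N) h
    simp only [add_mul, smul_mul_assoc, hN3, smul_zero, add_zero] at h'
    exact smul_left_injective F hN2 h'
  have hb_add : ∀ s t, b (s + t) = b s + b t := fun s t => by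
    have h := congrArg (fun g : SL₃ => (g : M₃)) (hladd s t)
    simp only [Matrix.SpecialLinearGroup.coe_mul, hbc, add_mul, mul_add, one_mul, mul_one, smul_mul_assoc,
      mul_smul_comm, smul_smul, ← mul_assoc, hN3, zero_mul, smul_zero, add_zero] at h
    refine (huniq' (b s + b t) (b (s + t)) (c s + c t + b t * b s) (c (s + t)) ?_).symm
    refine add_left_cancel (a := (1 : M₃)) ?_
    rw [← add_assoc _ (b (s + t) • N), ← h]
    module
  have hb1 : b 1 = 1 := by
    refine huniq' (b 1) 1 (c 1) 0 ?_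
    rw [one_smul, zero_smul, add_zero]
    refine add_left_cancel (a := (1 : M₃)) ?_
    rw [← add_assoc, ← hbc, hN, add_sub_cancel]
  have hb_inj : ∀ s, b s = 0 → s = 0 := fun s hs => by
    by_contra h0
    refine (hreg s h0).2 ?_
    rw [hbc, hs, zero_smul, add_zero, add_sub_cancel_left, smul_mul_assoc, mul_smul_comm, ← mul_assoc, hN3,
      zero_mul, smul_zero, smul_zero]
  have hconj : ∀ (g : G) (φ : L → L), (∀ s, g * R.u s * g⁻¹ = R.u (φ s)) → ∀ s, b (φ s) = b s * b (φ 1) := by
    intro g φ hg s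
    obtain ⟨x, hx⟩ := pr_surjective (f g)
    have hX : ∀ s, (x : M₃) * (l s : M₃) = (l (φ s) : M₃) * (x : M₃) := fun s => by
      have := huniq (x * l s * x⁻¹) (φ s) (by rw [map_mul, map_mul, map_inv, hx, hl, ← map_inv, ← map_mul, ← map_mul, hg])
        (by rw [conj_pow, hlp, mul_one, mul_inv_cancel])
      rw [← Matrix.SpecialLinearGroup.coe_mul, ← Matrix.SpecialLinearGroup.coe_mul, ← this, inv_mul_cancel_right]
    obtain ⟨N', hN'⟩ : ∃ N', N' = b (φ 1) • N + c (φ 1) • (N * N) := ⟨_, rfl⟩
    have hl1 : (l (φ 1) : M₃) = 1 + N' := by rw [hbc, hN', add_assoc]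
    have hxN : (x : M₃) * N = N' * (x : M₃) := by
      rw [hN, mul_sub, mul_one, hX 1, hl1, add_mul, one_mul, add_sub_cancel_left]
    have hxN2 : (x : M₃) * (N * N) = (N' * N') * (x : M₃) := by
      rw [← mul_assoc, hxN, mul_assoc, hxN, ← mul_assoc]
    have h1 : (l (φ s) : M₃) * (x : M₃) = (1 + b s • N' + c s • (N' * N')) * (x : M₃) := by
      rw [← hX, hbc, mul_add, mul_add, mul_one, mul_smul_comm, mul_smul_comm, hxN, hxN2]
      simp only [add_mul, one_mul, smul_mul_assoc]
    have h2 : (l (φ s) : M₃) = 1 + b s • N' + c s • (N' * N') := by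
      have := congrArg (· * ((x⁻¹ : SL₃) : M₃)) h1
      simpa only [mul_assoc, ← Matrix.SpecialLinearGroup.coe_mul, mul_inv_cancel, Matrix.SpecialLinearGroup.coe_one,
        mul_one] using this
    rw [hbc, hN'] at h2
    simp only [add_mul, mul_add, smul_mul_assoc, mul_smul_comm, smul_smul, ← mul_assoc, hN3, zero_mul, smul_zero,
      add_zero, smul_add, add_assoc] at h2
    refine huniq' _ (b s * b (φ 1)) (c (φ s)) (b s * c (φ 1) + c s * (b (φ 1) * b (φ 1))) ?_
    rw [add_left_cancel h2]
    module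
  have hsq : ∀ a t : L, b (a ^ 2 * t) = b (a ^ 2) * b t := fun a t => by
    rcases eq_or_ne a 0 with rfl | ha
    · have : b 0 = 0 := by have := hb_add 0 0; rw [add_zero] at this; exact left_eq_add.1 this
      simp [this]
    · obtain ⟨g, hg⟩ := R.tor (Units.mk0 a ha)
      have := hconj g (fun s => a ^ 2 * s) hg t
      rw [this, mul_one, mul_comm]
  let bh : L →+ F := AddMonoidHom.mk' b hb_add
  have h2L : (2 : L) ≠ 0 := fun e => hp2 ((Nat.prime_dvd_prime_iff_eq Fact.out Nat.prime_two).1
    ((CharP.cast_eq_zero_iff L p 2).1 (by exact_mod_cast e)))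
  have hmul : ∀ s t : L, b (s * t) = b s * b t := fun s t => by
    have hdiff : ((s + 1) / 2) ^ 2 - ((s - 1) / 2) ^ 2 = s := by field_simp; ring
    conv_lhs => rw [← hdiff, sub_mul]
    show bh _ = _
    rw [map_sub]
    show b _ - b _ = _
    rw [hsq, hsq, ← sub_mul]
    congr 1
    show bh _ - bh _ = bh _
    rw [← map_sub, hdiff]
  exact ⟨{ toFun := b, map_one' := hb1, map_mul' := hmul, map_zero' := bh.map_zero, map_add' := hb_add }, hconj⟩

omit [Fintype L] in
/-- Commutator scalars of lifts. -/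
theorem exists_scalar {f : G →* PSL₃} {s t : L} {g h : SL₃} (hg : pr g = f (R.u s)) (hh : pr h = f (R.u t)) :
    ∃ w : F, w ^ 3 = 1 ∧ (g : M₃) * (h : M₃) = w • ((h : M₃) * (g : M₃)) := by
  obtain ⟨w, hw, e⟩ := pr_eq_pr.1 (show pr (h * g) = pr (g * h) by
    rw [map_mul, map_mul, hg, hh, ← map_mul, ← map_mul, R.comm])
  exact ⟨w, hw, by rw [← Matrix.SpecialLinearGroup.coe_mul, e, Matrix.SpecialLinearGroup.coe_mul]⟩

/-- The commutator pairing of a root group whose lifts do not commute. -/
structure Pairing (f : G →* PSL₃) where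
  c : L → L → F
  cube : ∀ s t, c s t ^ 3 = 1
  self : ∀ s, c s s = 1
  symm : ∀ s t, c t s * c s t = 1
  add_left : ∀ s s' t, c (s + s') t = c s t * c s' t
  add_right : ∀ s t t', c s (t + t') = c s t * c s t'
  inv : ∀ (g : G) (φ : L → L), (∀ s, g * R.u s * g⁻¹ = R.u (φ s)) → ∀ s t, c (φ s) (φ t) = c s t
  nontrivial : ∃ s t, c s t ≠ 1

/-- Away from the characteristic of `F` there are few root elements. -/
theorem small_root (p ℓ : ℕ) [Fact p.Prime] [CharP F p] [Fact ℓ.Prime] [CharP L ℓ] (hℓ2 : ℓ ≠ 2) (hℓp : ℓ ≠ p)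
    (h3 : 3 < Fintype.card L) {f : G →* PSL₃} (hf : Function.Injective f) :
    Fintype.card L = 5 ∨ Fintype.card L = 7 ∨ (Fintype.card L = 9 ∧ Nonempty (R.Pairing f)) := by
  classical
  have hodd : Fintype.card L % 2 = 1 := FiniteField.odd_card_of_char_ne_two (fun e => hℓ2 (by
    rw [← ringChar.eq L ℓ]; exact e))
  choose l hl using fun s => pr_surjective (f (R.u s))
  choose w hw hwe using fun s t => R.exists_scalar (hl s) (hl t)
  have hc : ∀ s t (g h : SL₃), pr g = f (R.u s) → pr h = f (R.u t) →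
      (g : M₃) * (h : M₃) = w s t • ((h : M₃) * (g : M₃)) := fun s t g h hg hh => by
    obtain ⟨c1, -, e1⟩ := pr_eq_pr.1 ((hl s).trans hg.symm)
    obtain ⟨c2, -, e2⟩ := pr_eq_pr.1 ((hl t).trans hh.symm)
    rw [e1, e2, smul_mul_assoc, mul_smul_comm, smul_mul_assoc, mul_smul_comm, hwe]
    module
  have huniq : ∀ (x y : SL₃) (a b : F), a • ((x : M₃) * (y : M₃)) = b • ((x : M₃) * (y : M₃)) → a = b :=
    fun x y a b h => by
      refine smul_left_injective F (fun e0 => ?_) h
      have := congrArg Matrix.det e0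
      rw [det_mul, x.2, y.2, one_mul] at this
      simp at this
  by_cases hall : ∀ s t, w s t = 1
  · -- an abelian preimage
    let U : Subgroup G :=
      { carrier := Set.range R.u
        one_mem' := ⟨0, R.zero⟩
        mul_mem' := by rintro _ _ ⟨s, rfl⟩ ⟨t, rfl⟩; exact ⟨s + t, R.add s t⟩
        inv_mem' := by
          rintro _ ⟨s, rfl⟩
          exact ⟨-s, eq_inv_of_mul_eq_one_left (by rw [← R.add, neg_add_cancel, R.zero])⟩ }
    let A : Subgroup SL₃ := (U.map f).comap pr
    have hmem : ∀ a, a ∈ A ↔ ∃ s, pr a = f (R.u s) := fun a =>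
      ⟨fun ⟨_, ⟨s, hs⟩, e⟩ => ⟨s, by rw [← e, ← hs]⟩, fun ⟨s, hs⟩ => ⟨_, ⟨s, rfl⟩, hs.symm⟩⟩
    have hcomm : ∀ a ∈ A, ∀ b ∈ A, a * b = b * a := by
      intro a ha b hb
      obtain ⟨s, hs⟩ := (hmem a).1 ha
      obtain ⟨t, ht⟩ := (hmem b).1 hb
      refine Subtype.ext ?_
      rw [Matrix.SpecialLinearGroup.coe_mul, Matrix.SpecialLinearGroup.coe_mul, hc s t a b hs ht, hall, one_smul]
    have hA : (Nat.card A : F) ≠ 0 := by
      rw [ne_eq, CharP.cast_eq_zero_iff F p]
      intro hd
      obtain ⟨g, hg⟩ := exists_prime_orderOf_dvd_card' p hd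
      have hgp : (g : SL₃) ^ p = 1 := by
        rw [← Subgroup.coe_pow, ← hg, pow_orderOf_eq_one, Subgroup.coe_one]
      obtain ⟨s, hs⟩ := (hmem _).1 g.2
      have hs0 : s = 0 := by
        by_contra h0
        have h1 : orderOf (R.u s) ∣ p := orderOf_dvd_of_pow_eq_one (hf (by
          rw [map_pow, ← hs, ← map_pow, hgp, map_one, map_one]))
        rw [R.orderOf_u ℓ h0] at h1
        exact hℓp ((Nat.prime_dvd_prime_iff_eq Fact.out Fact.out).1 h1)
      rw [hs0, R.zero, map_one] at hs
      have := lift_unique (free_char p) hgp (one_pow p) (hs.trans (map_one pr).symm)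
      rw [show g = 1 from Subtype.ext this, orderOf_one] at hg
      exact (Fact.out : p.Prime).ne_one hg.symm
    obtain ⟨a, ha⟩ := IsCyclic.exists_ofOrder_eq_natCard (α := Lˣ)
    obtain ⟨g, hg⟩ := R.tor a
    obtain ⟨x, hx⟩ := pr_surjective (f g)
    have hstep : ∀ b : SL₃, b ∈ A ↔ x * b * x⁻¹ ∈ A := fun b => by
      rw [hmem, hmem]
      constructor
      · rintro ⟨s, hs⟩
        exact ⟨(a : L) ^ 2 * s, by rw [map_mul, map_mul, map_inv, hx, hs, ← map_inv, ← map_mul, ← map_mul, hg]⟩
      · rintro ⟨s, hs⟩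
        refine ⟨((a⁻¹ : Lˣ) : L) ^ 2 * s, ?_⟩
        have := hg (((a⁻¹ : Lˣ) : L) ^ 2 * s)
        rw [← mul_assoc, ← mul_pow, ← Units.val_mul, mul_inv_cancel, Units.val_one, one_pow, one_mul] at this
        rw [map_mul, map_mul, map_inv, hx, ← this, map_mul, map_mul, map_inv] at hs
        exact mul_left_cancel (mul_right_cancel hs)
    have hfin : ∀ n : ℕ, (∀ b ∈ A, x ^ n * b * (x ^ n)⁻¹ = b) → orderOf a ∣ 2 * n := fun n hn => by
      have hit : ∀ s, g ^ n * R.u s * (g ^ n)⁻¹ = R.u ((a : L) ^ (2 * n) * s) := by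
        clear hn
        induction n with
        | zero => simp
        | succ n ih =>
          intro s
          rw [pow_succ', show g * g ^ n * R.u s * (g * g ^ n)⁻¹ = g * (g ^ n * R.u s * (g ^ n)⁻¹) * g⁻¹ by group,
            ih, hg, ← mul_assoc, ← pow_add]
          congr 3; ring
      have := congrArg pr (hn (l 1) ((hmem _).2 ⟨1, hl 1⟩))
      rw [map_mul, map_mul, map_inv, map_pow, hx, hl, ← map_pow, ← map_inv, ← map_mul, ← map_mul, hit] at this
      have h1 := R.inj (hf this)
      rw [mul_one] at h1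
      exact orderOf_dvd_of_pow_eq_one (Units.ext (by rw [Units.val_pow_eq_pow_val, h1, Units.val_one]))
    have hord : orderOf a = Fintype.card L - 1 := by
      rw [ha, Nat.card_units, Nat.card_eq_fintype_card]
    rcases automizer_small A hcomm hA hstep with h | h
    · have hd := hfin 2 h
      rw [hord] at hd
      have hub := Nat.le_of_dvd (by norm_num) hd
      have h57 : Fintype.card L = 5 ∨ Fintype.card L = 7 := by
        have : Fintype.card L ≤ 7 := by omega
        interval_cases Fintype.card L <;> first | omega | norm_num at hd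
      exact h57.imp_right Or.inl
    · have hd := hfin 3 h
      rw [hord] at hd
      have hub := Nat.le_of_dvd (by norm_num) hd
      have h57 : Fintype.card L = 5 ∨ Fintype.card L = 7 := by
        have : Fintype.card L ≤ 7 := by omega
        interval_cases Fintype.card L <;> first | omega | norm_num at hd
      exact h57.imp_right Or.inl
  · push Not at hall
    have hadd : ∀ s s' t, w (s + s') t = w s t * w s' t := fun s s' t => by
      refine huniq (l t) (l s * l s') _ _ ?_
      rw [← hc (s + s') t (l s * l s') (l t) (by rw [map_mul, hl, hl, R.add, map_mul]) (hl t),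
        Matrix.SpecialLinearGroup.coe_mul, mul_assoc, hwe s' t, mul_smul_comm, ← mul_assoc, hwe s t, smul_mul_assoc,
        smul_smul, mul_assoc, mul_comm (w s' t)]
    have hsymm : ∀ s t, w t s * w s t = 1 := fun s t => by
      refine huniq (l t) (l s) _ _ ?_
      rw [one_smul, ← smul_smul, ← hwe, ← hwe]
    have hadd' : ∀ s t t', w s (t + t') = w s t * w s t' := fun s t t' => by
      have h1 := hsymm s (t + t')
      rw [hadd] at h1
      have h2 := hsymm s t
      have h3 := hsymm s t'
      linear_combination h1 * (w s t * w s t') - (w s (t + t')) * (w t s * w s t) * h3 - w s (t + t') * h2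
    have hself : ∀ s, w s s = 1 := fun s => huniq (l s) (l s) _ _ (by rw [one_smul, ← hwe])
    have P : R.Pairing f :=
      { c := w, cube := hw, self := hself, symm := hsymm, add_left := hadd, add_right := hadd'
        inv := fun g φ hg s t => by
          obtain ⟨x, hx⟩ := pr_surjective (f g)
          have hX : ∀ s, pr (x * l s * x⁻¹) = f (R.u (φ s)) := fun s => by
            rw [map_mul, map_mul, map_inv, hx, hl, ← map_inv, ← map_mul, ← map_mul, hg]
          refine huniq (x * l t * x⁻¹) (x * l s * x⁻¹) _ _ ?_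
          rw [← hc (φ s) (φ t) _ _ (hX s) (hX t)]
          simp only [← Matrix.SpecialLinearGroup.coe_mul]
          rw [show x * l s * x⁻¹ * (x * l t * x⁻¹) = x * (l s * l t) * x⁻¹ by group,
            show x * l t * x⁻¹ * (x * l s * x⁻¹) = x * (l t * l s) * x⁻¹ by group]
          simp only [Matrix.SpecialLinearGroup.coe_mul, hwe s t, mul_smul_comm, smul_mul_assoc]
        nontrivial := hall }
    obtain ⟨a, b, hab⟩ := hall
    let T : Finset F := (Polynomial.X ^ 3 - Polynomial.C (1 : F)).roots.toFinset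
    have hT : T.card ≤ 3 :=
      (Multiset.toFinset_card_le _).trans ((Polynomial.card_roots' _).trans Polynomial.natDegree_X_pow_sub_C.le)
    have hcard : Fintype.card L ≤ 9 := by
      refine le_trans (Finset.card_le_card_of_injOn (s := (Finset.univ : Finset L)) (fun s => (w s a, w s b))
        (t := T ×ˢ T) (fun s _ => Finset.mem_product.2 ⟨?_, ?_⟩) fun s _ t _ h => ?_) (by
          rw [Finset.card_product]; exact Nat.mul_le_mul hT hT)
      · rw [Multiset.mem_toFinset, Polynomial.mem_roots (Polynomial.X_pow_sub_C_ne_zero (show 0 < 3 by norm_num) (1 : F))]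
        simp [hw]
      · rw [Multiset.mem_toFinset, Polynomial.mem_roots (Polynomial.X_pow_sub_C_ne_zero (show 0 < 3 by norm_num) (1 : F))]
        simp [hw]
      · obtain ⟨ha, hb⟩ := Prod.mk.inj h
        have hd : ∀ d, w (s - t) d * w t d = w s d := fun d => by rw [← hadd, sub_add_cancel]
        have h0 : ∀ d, w t d ≠ 0 := fun d e0 => by
          have := hw t d; rw [e0, zero_pow three_ne_zero] at this; exact zero_ne_one this
        have e1 : w (s - t) a = 1 := mul_right_cancel₀ (h0 a) (by rw [hd, ha, one_mul])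
        have e2 : w (s - t) b = 1 := mul_right_cancel₀ (h0 b) (by rw [hd, hb, one_mul])
        have hpr := scalar_of_commute_pair (hw a b) hab (hwe a b) (c := l (s - t))
          (Subtype.ext (by rw [Matrix.SpecialLinearGroup.coe_mul, Matrix.SpecialLinearGroup.coe_mul, hwe, e1, one_smul]))
          (Subtype.ext (by rw [Matrix.SpecialLinearGroup.coe_mul, Matrix.SpecialLinearGroup.coe_mul, hwe, e2, one_smul]))
        rw [hl] at hpr
        exact sub_eq_zero.1 (R.inj ((hf (hpr.trans (map_one f).symm)).trans R.zero.symm))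
    obtain ⟨n, -, hn⟩ := FiniteField.card L ℓ
    have hℓ3 : ℓ = 3 := by
      by_contra hne
      refine hab ?_
      have hz : ∀ k : ℕ, w (k • a) b = w a b ^ k := fun k => by
        induction k with
        | zero =>
          rw [zero_smul, pow_zero]
          have := hadd 0 0 b
          rw [add_zero] at this
          exact mul_left_cancel₀ (fun e0 => by
            have := hw 0 b; rw [e0, zero_pow three_ne_zero] at this; exact zero_ne_one this)
            (this.symm.trans (mul_one _).symm)
        | succ k ih => rw [succ_nsmul, hadd, ih, pow_succ]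
      have h1 := hz ℓ
      rw [nsmul_eq_mul, CharP.cast_eq_zero, zero_mul] at h1
      have h2 := hz 0
      rw [zero_smul, pow_zero] at h2
      rw [h2] at h1
      have hco : Nat.Coprime ℓ 3 := (Nat.coprime_primes Fact.out Nat.prime_three).2 hne
      have := pow_gcd_eq_one.2 ⟨h1.symm, hw a b⟩
      rwa [hco.gcd_eq_one, pow_one] at this
    subst hℓ3
    refine Or.inr (Or.inr ⟨?_, ⟨P⟩⟩)
    rw [hn] at h3 hcard ⊢
    rcases Nat.lt_trichotomy (n : ℕ) 2 with h | h | h
    · have : (3 : ℕ) ^ (n : ℕ) ≤ 3 ^ 1 := Nat.pow_le_pow_right (by norm_num) (by omega)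
      omega
    · rw [h]; rfl
    · have : (3 : ℕ) ^ 3 ≤ 3 ^ (n : ℕ) := Nat.pow_le_pow_right (by norm_num) (by omega)
      omega

end Root

end Cfsg.Agent.Classical.Bloom
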