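import Cfsg.Agent.Lib.Classical.Bloom.Semi
import Cfsg.Agent.Lib.Classical.Bloom.RootLift
import Cfsg.Agent.Lib.Classical.Bloom.Overgroup
import Cfsg.Agent.S0254

/-!
Subgroups of `PSL(3, F)` without transvections and with socle `PSL(2, L)`.
-/

set_option autoImplicit false

namespace Cfsg.Agent.Classical.Bloom

open Matrix
open Cfsg.Agent.Classical

theorem five_checks : (∀ k : ZMod 5, k ≠ 0 → (∀ d : ZMod 5, d * d ≠ k) → ∃ c : ZMod 5, c ≠ 0 ∧ c ^ 2 * k = 2) ∧
    (∀ a b : Fin 4, a < b → (2 : ZMod 5) ^ a.val ≠ (2 : ZMod 5) ^ b.val) ∧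
    ∀ q : ZMod 5, q ≠ 0 → (∃ a b : Fin 4, a < b ∧ q ^ a.val = q ^ b.val) → q = 1 ∨ q = 4 := by
  decide +kernel

theorem seven_checks : (∀ k : ZMod 7, k ≠ 0 → (∀ d : ZMod 7, d * d ≠ k) → ∃ c : ZMod 7, c ≠ 0 ∧ c ^ 2 * k = 3) ∧
    (∀ a b : Fin 4, a < b → (3 : ZMod 7) ^ a.val ≠ (3 : ZMod 7) ^ b.val) ∧
    ∀ q : ZMod 7, q ≠ 0 → (∃ a b : Fin 4, a < b ∧ q ^ a.val = q ^ b.val) →
      (∃ a b : Fin 4, a < b ∧ (2 * q) ^ a.val = (2 * q) ^ b.val) → q ^ 3 = 1 := by
  decide +kernel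

theorem three_norm : ∀ x y : ZMod 3, x * x + y * y = 0 → y = 0 := by decide

theorem fin_pair {R : Type*} [Monoid R] {x : R} (h : ∃ a b : ℕ, a < b ∧ b < 4 ∧ x ^ a = x ^ b) :
    ∃ a b : Fin 4, a < b ∧ x ^ a.val = x ^ b.val := by
  obtain ⟨a, b, hab, hb, e⟩ := h
  exact ⟨⟨a, hab.trans hb⟩, ⟨b, hb⟩, hab, e⟩

variable {F : Type*} [Field F] [Fintype F]

local notation "PSL₃" => Matrix.ProjectiveSpecialLinearGroup (Fin 3) F

/-- The root group of the socle. -/
noncomputable def socleRoot {L : Type} [Field L] {G : Type*} [Group G] (M : Subgroup G) [M.Normal]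
    (e : M ≃* Matrix.ProjectiveSpecialLinearGroup (Fin 2) L) : Root L G where
  u := Semi.root M e
  add := Semi.root_add M e
  inj := Semi.root_injective M e
  tor a := by
    obtain ⟨t, -, ht⟩ := Semi.root_tor M e a
    exact ⟨t, ht⟩

/-- An element normalises the root group and raises it to a power. -/
theorem collide_root {L : Type} [Field L] {H : Subgroup PSL₃} (R : Root L H) (ℓ : ℕ) [Fact ℓ.Prime] [CharP L ℓ]
    (hℓ3 : ℓ ≠ 3) (hℓF : (ℓ : F) ≠ 0) :
    (∃ a b : ℕ, a < b ∧ b < 4 ∧ (Fintype.card F : ZMod ℓ) ^ a = (Fintype.card F : ZMod ℓ) ^ b) ∧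
      ∀ (g : H) (i : ℕ), g * R.u 1 * g⁻¹ = R.u (i : L) →
        (∃ a b : ℕ, a < b ∧ b < 4 ∧ (i : ZMod ℓ) ^ a = (i : ZMod ℓ) ^ b) ∧
          ∃ a b : ℕ, a < b ∧ b < 4 ∧
            ((i * Fintype.card F : ℕ) : ZMod ℓ) ^ a = ((i * Fintype.card F : ℕ) : ZMod ℓ) ^ b := by
  obtain ⟨h1, h2⟩ := orbit_collide (F := F) Fact.out hℓ3 hℓF (x := (R.u 1 : PSL₃))
    (by rw [Subgroup.orderOf_coe]; exact R.orderOf_u ℓ one_ne_zero)
  refine ⟨h1, fun g i hg => h2 g i ?_⟩
  rw [← Subgroup.coe_inv, ← Subgroup.coe_mul, ← Subgroup.coe_mul, hg, ← Subgroup.coe_pow, ← R.nsmul, nsmul_eq_mul,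
    mul_one]

theorem unit_class {L : Type} [Field L] [Fintype L] {κ ν : Lˣ} (hk : ¬ IsSquare κ) (hn : ¬ IsSquare ν) :
    ∃ c : Lˣ, ν = c ^ 2 * κ := by
  classical
  have hidx : ∀ x : Lˣ, IsSquare x ↔ quadraticChar L (x : L) = 1 := fun x => by
    rw [quadraticChar_one_iff_isSquare x.ne_zero]
    refine ⟨fun ⟨c, hc⟩ => ⟨c, by rw [hc, Units.val_mul]⟩, fun ⟨c, hc⟩ => ?_⟩
    have hc0 : c ≠ 0 := fun e0 => x.ne_zero (by rw [hc, e0, mul_zero])
    exact ⟨Units.mk0 c hc0, Units.ext hc⟩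
  have hneg : ∀ x : Lˣ, ¬ IsSquare x → quadraticChar L (x : L) = -1 := fun x hx =>
    (quadraticChar_dichotomy x.ne_zero).resolve_left fun h => hx ((hidx x).2 h)
  obtain ⟨c, hc⟩ : IsSquare (ν * κ⁻¹) := by
    rw [hidx, Units.val_mul, map_mul, hneg ν hn, hneg κ⁻¹ (fun h => hk (by simpa using h.inv))]
    norm_num
  exact ⟨c, by rw [pow_two, ← hc, inv_mul_cancel_right]⟩

/-- The prime field case outside the defining characteristic. -/
theorem prime_socle {H : Subgroup PSL₃} (M : Subgroup H) [M.Normal] (hc : ∀ x : H, (∀ m ∈ M, x * m = m * x) → x = 1)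
    {L : Type} [Field L] [Fintype L] (e : M ≃* Matrix.ProjectiveSpecialLinearGroup (Fin 2) L) (ℓ i : ℕ)
    [Fact ℓ.Prime] [CharP L ℓ] (hL : Fintype.card L = ℓ) (hℓ3 : ℓ ≠ 3) (hℓF : (ℓ : F) ≠ 0)
    (hns : ∀ k : ZMod ℓ, k ≠ 0 → (∀ d : ZMod ℓ, d * d ≠ k) → ∃ c : ZMod ℓ, c ≠ 0 ∧ c ^ 2 * k = (i : ZMod ℓ))
    (hi : ∀ a b : Fin 4, a < b → (i : ZMod ℓ) ^ a.val ≠ (i : ZMod ℓ) ^ b.val) :
    Nonempty (H ≃* Matrix.ProjectiveSpecialLinearGroup (Fin 2) L) := by
  let φ : ZMod ℓ ≃+* L := ZMod.ringEquiv L hL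
  have hM : M = ⊤ := by
    by_contra hM
    obtain ⟨h, hh⟩ : ∃ h, h ∉ M := by
      by_contra hno
      push Not at hno
      exact hM (eq_top_iff.2 fun x _ => hno x)
    obtain ⟨κ, σ, hr⟩ := Semi.exists_rel M e (ℓ := ℓ) h
    have hfix : ∀ x : L, σ x = x := fun x => by
      obtain ⟨z, rfl⟩ := φ.surjective x
      exact congrArg (fun r : ZMod ℓ →+* L => r z) (Subsingleton.elim (σ.toRingHom.comp φ.toRingHom) φ.toRingHom)
    have hσ : σ = RingEquiv.refl L := RingEquiv.ext hfix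
    subst hσ
    have hsq : ¬ IsSquare κ := fun hs => hh (hr.mem hc hs)
    obtain ⟨c, hc0, hck⟩ := hns (φ.symm (κ : L)) (fun e0 => κ.ne_zero (φ.symm.injective (e0.trans (map_zero _).symm)))
      fun d hd => hsq ⟨Units.mk0 (φ d) (fun e0 => κ.ne_zero (by
        rw [← φ.apply_symm_apply (κ : L), ← hd, map_mul, e0, mul_zero])), Units.ext (by
        rw [Units.val_mul, Units.val_mk0, ← map_mul, hd, φ.apply_symm_apply])⟩
    obtain ⟨m, hm, hconj⟩ := (hr.mul_square (Units.mk0 (φ c) ((map_ne_zero φ).2 hc0))).conj_root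
    obtain ⟨a, b, hab, e'⟩ := fin_pair ((collide_root (socleRoot M e) ℓ hℓ3 hℓF).2 (m * h) i (by
      show m * h * Semi.root M e 1 * (m * h)⁻¹ = _
      rw [hconj, hfix, mul_one, Units.val_mul, Units.val_pow_eq_pow_val, Units.val_mk0, ← map_pow,
        ← φ.apply_symm_apply (κ : L), ← map_mul, hck, map_natCast]
      rfl)).1
    exact hi a b hab e'
  exact ⟨(Subgroup.topEquiv.symm.trans (MulEquiv.subgroupCongr hM.symm)).trans e⟩

/-- The nine element case outside the defining characteristic. -/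
theorem nine_socle (p α : ℕ) [Fact p.Prime] [CharP F p] (hp2 : p ≠ 2) (hp3 : p ≠ 3) (hF : Fintype.card F = p ^ α)
    {H : Subgroup PSL₃} (M : Subgroup H) [M.Normal]
    (hc : ∀ x : H, (∀ m ∈ M, x * m = m * x) → x = 1) {L : Type} [Field L] [Fintype L] [CharP L 3]
    (h9 : Fintype.card L = 9) (e : M ≃* Matrix.ProjectiveSpecialLinearGroup (Fin 2) L)
    (P : (socleRoot M e).Pairing H.subtype) :
    (p = 5 ∧ Even α ∧ (Nonempty (H ≃* alternatingGroup (Fin 6)) ∨
      ∃ K : Subgroup H, K.index = 2 ∧ Nonempty (K ≃* alternatingGroup (Fin 6)))) ∨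
    ((p ^ α % 30 = 1 ∨ p ^ α % 30 = 19) ∧ Nonempty (H ≃* alternatingGroup (Fin 6))) := by
  classical
  haveI : Fact (Nat.Prime 3) := ⟨Nat.prime_three⟩
  obtain ⟨i, hi'⟩ : IsSquare (-1 : L) := FiniteField.isSquare_neg_one_iff.mpr (by rw [h9]; norm_num)
  have hi : i * i = -1 := hi'.symm
  have h3 : (3 : L) = 0 := by exact_mod_cast CharP.cast_eq_zero L 3
  -- coordinates
  let ι : ZMod 3 →+* L := ZMod.castHom (dvd_refl 3) L
  have hιi : Function.Injective ι := ι.injective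
  have hco : ∀ s : L, ∃ a b : ℕ, s = a • (1 : L) + b • i := by
    let g : ZMod 3 × ZMod 3 → L := fun x => ι x.1 + ι x.2 * i
    have hg : Function.Injective g := by
      rintro ⟨a, b⟩ ⟨a', b'⟩ h
      by_cases hb : b = b'
      · subst hb
        exact Prod.ext (hιi (add_right_cancel h)) rfl
      · exfalso
        have h1 : ι (b - b') * i = ι (a' - a) := by
          rw [map_sub, map_sub]; simp only [g] at h; linear_combination h
        have h2 : ι ((a' - a) * (a' - a) + (b - b') * (b - b')) = 0 := by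
          rw [map_add, map_mul, map_mul, ← h1]; linear_combination (ι (b - b') * ι (b - b')) * hi
        have h3 := hιi (h2.trans (map_zero ι).symm)
        exact hb (sub_eq_zero.1 (three_norm _ _ h3))
    have hbij := (Fintype.bijective_iff_injective_and_card g).2 ⟨hg, by simp [h9]⟩
    intro s
    obtain ⟨⟨a, b⟩, rfl⟩ := hbij.2 s
    refine ⟨a.val, b.val, ?_⟩
    simp only [g, nsmul_eq_mul, mul_one, ← map_natCast ι, ZMod.natCast_zmod_val]
  have hne0 : ∀ s t, P.c s t ≠ 0 := fun s t e0 => by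
    have := P.cube s t; rw [e0, zero_pow three_ne_zero] at this; exact zero_ne_one this
  have hz : ∀ t, P.c 0 t = 1 := fun t => mul_right_cancel₀ (hne0 0 t) (by rw [one_mul, ← P.add_left, add_zero])
  have hns : ∀ (n : ℕ) s t, P.c (n • s) t = P.c s t ^ n := fun n s t => by
    induction n with
    | zero => rw [zero_smul, pow_zero, hz]
    | succ n ih => rw [succ_nsmul, P.add_left, ih, pow_succ]
  have hneg : ∀ s t, P.c s (-t) * P.c s t = 1 := fun s t => by
    rw [← P.add_right, neg_add_cancel]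
    exact mul_left_cancel₀ (hne0 0 s) (by rw [P.symm, mul_one, hz])
  obtain ⟨ω, hω⟩ : ∃ ω, ω = P.c 1 i := ⟨_, rfl⟩
  have hω1 : ω ≠ 1 := by
    intro h
    obtain ⟨s, t, hst⟩ := P.nontrivial
    refine hst ?_
    obtain ⟨a, b, rfl⟩ := hco t
    obtain ⟨a', b', rfl⟩ := hco s
    have h' : P.c i 1 = 1 := by have := P.symm 1 i; rwa [← hω, h, mul_one] at this
    have h1 : ∀ s, P.c s 1 = 1 → P.c s i = 1 → P.c s (a • (1 : L) + b • i) = 1 := fun s e1 e2 => by
      have hr : ∀ (n : ℕ) t, P.c s t = 1 → P.c s (n • t) = 1 := fun n t e => by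
        induction n with
        | zero => rw [zero_smul]; exact mul_left_cancel₀ (hne0 0 s) (by rw [P.symm, mul_one, hz])
        | succ n ih => rw [succ_nsmul, P.add_right, ih, e, mul_one]
      rw [P.add_right, hr a _ e1, hr b _ e2, mul_one]
    rw [P.add_left, hns, hns, h1 1 (P.self 1) (hω ▸ h), h1 i h' (P.self i), one_pow, one_pow, mul_one]
  have hω3 : ω ^ 3 = 1 := hω ▸ P.cube 1 i
  -- the nonsquare
  have hni : (1 + i : L) ≠ 0 := fun e0 => by
    have : (2 : L) = 0 := by linear_combination (1 - i) * e0 + hi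
    exact one_ne_zero (α := L) (by linear_combination h3 - this)
  set ν : Lˣ := Units.mk0 (1 + i) hni with hνdef
  have hν : ¬ IsSquare ν := by
    rintro ⟨d, hd⟩
    have hd' : (d : L) * d = 1 + i := by rw [← Units.val_mul, ← hd]; rfl
    have h8 := FiniteField.pow_card_sub_one_eq_one (d : L) d.ne_zero
    rw [h9] at h8
    have : (1 + i) ^ 4 = 1 := by rw [← hd', ← h8]; ring
    have h4 : (1 + i) ^ 4 = -1 := by linear_combination (i ^ 2 + 4 * i + 5) * hi - h3
    exact one_ne_zero (α := L) (by linear_combination h4.symm.trans this + h3)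
  have hinv : ∀ {g : H} {κ : Lˣ} {σ : RingAut L}, Semi.Rel M e g κ σ →
      P.c ((κ : L) * σ 1) ((κ : L) * σ i) = ω := fun {g κ σ} hr => by
    obtain ⟨m, -, hm⟩ := hr.conj_root
    rw [hω]
    exact P.inv (m * g) _ hm 1 i
  have hfix : ∀ (g : H) (κ : Lˣ) (σ : RingAut L), Semi.Rel M e g κ σ → σ i = i → g ∈ M := fun g κ σ hr hσ => by
    have hσ1 : σ = RingEquiv.refl L := RingEquiv.ext fun s => by
      obtain ⟨a, b, rfl⟩ := hco s
      rw [map_add, map_nsmul, map_nsmul, map_one, hσ]; rfl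
    subst hσ1
    refine hr.mem hc (by_contra fun hk => hω1 ?_)
    obtain ⟨c, hck⟩ := unit_class hk hν
    have h := hinv (hr.mul_square c)
    rw [← hck] at h
    have e1 : ((ν : L) * (RingEquiv.refl L) 1) = 1 + i := by simp [hνdef]
    have e2 : ((ν : L) * (RingEquiv.refl L) i) = i + -1 := by
      show (1 + i) * i = _; linear_combination hi
    rw [e1, e2, P.add_left, P.add_right, P.add_right, P.self i, ← hω, one_mul] at h
    have h11 : P.c 1 (-1) = 1 := by have := hneg 1 1; rwa [P.self, mul_one] at this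
    have hi1 : P.c i (-1) = ω := by
      refine mul_right_cancel₀ (hne0 i 1) ?_
      rw [hneg, hω, mul_comm, P.symm]
    rw [h11, mul_one, hi1] at h
    exact mul_right_cancel₀ (hω ▸ hne0 1 i) (h.trans (one_mul ω).symm)
  have hout : ∀ h : H, h ∉ M → ∃ σ : RingAut L, σ i = -i ∧ Semi.Rel M e h ν σ := fun h hh => by
    obtain ⟨κ, σ, hr⟩ := Semi.exists_rel M e (ℓ := 3) h
    have hσi : σ i * σ i = -1 := by rw [← map_mul, hi, map_neg, map_one]
    rcases mul_self_eq_mul_self_iff.1 (hσi.trans hi.symm) with hs | hs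
    · exact absurd (hfix h κ σ hr hs) hh
    refine ⟨σ, hs, ?_⟩
    by_cases hk : IsSquare κ
    · exfalso
      obtain ⟨c, hck⟩ := hk
      have h1 := hinv (hr.mul_square c⁻¹)
      rw [hck, ← pow_two, ← mul_pow, inv_mul_cancel, one_pow, Units.val_one, one_mul, one_mul, map_one, hs] at h1
      have h2 := hneg 1 i
      rw [h1, ← hω] at h2
      exact hω1 (by linear_combination hω3 - ω * h2)
    · obtain ⟨c, hck⟩ := unit_class hk hν
      rw [hck]
      exact hr.mul_square c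
  have hA6 : ∀ K : Subgroup H, K = M → Nonempty (K ≃* alternatingGroup (Fin 6)) := fun K hK => by
    obtain ⟨e6⟩ := Cfsg.Agent.S0254.result h9
    exact ⟨(MulEquiv.subgroupCongr hK).trans (e.trans e6)⟩
  have htop : M = ⊤ → Nonempty (H ≃* alternatingGroup (Fin 6)) := fun hM => by
    obtain ⟨e'⟩ := hA6 ⊤ hM.symm
    exact ⟨Subgroup.topEquiv.symm.trans e'⟩
  have hq3 : p ^ α % 3 = 1 := by
    have hu : orderOf (Units.mk0 ω (hω ▸ hne0 1 i)) = 3 := orderOf_eq_prime (Units.ext hω3)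
      fun h => hω1 (congrArg Units.val h)
    have := hu ▸ orderOf_dvd_natCard (Units.mk0 ω (hω ▸ hne0 1 i))
    rw [Nat.card_units, Nat.card_eq_fintype_card, hF] at this
    have hpos : 0 < p ^ α := pow_pos (Fact.out : p.Prime).pos _
    omega
  by_cases hp5 : p = 5
  · refine Or.inl ⟨hp5, ?_, ?_⟩
    · rcases Nat.even_or_odd α with h | ⟨k, rfl⟩
      · exact h
      · rw [hp5, pow_succ, pow_mul, Nat.mul_mod, Nat.pow_mod] at hq3
        norm_num at hq3
    · by_cases hM : M = ⊤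
      · exact Or.inl (htop hM)
      obtain ⟨h₁, hh₁⟩ : ∃ h, h ∉ M := by
        by_contra hno
        push Not at hno
        exact hM (eq_top_iff.2 fun x _ => hno x)
      refine Or.inr ⟨M, Subgroup.index_eq_two_iff.2 ⟨h₁, fun b => ?_⟩, hA6 M rfl⟩
      by_cases hb : b ∈ M
      · exact Or.inr ⟨hb, fun h => hh₁ (by simpa using M.mul_mem (M.inv_mem hb) h)⟩
      · refine Or.inl ⟨?_, hb⟩
        obtain ⟨σ, hσ, hr⟩ := hout b hb
        obtain ⟨τ, hτ, hr'⟩ := hout h₁ hh₁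
        refine hfix _ _ _ (hr.mul hr') ?_
        show σ (τ i) = i
        rw [hτ, map_neg, hσ, neg_neg]
  refine Or.inr ?_
  -- elements of order five
  let x0 : Matrix.SpecialLinearGroup (Fin 2) L :=
    ⟨!![0, i; i, 1 + i], by rw [det_fin_two_of]; linear_combination -hi⟩
  let y0 : Matrix.SpecialLinearGroup (Fin 2) L :=
    ⟨!![0, 1; -1, -i], by rw [det_fin_two_of]; ring⟩
  have hx2 : ((x0 * x0 : Matrix.SpecialLinearGroup (Fin 2) L) : Matrix (Fin 2) (Fin 2) L) =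
      !![-1, -1 + i; -1 + i, -1 - i] := by
    show (!![0, i; i, 1 + i] : Matrix (Fin 2) (Fin 2) L) * !![0, i; i, 1 + i] = _
    ext r c; fin_cases r <;> fin_cases c <;> simp [Matrix.mul_apply, Fin.sum_univ_two] <;>
      first
        | linear_combination hi
        | linear_combination 2 * hi + i * h3
  have hx5 : x0 ^ 5 = 1 := by
    have e5 : x0 ^ 5 = (x0 * x0) * (x0 * x0) * x0 := by
      simp only [pow_succ, pow_zero, one_mul, mul_assoc]
    rw [e5]
    refine Subtype.ext ?_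
    rw [Matrix.SpecialLinearGroup.coe_mul, Matrix.SpecialLinearGroup.coe_mul, hx2, Matrix.SpecialLinearGroup.coe_one]
    show _ * _ * (!![0, i; i, 1 + i] : Matrix (Fin 2) (Fin 2) L) = 1
    ext r c; fin_cases r <;> fin_cases c <;> simp [Matrix.mul_apply, Fin.sum_univ_two]
    · linear_combination (-1 - i) * hi + i * h3
    · linear_combination (-4) * hi + (2 + i) * h3
    · left; linear_combination 2 * hi
    · linear_combination (1 + i) * hi + i * h3
  set X : H := ((e.symm (slToPSL 2 L x0) : M) : H) with hXdef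
  have hX5 : orderOf X = 5 := by
    haveI : Fact (Nat.Prime 5) := ⟨Nat.prime_five⟩
    rw [hXdef, Subgroup.orderOf_coe, MulEquiv.orderOf_eq]
    refine orderOf_eq_prime (by rw [← map_pow, hx5, map_one]) fun h => ?_
    obtain ⟨c, hc'⟩ := (slToPSL_eq_one_iff x0).1 h
    have := congrFun (congrFun hc' 0) 1
    simp [x0] at this
    rw [this] at hi
    simp at hi
  obtain ⟨hq5, hcol⟩ := orbit_collide (F := F) Nat.prime_five (by norm_num) (fun h => hp5
    ((Nat.prime_dvd_prime_iff_eq Fact.out Nat.prime_five).1 ((CharP.cast_eq_zero_iff F p 5).1 h)))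
    (x := (X : PSL₃)) (by rw [Subgroup.orderOf_coe, hX5])
  have hM : M = ⊤ := by
    by_contra hM
    obtain ⟨h, hh⟩ : ∃ h, h ∉ M := by
      by_contra hno
      push Not at hno
      exact hM (eq_top_iff.2 fun x _ => hno x)
    obtain ⟨σ, hσ, m, hm⟩ := hout h hh
    have hrel : PSLAut.slSemi (Semi.dia ν) σ x0 * y0 = y0 * (x0 * x0) := by
      refine Subtype.ext ?_
      rw [Matrix.SpecialLinearGroup.coe_mul, Matrix.SpecialLinearGroup.coe_mul y0, PSLAut.slSemi_coe, hx2,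
        Semi.dia_coe, Semi.dia_inv_coe]
      have hv : ((ν⁻¹ : Lˣ) : L) = -1 + i := by
        rw [Units.val_inv_eq_inv_val, inv_eq_of_mul_eq_one_left]
        show (-1 + i) * (1 + i) = 1
        linear_combination hi - h3
      rw [hv]
      show _ * (!![0, i; i, 1 + i] : Matrix (Fin 2) (Fin 2) L).map σ * _ * (!![0, 1; -1, -i] : Matrix (Fin 2) (Fin 2) L) =
        !![0, 1; -1, -i] * _
      rw [show (!![0, i; i, 1 + i] : Matrix (Fin 2) (Fin 2) L).map σ = !![0, -i; -i, 1 + -i] by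
        ext r c; fin_cases r <;> fin_cases c <;> simp [hσ]]
      ext r c; fin_cases r <;> fin_cases c <;> simp [hνdef, Matrix.mul_apply, Fin.sum_univ_two, Matrix.vecMul, dotProduct]
      · linear_combination hi
      · linear_combination (1 + i) * hi
      · linear_combination hi - h3
      · linear_combination -hi
    set Y : H := ((e.symm (slToPSL 2 L y0) : M) : H) with hYdef
    have hconj : ((m : H) * h) * X * ((m : H) * h)⁻¹ = Y * (X * X) * Y⁻¹ := by
      rw [Semi.conj_of_theta hm (PSLAut.pslSemi_mk (Semi.dia ν) σ x0), eq_mul_inv_of_mul_eq hrel]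
      simp [hXdef, hYdef]
    have hc2 : Y⁻¹ * ((m : H) * h) * X * (Y⁻¹ * ((m : H) * h))⁻¹ = X ^ 2 := by
      calc Y⁻¹ * ((m : H) * h) * X * (Y⁻¹ * ((m : H) * h))⁻¹
          = Y⁻¹ * (((m : H) * h) * X * ((m : H) * h)⁻¹) * Y := by group
        _ = Y⁻¹ * (Y * (X * X) * Y⁻¹) * Y := by rw [hconj]
        _ = X * X := by group
        _ = X ^ 2 := (pow_two X).symm
    obtain ⟨a, b, hab, hb, e'⟩ := (hcol _ 2 (congrArg Subtype.val hc2)).1
    exact five_checks.2.1 ⟨a, hab.trans hb⟩ ⟨b, hb⟩ hab e'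
  refine ⟨?_, htop hM⟩
  have hq0 : ((p ^ α : ℕ) : ZMod 5) ≠ 0 := by
    rw [ne_eq, ZMod.natCast_eq_zero_iff]
    exact fun h => hp5 ((Nat.prime_dvd_prime_iff_eq Nat.prime_five Fact.out).1 (Nat.prime_five.dvd_of_dvd_pow h)).symm
  rw [hF] at hq5
  have h5 : p ^ α % 5 = 1 ∨ p ^ α % 5 = 4 := by
    rcases five_checks.2.2 _ hq0 (fin_pair hq5) with h | h
    · exact Or.inl (by have := congrArg ZMod.val h; rwa [ZMod.val_natCast] at this)
    · exact Or.inr (by have := congrArg ZMod.val h; rwa [ZMod.val_natCast] at this)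
  have h2 : p ^ α % 2 = 1 := Nat.odd_iff.1 (((Fact.out : p.Prime).odd_of_ne_two hp2).pow)
  omega

/-- The socle `PSL(2, L)`. -/
theorem psl_two_socle (p α : ℕ) [Fact p.Prime] (hp2 : p ≠ 2) (hF : Fintype.card F = p ^ α) {H : Subgroup PSL₃}
    (hf : TvFree H.subtype) (M : Subgroup H) [M.Normal] (hc : ∀ x : H, (∀ m ∈ M, x * m = m * x) → x = 1)
    {L : Type} [Field L] [Fintype L] (hodd : Odd (Fintype.card L)) (h3 : 3 < Fintype.card L)
    (e : M ≃* Matrix.ProjectiveSpecialLinearGroup (Fin 2) L) :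
    (∃ (K : Type) (_ : Field K) (_ : Fintype K) (β : ℕ), Fintype.card K = p ^ β ∧ β ∣ α ∧ p ^ β ≠ 3 ∧ (Nonempty (↥H ≃* Matrix.ProjectiveSpecialLinearGroup (Fin 2) K) ∨ Nonempty (↥H ≃* (GL (Fin 2) K ⧸ Subgroup.center (GL (Fin 2) K))))) ∨
    ((p ^ α % 10 = 1 ∨ p ^ α % 10 = 9) ∧ ∃ (K : Type) (_ : Field K) (_ : Fintype K), Fintype.card K = 5 ∧ Nonempty (↥H ≃* Matrix.ProjectiveSpecialLinearGroup (Fin 2) K)) ∨
    ((p ^ α) ^ 3 % 7 = 1 ∧ ∃ (K : Type) (_ : Field K) (_ : Fintype K), Fintype.card K = 7 ∧ Nonempty (↥H ≃* Matrix.ProjectiveSpecialLinearGroup (Fin 2) K)) ∨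
    (p = 5 ∧ Even α ∧ (Nonempty (↥H ≃* ↥(alternatingGroup (Fin 6))) ∨ Nonempty (↥H ≃* ↥(alternatingGroup (Fin 7))) ∨
      ∃ L : Subgroup ↥H, L.index = 2 ∧ Nonempty (↥L ≃* ↥(alternatingGroup (Fin 6))))) ∨
    ((p ^ α % 30 = 1 ∨ p ^ α % 30 = 19) ∧ Nonempty (↥H ≃* ↥(alternatingGroup (Fin 6)))) := by
  classical
  haveI : CharP F p := charP_of_card_eq_prime_pow hF
  obtain ⟨ℓ, hℓ⟩ := CharP.exists L
  haveI := hℓ
  obtain ⟨n, hℓp, hn⟩ := FiniteField.card L ℓ
  haveI : Fact ℓ.Prime := ⟨hℓp⟩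
  have hℓ2 : ℓ ≠ 2 := fun e2 => by
    rw [hn, e2] at hodd
    exact (Nat.not_odd_iff_even.2 (Nat.even_pow.2 ⟨even_two, n.ne_zero⟩)) hodd
  by_cases hlp : ℓ = p
  · subst hlp
    obtain ⟨β, hβ⟩ := (socleRoot M e).exists_embedding ℓ hℓ2 hf
    refine Or.inl ⟨L, inferInstance, inferInstance, n, hn, ?_, fun h => by omega, Semi.linear_cases (ℓ := ℓ) (e := e) hc ?_⟩
    · refine degree_dvd hF β.fieldRange ?_
      rw [← hn, ← Nat.card_eq_fintype_card]
      exact (Nat.card_congr (RingEquiv.ofBijective β.rangeRestrictField ⟨fun a b h => β.injective (congrArg Subtype.val h),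
        β.rangeRestrictField_bijective.2⟩).toEquiv).symm
    · intro h κ σ hr
      obtain ⟨m, -, hm⟩ := hr.conj_root
      refine RingEquiv.ext fun s => β.injective ?_
      have h1 := hβ (m * h) _ hm s
      rw [map_one, mul_one, map_mul, mul_comm (β s)] at h1
      exact mul_left_cancel₀ ((map_ne_zero β).2 κ.ne_zero) h1
  · have hℓF : (ℓ : F) ≠ 0 := fun h => hlp
      ((Nat.prime_dvd_prime_iff_eq Fact.out hℓp).1 ((CharP.cast_eq_zero_iff F p ℓ).1 h)).symm
    have hpodd : p ^ α % 2 = 1 := Nat.odd_iff.1 (((Fact.out : p.Prime).odd_of_ne_two hp2).pow)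
    rcases (socleRoot M e).small_root p ℓ hℓ2 hlp h3 hf.1 with h5 | h7 | ⟨h9, ⟨P⟩⟩
    · obtain rfl : ℓ = 5 := (Nat.prime_dvd_prime_iff_eq hℓp Nat.prime_five).1 (h5 ▸ hn ▸ dvd_pow_self ℓ n.ne_zero)
      obtain ⟨hns, hi, hq⟩ := five_checks
      refine Or.inr (Or.inl ⟨?_, L, inferInstance, inferInstance, h5,
        prime_socle M hc e 5 2 h5 (by norm_num) hℓF (by exact_mod_cast hns) (by exact_mod_cast hi)⟩)
      have hq5 := (collide_root (socleRoot M e) 5 (by norm_num) hℓF).1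
      rw [hF] at hq5
      have hq0 : ((p ^ α : ℕ) : ZMod 5) ≠ 0 := by
        rw [ne_eq, ZMod.natCast_eq_zero_iff]
        exact fun h => hlp ((Nat.prime_dvd_prime_iff_eq Nat.prime_five Fact.out).1 (Nat.prime_five.dvd_of_dvd_pow h))
      have h : p ^ α % 5 = 1 ∨ p ^ α % 5 = 4 := by
        rcases hq _ hq0 (fin_pair hq5) with h | h
        · exact Or.inl (by have := congrArg ZMod.val h; rwa [ZMod.val_natCast] at this)
        · exact Or.inr (by have := congrArg ZMod.val h; rwa [ZMod.val_natCast] at this)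
      omega
    · have hn7 : ℓ ∣ 7 := h7 ▸ hn ▸ dvd_pow_self ℓ n.ne_zero
      obtain rfl : ℓ = 7 := (Nat.prime_dvd_prime_iff_eq hℓp (by norm_num)).1 hn7
      obtain ⟨hns, hi, hq⟩ := seven_checks
      refine Or.inr (Or.inr (Or.inl ⟨?_, L, inferInstance, inferInstance, h7,
        prime_socle M hc e 7 3 h7 (by norm_num) hℓF (by exact_mod_cast hns) (by exact_mod_cast hi)⟩))
      obtain ⟨hq1, hq2⟩ := collide_root (socleRoot M e) 7 (by norm_num) hℓF
      have h7' : (7 : L) = 0 := by exact_mod_cast CharP.cast_eq_zero L 7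
      have h30 : (3 : L) ≠ 0 := fun h => one_ne_zero (α := L) (by linear_combination h7' - 2 * h)
      obtain ⟨t, ht⟩ := (socleRoot M e).tor (Units.mk0 3 h30)
      have hq2' := (hq2 t 2 (by
        rw [ht, mul_one]
        exact congrArg _ (show ((3 : L)) ^ 2 = ((2 : ℕ) : L) by push_cast; linear_combination h7'))).2
      rw [hF] at hq1 hq2'
      have hq0 : ((p ^ α : ℕ) : ZMod 7) ≠ 0 := by
        rw [ne_eq, ZMod.natCast_eq_zero_iff]
        exact fun h => hlp ((Nat.prime_dvd_prime_iff_eq hℓp Fact.out).1 (hℓp.dvd_of_dvd_pow h))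
      have h := hq _ hq0 (fin_pair hq1) (by simpa [Nat.cast_mul] using fin_pair hq2')
      have := congrArg ZMod.val h
      rw [← Nat.cast_pow, ZMod.val_natCast] at this
      exact this
    · obtain rfl : ℓ = 3 := (Nat.prime_dvd_prime_iff_eq hℓp Nat.prime_three).1
        (hℓp.dvd_of_dvd_pow (show ℓ ∣ 3 ^ 2 by rw [show (3 : ℕ) ^ 2 = 9 from rfl, ← h9, hn]; exact dvd_pow_self ℓ n.ne_zero))
      rcases nine_socle p α hp2 (fun h => hlp h.symm) hF M hc h9 e P with ⟨h, h', h6 | h6⟩ | h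
      · exact Or.inr (Or.inr (Or.inr (Or.inl ⟨h, h', Or.inl h6⟩)))
      · exact Or.inr (Or.inr (Or.inr (Or.inl ⟨h, h', Or.inr (Or.inr h6)⟩)))
      · exact Or.inr (Or.inr (Or.inr (Or.inr h)))

end Cfsg.Agent.Classical.Bloom
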