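import Cfsg.Agent.Lib.Classical.Bloom.Lift
import Cfsg.Agent.Lib.Classical.Bloom.Diag
import Cfsg.Agent.Lib.Classical.Bloom.Conj
import Cfsg.Prelude.Def_CaseTheorems

/-!
Elementary abelian 2-subgroups of `PSL(3, F)`, `F` of odd characteristic: the frame of a four-group.
-/

set_option autoImplicit false

namespace Cfsg.Agent.Classical.Bloom

open Matrix

variable {F : Type*} [Field F]

local notation "SL₃" => Matrix.SpecialLinearGroup (Fin 3) F
local notation "PSL₃" => Matrix.ProjectiveSpecialLinearGroup (Fin 3) F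
local notation "M₃" => Matrix (Fin 3) (Fin 3) F

theorem free_two : Free F 2 := free_of_not_three (by norm_num)

/-- A diagonal matrix. -/
def IsDg (g : Matrix (Fin 3) (Fin 3) F) : Prop := ∀ i j, i ≠ j → g i j = 0

theorem IsDg.eq {g : M₃} (h : IsDg g) : g = diagonal fun i => g i i := by
  ext i j
  rcases eq_or_ne i j with rfl | e
  · simp
  · rw [diagonal_apply_ne _ e, h i j e]

theorem isDg_diagonal (d : Fin 3 → F) : IsDg (diagonal d) := fun _ _ h => diagonal_apply_ne _ h

theorem IsDg.commute {g h : M₃} (hg : IsDg g) (hh : IsDg h) : g * h = h * g := by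
  rw [hg.eq, hh.eq, diagonal_mul_diagonal, diagonal_mul_diagonal]
  congr 1; funext i; exact mul_comm _ _

theorem IsDg.smul {g : M₃} (hg : IsDg g) (c : F) : IsDg (c • g) := fun i j h => by
  rw [Matrix.smul_apply, hg i j h, smul_zero]

/-- The identity of two commuting involutions of determinant one. -/
theorem pair_identity [Finite F] (h2 : (2 : F) ≠ 0) {a b : SL₃} (ha : a * a = 1) (hb : b * b = 1)
    (hab : a * b = b * a) (ha1 : a ≠ 1) (hb1 : b ≠ 1) (hne : a ≠ b) :
    (1 + (a : M₃)) * (1 + (b : M₃)) = 0 := by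
  classical
  let K := AlgebraicClosure F
  let φ := algebraMap F K
  let f : SL₃ →* GL (Fin 3) K := Matrix.SpecialLinearGroup.toGL.comp (Matrix.SpecialLinearGroup.map φ)
  have hf : ∀ g : SL₃, (f g : Matrix (Fin 3) (Fin 3) K) = φ.mapMatrix (g : M₃) := fun g => rfl
  have hinj : Function.Injective (φ.mapMatrix : M₃ → Matrix (Fin 3) (Fin 3) K) := fun x y e =>
    Matrix.ext fun i j => φ.injective (congrFun (congrFun e i) j)
  let B : Subgroup SL₃ := Subgroup.closure {a, b}
  have hBc : ∀ x ∈ B, ∀ y ∈ B, x * y = y * x := by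
    intro x hx y hy
    haveI : IsMulCommutative B := Subgroup.isMulCommutative_closure (fun x hx y hy => by
      rcases hx with rfl | rfl <;> rcases hy with rfl | rfl
      exacts [rfl, hab, hab.symm, rfl])
    exact congrArg Subtype.val (mul_comm' (⟨x, hx⟩ : B) ⟨y, hy⟩)
  have hBsq : ∀ x ∈ B, x * x = 1 := by
    intro x hx
    induction hx using Subgroup.closure_induction with
    | mem y hy => rcases hy with rfl | rfl <;> assumption
    | one => rw [mul_one]
    | mul y z hy hz ey ez =>
      rw [mul_assoc, ← mul_assoc z y z, hBc z hz y hy, mul_assoc y z z, ez, mul_one, ey]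
    | inv y _ ey => rw [← _root_.mul_inv_rev, ey, inv_one]
  haveI : Finite (B.map f) := Finite.of_surjective (fun g : B => (⟨f g, g, g.2, rfl⟩ : B.map f))
    (fun ⟨_, g, hg, e⟩ => ⟨⟨g, hg⟩, Subtype.ext e⟩)
  have hcard : (Nat.card (B.map f) : K) ≠ 0 := by
    haveI : Fact (Nat.Prime 2) := ⟨Nat.prime_two⟩
    have hp : IsPGroup 2 (B.map f) := fun ⟨_, g, hg, e⟩ => ⟨1, Subtype.ext (by
      subst e
      rw [Subgroup.coe_pow, pow_one, pow_two, Subgroup.coe_one]
      show f g * f g = 1
      rw [← map_mul, hBsq g hg, map_one])⟩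
    obtain ⟨k, hk⟩ := IsPGroup.iff_card.1 hp
    rw [hk, Nat.cast_pow, Nat.cast_ofNat, ← map_ofNat φ 2]
    exact pow_ne_zero _ ((_root_.map_ne_zero φ).2 h2)
  obtain ⟨P, hP⟩ := exists_diag_conj (B.map f) (by
    rintro _ ⟨x, hx, rfl⟩ _ ⟨y, hy, rfl⟩
    rw [← map_mul, ← map_mul, hBc x hx y hy]) hcard
  obtain ⟨s, hs⟩ := hP (f a) ⟨a, Subgroup.subset_closure (Or.inl rfl), rfl⟩
  obtain ⟨t, ht⟩ := hP (f b) ⟨b, Subgroup.subset_closure (Or.inr rfl), rfl⟩
  set Q := (P : Matrix (Fin 3) (Fin 3) K)
  set Q' := ((P⁻¹ : GL (Fin 3) K) : Matrix (Fin 3) (Fin 3) K)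
  have hQ : Q' * Q = 1 := by rw [← Units.val_mul, inv_mul_cancel, Units.val_one]
  have hQ2 : Q * Q' = 1 := by rw [← Units.val_mul, mul_inv_cancel, Units.val_one]
  have hback : ∀ {g : SL₃} {d}, Q * (f g : Matrix (Fin 3) (Fin 3) K) * Q' = diagonal d →
      (f g : Matrix (Fin 3) (Fin 3) K) = Q' * diagonal d * Q := fun {g d} e => by
    rw [← e]; simp only [← mul_assoc, hQ, one_mul]; rw [mul_assoc, hQ, mul_one]
  have hsq : ∀ {g : SL₃} {d}, Q * (f g : Matrix (Fin 3) (Fin 3) K) * Q' = diagonal d → g * g = 1 →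
      (∀ i, d i = 1 ∨ d i = -1) ∧ d 0 * d 1 * d 2 = 1 := fun {g d} e hg => by
    refine ⟨fun i => ?_, ?_⟩
    · have h1 : diagonal d * diagonal d = 1 := by
        rw [← e]
        have : Q * (f g : Matrix (Fin 3) (Fin 3) K) * Q' * (Q * (f g : Matrix (Fin 3) (Fin 3) K) * Q') =
            Q * ((f g : Matrix (Fin 3) (Fin 3) K) * (f g : Matrix (Fin 3) (Fin 3) K)) * Q' := by
          simp only [mul_assoc]; rw [← mul_assoc Q' Q, hQ, one_mul]
        rw [this, ← Units.val_mul, ← map_mul, hg, map_one, Units.val_one, mul_one, hQ2]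
      have h2' := congrFun (congrFun h1 i) i
      rw [diagonal_mul_diagonal, diagonal_apply_eq, one_apply_eq] at h2'
      exact mul_self_eq_one_iff.1 h2'
    · have h1 := congrArg Matrix.det e
      rw [det_diagonal, Fin.prod_univ_three, det_mul, det_mul, mul_right_comm, ← det_mul, hQ2, det_one, one_mul,
        hf, ← RingHom.map_det, g.2, map_one] at h1
      exact h1.symm
  obtain ⟨hs1, hs2⟩ := hsq hs ha
  obtain ⟨ht1, ht2⟩ := hsq ht hb
  have hne' : ∀ {g h : SL₃} {d e}, Q * (f g : Matrix (Fin 3) (Fin 3) K) * Q' = diagonal d →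
      Q * (f h : Matrix (Fin 3) (Fin 3) K) * Q' = diagonal e → g ≠ h → d ≠ e := fun {g h d e} e1 e2 hgh hde =>
    hgh (Subtype.ext (hinj (by rw [← hf, ← hf, hback e1, hback e2, hde])))
  have hs0 : s ≠ 1 := fun e => ha1 (Subtype.ext (hinj (by
    rw [← hf, hback hs, e, show diagonal (1 : Fin 3 → K) = 1 from diagonal_one, mul_one, hQ, ← hf, map_one,
      Units.val_one])))
  have ht0 : t ≠ 1 := fun e => hb1 (Subtype.ext (hinj (by
    rw [← hf, hback ht, e, show diagonal (1 : Fin 3 → K) = 1 from diagonal_one, mul_one, hQ, ← hf, map_one,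
      Units.val_one])))
  have hst := hne' hs ht hne
  have key : ∀ i, (1 + s i) * (1 + t i) = 0 := by
    have h2K : (1 : K) ≠ -1 := fun e => h2 (φ.injective (by rw [map_ofNat, map_zero]; linear_combination e))
    rcases hs1 0 with a0 | a0 <;> rcases hs1 1 with a1 | a1 <;> rcases hs1 2 with a2 | a2 <;>
      simp only [a0, a1, a2] at hs2 <;>
      first
        | (exfalso; exact h2K (by linear_combination hs2))
        | (exfalso; exact h2K (by linear_combination -hs2))
        | (exfalso; refine hs0 (funext fun i => ?_); fin_cases i <;> simp [a0, a1, a2] <;> done)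
        | skip
    all_goals
      rcases ht1 0 with b0 | b0 <;> rcases ht1 1 with b1 | b1 <;> rcases ht1 2 with b2 | b2 <;>
        simp only [b0, b1, b2] at ht2 <;>
        first
          | (exfalso; exact h2K (by linear_combination ht2))
          | (exfalso; exact h2K (by linear_combination -ht2))
          | (exfalso; refine ht0 (funext fun i => ?_); fin_cases i <;> simp [b0, b1, b2] <;> done)
          | (exfalso; refine hst (funext fun i => ?_); fin_cases i <;> simp [a0, a1, a2, b0, b1, b2] <;> done)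
          | (intro i; fin_cases i <;> simp [a0, a1, a2, b0, b1, b2])
  refine hinj ?_
  rw [map_mul, map_add, map_add, map_one, map_zero, ← hf, ← hf, hback hs, hback ht]
  have e1 : ∀ d : Fin 3 → K, 1 + Q' * diagonal d * Q = Q' * diagonal (fun i => 1 + d i) * Q := fun d => by
    rw [show diagonal (fun i => 1 + d i) = 1 + diagonal d by rw [← diagonal_one, diagonal_add], mul_add, mul_one,
      add_mul, hQ]
  rw [e1, e1, show Q' * diagonal (fun i => 1 + s i) * Q * (Q' * diagonal (fun i => 1 + t i) * Q) =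
      Q' * (diagonal (fun i => 1 + s i) * diagonal (fun i => 1 + t i)) * Q by
    simp only [mul_assoc]; rw [← mul_assoc Q Q', hQ2, one_mul], diagonal_mul_diagonal, funext key, diagonal_zero,
    mul_zero, zero_mul]

/-- A vector fixed by an involution of determinant one. -/
theorem exists_fixed (h2 : (2 : F) ≠ 0) {a : SL₃} (ha : a * a = 1) :
    ∃ v : Fin 3 → F, v ≠ 0 ∧ (a : M₃) *ᵥ v = v := by
  have h : ((a : M₃) - 1).det = 0 := by
    have hprod : ((a : M₃) - 1) * ((a : M₃) + 1) = 0 := by
      rw [sub_mul, mul_add, mul_one, one_mul, ← Matrix.SpecialLinearGroup.coe_mul, ha,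
        Matrix.SpecialLinearGroup.coe_one]; abel
    by_contra hd
    haveI := invertibleOfIsUnitDet _ (Ne.isUnit hd)
    have h0 : (a : M₃) + 1 = 0 := by
      have h := congrArg (fun m => ⅟((a : M₃) - 1) * m) hprod
      simpa [← mul_assoc] using h
    have h1 := a.2
    rw [eq_neg_of_add_eq_zero_left h0, det_neg, det_one, Fintype.card_fin] at h1
    exact h2 (by linear_combination -h1)
  obtain ⟨v, hv, e⟩ := exists_mulVec_eq_zero_iff.2 h
  exact ⟨v, hv, by rwa [sub_mulVec, one_mulVec, sub_eq_zero] at e⟩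

/-- Two commuting involutions in a common frame. -/
theorem exists_frame_pair [Finite F] (h2 : (2 : F) ≠ 0) {a b : SL₃} (ha : a * a = 1) (hb : b * b = 1)
    (hab : a * b = b * a) (ha1 : a ≠ 1) (hb1 : b ≠ 1) (hne : a ≠ b) :
    ∃ P : GL (Fin 3) F, (conjGL P a : M₃) = diagonal ![1, -1, -1] ∧ (conjGL P b : M₃) = diagonal ![-1, 1, -1] := by
  set A := (a : M₃) with hA
  set B := (b : M₃) with hB
  have hAA : A * A = 1 := by rw [hA, ← Matrix.SpecialLinearGroup.coe_mul, ha, Matrix.SpecialLinearGroup.coe_one]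
  have hBB : B * B = 1 := by rw [hB, ← Matrix.SpecialLinearGroup.coe_mul, hb, Matrix.SpecialLinearGroup.coe_one]
  have hAB : A * B = B * A := by rw [hA, hB, ← Matrix.SpecialLinearGroup.coe_mul, hab, Matrix.SpecialLinearGroup.coe_mul]
  have hid : (1 + A) * (1 + B) = 0 := pair_identity h2 ha hb hab ha1 hb1 hne
  have hid' : (1 + B) * (1 + A) = 0 := by
    rw [add_mul, mul_add, mul_add, one_mul, mul_one, one_mul] at hid ⊢
    rw [← hAB, ← hid]; abel
  obtain ⟨u, hu, hAu⟩ := exists_fixed h2 ha
  obtain ⟨v, hv, hBv⟩ := exists_fixed h2 hb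
  rw [← hA] at hAu
  rw [← hB] at hBv
  obtain ⟨w, hw, hCw⟩ := exists_fixed h2 (a := a * b) (by
    rw [mul_assoc, ← mul_assoc b a b, ← hab, mul_assoc a b b, hb, mul_one, ha])
  rw [Matrix.SpecialLinearGroup.coe_mul, ← mulVec_mulVec, ← hA, ← hB] at hCw
  have half : ∀ {x y : Fin 3 → F}, (2 : F) • (x + y) = 0 → y = -x := fun {x y} e =>
    eq_neg_of_add_eq_zero_right ((smul_eq_zero.1 e).resolve_left h2)
  have hBu : B *ᵥ u = -u := half <| by
    have := congrArg (· *ᵥ u) hid'
    simp only [zero_mulVec, ← mulVec_mulVec, add_mulVec, one_mulVec, hAu, mulVec_add] at this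
    rw [two_smul]; exact this
  have hAv : A *ᵥ v = -v := half <| by
    have := congrArg (· *ᵥ v) hid
    simp only [zero_mulVec, ← mulVec_mulVec, add_mulVec, one_mulVec, hBv, mulVec_add] at this
    rw [two_smul]; exact this
  have hBA : B *ᵥ w = A *ᵥ w := by
    have := congrArg (A *ᵥ ·) hCw
    simp only [mulVec_mulVec, ← mul_assoc, hAA, one_mul, one_mulVec] at this
    exact this
  have hAw : A *ᵥ w = -w := half <| by
    have := congrArg (· *ᵥ w) hid
    simp only [zero_mulVec, ← mulVec_mulVec, add_mulVec, one_mulVec, mulVec_add, hBA] at this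
    rw [mulVec_mulVec, hAA, one_mulVec] at this
    rw [two_smul, ← this]; abel
  have hBw : B *ᵥ w = -w := hBA.trans hAw
  let S : M₃ := Matrix.of fun i j => ![u, v, w] j i
  have key : ∀ (X : M₃) (d : Fin 3 → F), (∀ j, X *ᵥ (![u, v, w] j) = d j • ![u, v, w] j) → X * S = S * diagonal d := by
    intro X d h
    refine Matrix.ext fun i j => ?_
    have := congrFun (h j) i
    rw [mul_diagonal]
    simpa [S, Matrix.mul_apply, mulVec, dotProduct, mul_comm] using this
  have hkA : A * S = S * diagonal ![1, -1, -1] := key A _ fun j => by fin_cases j <;> simp [hAu, hAv, hAw]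
  have hkB : B * S = S * diagonal ![-1, 1, -1] := key B _ fun j => by fin_cases j <;> simp [hBu, hBv, hBw]
  have hli : LinearIndependent F ![u, v, w] := by
    rw [Fintype.linearIndependent_iff]
    intro g hg
    rw [Fin.sum_univ_three] at hg
    simp only [Matrix.cons_val_zero, Matrix.cons_val_one, Matrix.cons_val] at hg
    have eA := congrArg (A *ᵥ ·) hg
    have eB := congrArg (B *ᵥ ·) hg
    simp only [mulVec_add, mulVec_smul, hAu, hAv, hAw, hBu, hBv, hBw, mulVec_zero, smul_neg] at eA eB
    have e0 : (2 * g 0) • u = 0 := by rw [mul_smul, two_smul]; linear_combination (norm := abel) hg + eA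
    have e1 : (2 * g 1) • v = 0 := by rw [mul_smul, two_smul]; linear_combination (norm := abel) hg + eB
    have f0 : g 0 = 0 := by simpa [h2, hu] using e0
    have f1 : g 1 = 0 := by simpa [h2, hv] using e1
    have f2 : g 2 = 0 := by
      rw [f0, f1, zero_smul, zero_smul, zero_add, zero_add] at hg
      exact (smul_eq_zero.1 hg).resolve_right hw
    intro i; fin_cases i <;> assumption
  have hdet : S.det ≠ 0 := by
    have h := (Matrix.linearIndependent_cols_iff_isUnit (A := S)).1 (by
      show LinearIndependent F S.col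
      rw [show S.col = ![u, v, w] from funext fun j => funext fun i => rfl]
      exact hli)
    exact ((Matrix.isUnit_iff_isUnit_det S).1 h).ne_zero
  set G := GeneralLinearGroup.mkOfDetNeZero S hdet
  have hG : (G : M₃) = S := rfl
  refine ⟨G⁻¹, ?_, ?_⟩
  · rw [conjGL_coe, inv_inv, ← hA, hG, mul_assoc, hkA, ← mul_assoc, ← hG, ← Units.val_mul, inv_mul_cancel,
      Units.val_one, one_mul]
  · rw [conjGL_coe, inv_inv, ← hB, hG, mul_assoc, hkB, ← mul_assoc, ← hG, ← Units.val_mul, inv_mul_cancel,
      Units.val_one, one_mul]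

/-- What commutes with both frame involutions is diagonal. -/
theorem isDg_of_commute (h2 : (2 : F) ≠ 0) {g : M₃}
    (h1 : g * diagonal ![1, -1, -1] = diagonal ![1, -1, -1] * g)
    (h3 : g * diagonal ![-1, 1, -1] = diagonal ![-1, 1, -1] * g) : IsDg g := by
  have hsign : ∀ x : F, x = -x → x = 0 := fun x e =>
    (mul_eq_zero.1 (show (2 : F) * x = 0 by linear_combination e)).resolve_left h2
  intro i j hij
  have e1 := congrFun (congrFun h1 i) j
  have e3 := congrFun (congrFun h3 i) j
  rw [mul_diagonal, diagonal_mul] at e1 e3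
  fin_cases i <;> fin_cases j <;>
    first
      | exact absurd rfl hij
      | (exact hsign _ (by simpa using e1))
      | (exact hsign _ (by simpa [eq_comm] using e1))
      | (exact hsign _ (by simpa using e3))
      | (exact hsign _ (by simpa [eq_comm] using e3))

theorem four_facts {V : Subgroup PSL₃} (hV : IsKleinFour V) :
    ∃ x y : PSL₃, x ∈ V ∧ y ∈ V ∧ x ≠ 1 ∧ y ≠ 1 ∧ x ≠ y ∧ x ^ 2 = 1 ∧ y ^ 2 = 1 ∧ x * y = y * x := by
  classical
  haveI := hV
  haveI : Finite V := Nat.finite_of_card_ne_zero (by rw [IsKleinFour.card_four]; norm_num)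
  haveI : Fintype V := Fintype.ofFinite V
  have h4 : Fintype.card V = 4 := by rw [← Nat.card_eq_fintype_card]; exact IsKleinFour.card_four
  obtain ⟨x, hx⟩ := Fintype.exists_ne_of_one_lt_card (by omega) (1 : V)
  obtain ⟨y, hy, hyx⟩ : ∃ y : V, y ≠ 1 ∧ y ≠ x := by
    by_contra hno
    push Not at hno
    have : (Finset.univ : Finset V) ⊆ {1, x} := fun z _ => by
      rw [Finset.mem_insert, Finset.mem_singleton]
      exact (em (z = 1)).imp_right (hno z)
    have := Finset.card_le_card this
    rw [Finset.card_univ, h4] at this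
    exact absurd (this.trans Finset.card_le_two) (by omega)
  have hsq : ∀ z : V, (z : PSL₃) ^ 2 = 1 := fun z => by
    have := Monoid.pow_exponent_eq_one z
    rw [IsKleinFour.exponent_two] at this
    exact congrArg Subtype.val this
  refine ⟨x, y, x.2, y.2, fun e => hx (Subtype.ext e), fun e => hy (Subtype.ext e),
    fun e => hyx (Subtype.ext e.symm), hsq x, hsq y, ?_⟩
  exact congrArg Subtype.val (mul_comm_of_exponent_two IsKleinFour.exponent_two x y)

/-- The frame of a four-group: everything centralising it is diagonal there. -/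
theorem exists_four_frame [Finite F] (h2 : (2 : F) ≠ 0) {V : Subgroup PSL₃} (hV : IsKleinFour V) :
    ∃ (P : GL (Fin 3) F) (a b : SL₃), pr a ∈ V ∧ pr b ∈ V ∧ a * a = 1 ∧ b * b = 1 ∧
      (conjGL P a : M₃) = diagonal ![1, -1, -1] ∧ (conjGL P b : M₃) = diagonal ![-1, 1, -1] ∧
      ∀ g : SL₃, pr g ∈ Subgroup.centralizer (V : Set PSL₃) → IsDg (conjGL P g : M₃) := by
  obtain ⟨x, y, hxV, hyV, hx1, hy1, hxy, hx2, hy2, hc⟩ := four_facts hV
  obtain ⟨a, rfl, ha⟩ := exists_lift free_two hx2
  obtain ⟨b, rfl, hb⟩ := exists_lift free_two hy2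
  have hab : a * b = b * a := commute_of_pr free_two hb hc
  rw [pow_two] at ha hb
  obtain ⟨P, hPa, hPb⟩ := exists_frame_pair h2 ha hb hab (fun e => hx1 (by rw [e, map_one]))
    (fun e => hy1 (by rw [e, map_one])) (fun e => hxy (by rw [e]))
  refine ⟨P, a, b, hxV, hyV, ha, hb, hPa, hPb, fun g hg => ?_⟩
  have h1 : g * a = a * g := commute_of_pr free_two (by rw [pow_two, ha]) ((hg _ hxV).symm)
  have h3 : g * b = b * g := commute_of_pr free_two (by rw [pow_two, hb]) ((hg _ hyV).symm)
  refine isDg_of_commute h2 ?_ ?_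
  · rw [← hPa, ← Matrix.SpecialLinearGroup.coe_mul, ← map_mul, h1, map_mul, Matrix.SpecialLinearGroup.coe_mul]
  · rw [← hPb, ← Matrix.SpecialLinearGroup.coe_mul, ← map_mul, h3, map_mul, Matrix.SpecialLinearGroup.coe_mul]

/-- The centraliser of a four-group is commutative. -/
theorem centralizer_four_comm [Finite F] (h2 : (2 : F) ≠ 0) {V : Subgroup PSL₃} (hV : IsKleinFour V)
    {x y : PSL₃} (hx : x ∈ Subgroup.centralizer (V : Set PSL₃)) (hy : y ∈ Subgroup.centralizer (V : Set PSL₃)) :
    x * y = y * x := by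
  obtain ⟨P, a, b, -, -, -, -, -, -, hdg⟩ := exists_four_frame h2 hV
  obtain ⟨g, rfl⟩ := pr_surjective x
  obtain ⟨h, rfl⟩ := pr_surjective y
  have : g * h = h * g := (conjGL P).injective (Subtype.ext (by
    rw [map_mul, map_mul, Matrix.SpecialLinearGroup.coe_mul, Matrix.SpecialLinearGroup.coe_mul]
    exact (hdg g hx).commute (hdg h hy)))
  rw [← map_mul, ← map_mul, this]

/-- An element of an elementary abelian 2-group containing two frame involutions is one of four. -/
theorem sign_cases (h2 : (2 : F) ≠ 0) {g : SL₃} (hd : IsDg (g : M₃)) (hg : g * g = 1) :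
    (g : M₃) = 1 ∨ (g : M₃) = diagonal ![1, -1, -1] ∨ (g : M₃) = diagonal ![-1, 1, -1] ∨
      (g : M₃) = diagonal ![-1, -1, 1] := by
  have h1 : ∀ i, (g : M₃) i i = 1 ∨ (g : M₃) i i = -1 := fun i => by
    have := congrArg (fun m : SL₃ => (m : M₃) i i) hg
    simp only [Matrix.SpecialLinearGroup.coe_mul, Matrix.SpecialLinearGroup.coe_one, one_apply_eq] at this
    rw [hd.eq, diagonal_mul_diagonal, diagonal_apply_eq] at this
    exact mul_self_eq_one_iff.1 this
  have hdet := g.2
  rw [hd.eq, det_diagonal, Fin.prod_univ_three] at hdet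
  have hn : (1 : F) ≠ -1 := fun e => h2 (by linear_combination e)
  have hform : ∀ {d : Fin 3 → F}, (∀ i, (g : M₃) i i = d i) → (g : M₃) = diagonal d := fun h => by
    rw [hd.eq]; congr 1; funext i; exact h i
  rcases h1 0 with a0 | a0 <;> rcases h1 1 with a1 | a1 <;> rcases h1 2 with a2 | a2 <;>
    simp only [a0, a1, a2] at hdet <;>
    first
      | (exfalso; exact hn (by linear_combination hdet))
      | (exfalso; exact hn (by linear_combination -hdet))
      | (left; rw [← diagonal_one]; refine hform fun i => ?_; fin_cases i <;> assumption)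
      | (right; left; refine hform fun i => ?_; fin_cases i <;> assumption)
      | (right; right; left; refine hform fun i => ?_; fin_cases i <;> assumption)
      | (right; right; right; refine hform fun i => ?_; fin_cases i <;> assumption)

/-- `PSL(3, F)` has 2-rank at most two. -/
theorem rank_two [Finite F] (h2 : (2 : F) ≠ 0) : Cfsg.PRankLE 2 2 PSL₃ := by
  classical
  intro A hA hexp
  by_contra hlt
  haveI : Finite A := inferInstance
  haveI : Fintype A := Fintype.ofFinite A
  have h5 : 4 < Fintype.card A := by rw [← Nat.card_eq_fintype_card]; norm_num at hlt ⊢; omega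
  obtain ⟨x, hx⟩ := Fintype.exists_ne_of_one_lt_card (by omega) (1 : A)
  obtain ⟨y, hy, hyx⟩ : ∃ y : A, y ≠ 1 ∧ y ≠ x := by
    by_contra hno
    push Not at hno
    have hsub : (Finset.univ : Finset A) ⊆ {1, x} := fun z _ => by
      rw [Finset.mem_insert, Finset.mem_singleton]
      exact (em (z = 1)).imp_right (hno z)
    have := (Finset.card_le_card hsub).trans Finset.card_le_two
    rw [Finset.card_univ] at this
    omega
  choose l hl hl2 using fun z : A => exists_lift (F := F) free_two (hexp z z.2)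
  have hcomm : ∀ z w : A, l z * l w = l w * l z := fun z w => commute_of_pr free_two (hl2 w) (by
    rw [hl, hl]; exact congrArg Subtype.val (mul_comm' z w))
  have hsq : ∀ z : A, l z * l z = 1 := fun z => by rw [← pow_two]; exact hl2 z
  have hinj : ∀ z w : A, l z = l w → z = w := fun z w e => Subtype.ext (by rw [← hl, e, hl])
  have hone : l 1 = 1 := lift_unique free_two (hl2 1) (one_pow 2) (by rw [hl, map_one]; rfl)
  obtain ⟨P, hPx, hPy⟩ := exists_frame_pair h2 (hsq x) (hsq y) (hcomm x y)
    (fun e => hx (hinj _ _ (e.trans hone.symm))) (fun e => hy (hinj _ _ (e.trans hone.symm)))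
    (fun e => hyx (hinj _ _ e.symm))
  let T : Finset M₃ := {1, diagonal ![1, -1, -1], diagonal ![-1, 1, -1], diagonal ![-1, -1, 1]}
  have hmem : ∀ z : A, (conjGL P (l z) : M₃) ∈ T := fun z => by
    have hd : IsDg (conjGL P (l z) : M₃) := isDg_of_commute h2
      (by rw [← hPx, ← Matrix.SpecialLinearGroup.coe_mul, ← map_mul, hcomm, map_mul,
        Matrix.SpecialLinearGroup.coe_mul])
      (by rw [← hPy, ← Matrix.SpecialLinearGroup.coe_mul, ← map_mul, hcomm, map_mul,
        Matrix.SpecialLinearGroup.coe_mul])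
    have := sign_cases h2 hd (by rw [← map_mul, hsq, map_one])
    simpa [T] using this
  have hcard : Fintype.card A ≤ T.card := Finset.card_le_card_of_injOn (s := Finset.univ)
    (fun z => (conjGL P (l z) : M₃)) (fun z _ => hmem z)
    (fun z _ w _ e => hinj z w ((conjGL P).injective (Subtype.ext e)))
  have : T.card ≤ 4 := Finset.card_le_four
  omega

end Cfsg.Agent.Classical.Bloom
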