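import Cfsg.Agent.Lib.Classical.Bloom.PSLTwoCase
import Cfsg.Agent.Lib.Classical.Bloom.Rank
import Cfsg.Agent.S2119

/-!
Subgroups of `PSL(3, F)` with socle `A₇`.
-/

set_option autoImplicit false

namespace Cfsg.Agent.Classical.Bloom

open Matrix
open Cfsg.Agent.Classical

theorem seven_five_data : ∃ x y : Equiv.Perm (Fin 7), x ^ 5 = 1 ∧ x ≠ 1 ∧ Equiv.Perm.sign x = 1 ∧
    Equiv.Perm.sign y = 1 ∧ y * x = x ^ 2 * y := by
  refine ⟨Equiv.swap 0 1 * Equiv.swap 1 2 * Equiv.swap 2 3 * Equiv.swap 3 4,
    Equiv.swap 1 2 * Equiv.swap 2 4 * Equiv.swap 4 3 * Equiv.swap 5 6, ?_⟩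
  decide +kernel

theorem seven_transp : ∀ a b c : Equiv.Perm (Fin 7), a = Equiv.swap 0 1 → b = Equiv.swap 2 3 → c = Equiv.swap 4 5 →
    a * a = 1 ∧ b * b = 1 ∧ c * c = 1 ∧ a * b = b * a ∧ a * c = c * a ∧ b * c = c * b := by
  intro a b c ha hb hc
  subst ha; subst hb; subst hc
  decide +kernel

variable {F : Type*} [Field F] [Fintype F]

local notation "PSL₃" => Matrix.ProjectiveSpecialLinearGroup (Fin 3) F

/-- The symmetric group of degree seven has no faithful image in `PSL(3, F)`. -/
theorem no_sym_seven (h2 : (2 : F) ≠ 0) {f : Equiv.Perm (Fin 7) →* PSL₃} (hf : Function.Injective f) : False := by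
  classical
  obtain ⟨ha, hb, hc, hab, hac, hbc⟩ := seven_transp _ _ _ rfl rfl rfl
  set a : Equiv.Perm (Fin 7) := Equiv.swap 0 1
  set b : Equiv.Perm (Fin 7) := Equiv.swap 2 3
  set c : Equiv.Perm (Fin 7) := Equiv.swap 4 5
  let A : Subgroup (Equiv.Perm (Fin 7)) := Subgroup.closure {a, b, c}
  haveI hA : IsMulCommutative A := Subgroup.isMulCommutative_closure (fun x hx y hy => by
    rcases hx with rfl | rfl | rfl <;> rcases hy with rfl | rfl | rfl
    exacts [rfl, hab, hac, hab.symm, rfl, hbc, hac.symm, hbc.symm, rfl])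
  have hsq : ∀ x ∈ A, x ^ 2 = 1 := by
    intro x hx
    induction hx using Subgroup.closure_induction with
    | mem y hy => rcases hy with rfl | rfl | rfl <;> (rw [pow_two]; assumption)
    | one => rw [one_pow]
    | mul y z hy hz ey ez =>
      rw [(show Commute y z from congrArg Subtype.val (mul_comm' (⟨y, hy⟩ : A) ⟨z, hz⟩)).mul_pow, ey, ez, one_mul]
    | inv y _ ey => rw [inv_pow, ey, inv_one]
  have h := rank_two h2 (A.map f) inferInstance (by
    rintro _ ⟨x, hx, rfl⟩
    rw [← map_pow, hsq x hx, map_one])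
  rw [Subgroup.card_map_of_injective hf] at h
  have h8 : 8 ≤ Nat.card A := by
    have hm : ∀ i j k : Fin 2, a ^ i.val * b ^ j.val * c ^ k.val ∈ A := fun i j k =>
      A.mul_mem (A.mul_mem (A.pow_mem (Subgroup.subset_closure (Or.inl rfl)) _)
        (A.pow_mem (Subgroup.subset_closure (Or.inr (Or.inl rfl))) _))
        (A.pow_mem (Subgroup.subset_closure (Or.inr (Or.inr rfl))) _)
    have key : Function.Injective (fun x : Fin 2 × Fin 2 × Fin 2 =>
        (Equiv.swap 0 1 : Equiv.Perm (Fin 7)) ^ x.1.val * Equiv.swap 2 3 ^ x.2.1.val * Equiv.swap 4 5 ^ x.2.2.val) := by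
      decide +kernel
    refine le_trans (le_of_eq ?_) (Nat.card_le_card_of_injective (fun x : Fin 2 × Fin 2 × Fin 2 =>
      (⟨_, hm x.1 x.2.1 x.2.2⟩ : A)) fun x y e => key (congrArg Subtype.val e))
    simp
  rw [show (2 : ℕ) ^ 2 = 4 from rfl] at h
  omega

/-- The socle `A₇`. -/
theorem seven_socle (p α : ℕ) [Fact p.Prime] (hp2 : p ≠ 2) (hF : Fintype.card F = p ^ α) {H : Subgroup PSL₃}
    (M : Subgroup H) [M.Normal] (hc : ∀ x : H, (∀ m ∈ M, x * m = m * x) → x = 1)
    (e : M ≃* alternatingGroup (Fin 7)) :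
    p = 5 ∧ Even α ∧ Nonempty (H ≃* alternatingGroup (Fin 7)) := by
  classical
  haveI : CharP F p := charP_of_card_eq_prime_pow hF
  have h2 : (2 : F) ≠ 0 := fun h => hp2 ((Nat.prime_dvd_prime_iff_eq Fact.out Nat.prime_two).1
    ((CharP.cast_eq_zero_iff F p 2).1 (by exact_mod_cast h)))
  let f : alternatingGroup (Fin 7) →* H := M.subtype.comp e.symm.toMonoidHom
  have hf : Function.Injective f := M.subtype_injective.comp e.symm.injective
  have hp5 : p = 5 := by
    by_contra hp5
    haveI : Fact (Nat.Prime 5) := ⟨Nat.prime_five⟩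
    obtain ⟨x, y, hx5, hx1, hxs, hys, hxy⟩ := seven_five_data
    let X : alternatingGroup (Fin 7) := ⟨x, Equiv.Perm.mem_alternatingGroup.2 hxs⟩
    let Y : alternatingGroup (Fin 7) := ⟨y, Equiv.Perm.mem_alternatingGroup.2 hys⟩
    have hX : orderOf ((f X : H) : PSL₃) = 5 := by
      rw [Subgroup.orderOf_coe, orderOf_injective f hf]
      exact orderOf_eq_prime (Subtype.ext hx5) fun h => hx1 (congrArg Subtype.val h)
    have hYX : Y * X = X ^ 2 * Y := Subtype.ext hxy
    obtain ⟨a, b, hab, hb, e'⟩ := ((orbit_collide (F := F) Nat.prime_five (by norm_num) (fun h => hp5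
      ((Nat.prime_dvd_prime_iff_eq Fact.out Nat.prime_five).1 ((CharP.cast_eq_zero_iff F p 5).1 h))) hX).2
      ((f Y : H) : PSL₃) 2 (by
        rw [← Subgroup.coe_inv, ← Subgroup.coe_mul, ← Subgroup.coe_mul, ← map_inv, ← map_mul, ← map_mul,
          hYX, mul_inv_cancel_right, map_pow, Subgroup.coe_pow])).1
    exact five_checks.2.1 ⟨a, hab.trans hb⟩ ⟨b, hb⟩ hab e'
  refine ⟨hp5, ?_, ?_⟩
  · -- the nine element pairing inside `A₆`
    letI : Fintype (GaloisField 3 2) := Fintype.ofFinite _
    have h9 : Fintype.card (GaloisField 3 2) = 9 := by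
      rw [← Nat.card_eq_fintype_card, GaloisField.card 3 2 (by norm_num)]
      norm_num
    obtain ⟨e6⟩ := Cfsg.Agent.S0254.result h9
    let q : Fin 6 ≃ {x : Fin 7 // x.val < 6} :=
      { toFun := fun i => ⟨i.castSucc, i.2⟩
        invFun := fun x => ⟨x.1.val, x.2⟩
        left_inv := fun _ => rfl
        right_inv := fun _ => rfl }
    let g6 : alternatingGroup (Fin 6) →* alternatingGroup (Fin 7) :=
      ((Equiv.Perm.extendDomainHom q).comp (alternatingGroup (Fin 6)).subtype).codRestrict _ fun x =>
        Equiv.Perm.mem_alternatingGroup.2 ((Equiv.Perm.sign_extendDomain _ q).trans (Equiv.Perm.mem_alternatingGroup.1 x.2))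
    have hg6 : Function.Injective g6 := fun x y h => Subtype.ext
      (Equiv.Perm.extendDomainHom_injective q (congrArg Subtype.val h))
    let g : Matrix.SpecialLinearGroup (Fin 2) (GaloisField 3 2) →* H :=
      (f.comp (g6.comp e6.toMonoidHom)).comp (slToPSL 2 (GaloisField 3 2))
    let R : Root (GaloisField 3 2) H :=
      { u := fun s => g (Semi.up s)
        add := fun s t => by rw [Semi.up_add, map_mul]
        inj := fun s t h => by
          have h1 := (hf.comp (hg6.comp e6.injective)) h
          have := PSLAut.eq_of_slToPSL_eq (A := !![0, s; 0, 0]) (B := !![0, t; 0, 0]) (by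
              show (!![1, s; 0, 1] : Matrix (Fin 2) (Fin 2) (GaloisField 3 2)) = _
              ext i j; fin_cases i <;> fin_cases j <;> simp) (by
              show (!![1, t; 0, 1] : Matrix (Fin 2) (Fin 2) (GaloisField 3 2)) = _
              ext i j; fin_cases i <;> fin_cases j <;> simp)
            (by ext i j; fin_cases i <;> fin_cases j <;> simp [Matrix.mul_apply, Fin.sum_univ_two])
            (by ext i j; fin_cases i <;> fin_cases j <;> simp [Matrix.mul_apply, Fin.sum_univ_two]) h1
          simpa using congrFun (congrFun this 0) 1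
        tor := fun a => ⟨g (Semi.tor a), fun s => by rw [← map_inv, ← map_mul, ← map_mul, Semi.tor_up]⟩ }
    haveI : Fact (Nat.Prime 3) := ⟨Nat.prime_three⟩
    rcases R.small_root p 3 (by norm_num) (by omega) (by rw [h9]; norm_num) (f := H.subtype) H.subtype_injective with
      h | h | ⟨-, ⟨P⟩⟩
    · omega
    · omega
    · obtain ⟨s, t, hst⟩ := P.nontrivial
      have hne : P.c s t ≠ 0 := fun e0 => by
        have := P.cube s t; rw [e0, zero_pow three_ne_zero] at this; exact zero_ne_one this
      have hu : orderOf (Units.mk0 (P.c s t) hne) = 3 :=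
        orderOf_eq_prime (Units.ext (P.cube s t)) fun h => hst (congrArg Units.val h)
      have h3 := hu ▸ orderOf_dvd_natCard (Units.mk0 (P.c s t) hne)
      rw [Nat.card_units, Nat.card_eq_fintype_card, hF] at h3
      rcases Nat.even_or_odd α with h | ⟨k, rfl⟩
      · exact h
      · exfalso
        rw [hp5] at h3
        have h5 : 5 ^ (2 * k + 1) % 3 = 2 := by
          rw [pow_succ, pow_mul, Nat.mul_mod, Nat.pow_mod]; norm_num
        generalize 5 ^ (2 * k + 1) = m at h3 h5
        omega
  · let c : Equiv.Perm (Fin 7) ≃* MulAut (alternatingGroup (Fin 7)) :=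
      MulEquiv.ofBijective MulAut.conjNormal (S2119.result 7 (by norm_num) (by norm_num))
    let θ : H →* Equiv.Perm (Fin 7) :=
      c.symm.toMonoidHom.comp ((MulAut.congr e).toMonoidHom.comp MulAut.conjNormal)
    have hθ : Function.Injective θ := (injective_iff_map_eq_one _).2 fun x hx => hc x fun m hm => by
      have h1 : MulAut.congr e (MulAut.conjNormal x) = 1 := c.symm.injective (hx.trans (map_one _).symm)
      have h1' : MulAut.conjNormal x = (1 : MulAut M) := (MulAut.congr e).injective (h1.trans (map_one _).symm)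
      have h2 := congrArg Subtype.val (DFunLike.congr_fun h1' (⟨m, hm⟩ : M))
      rw [MulAut.conjNormal_apply] at h2
      exact mul_inv_eq_iff_eq_mul.1 h2
    have hθM : ∀ m : M, θ m = (e m : Equiv.Perm (Fin 7)) := fun m => c.injective (by
      show c (c.symm _) = _
      rw [c.apply_symm_apply]
      refine MulEquiv.ext fun y => Subtype.ext ?_
      show ((MulAut.congr e (MulAut.conjNormal (m : H))) y : Equiv.Perm (Fin 7)) = (MulAut.conjNormal (e m : Equiv.Perm (Fin 7)) y : alternatingGroup (Fin 7))
      rw [MulAut.conjNormal_apply]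
      have : MulAut.congr e (MulAut.conjNormal (m : H)) y = e m * y * (e m)⁻¹ := by
        show e (MulAut.conjNormal (m : H) (e.symm y)) = _
        rw [show MulAut.conjNormal (m : H) (e.symm y) = m * e.symm y * m⁻¹ from Subtype.ext (MulAut.conjNormal_apply _ _),
          map_mul, map_mul, map_inv, e.apply_symm_apply]
      rw [this]; rfl)
    by_cases hM : M = ⊤
    · exact ⟨(Subgroup.topEquiv.symm.trans (MulEquiv.subgroupCongr hM.symm)).trans e⟩
    exfalso
    have hle : alternatingGroup (Fin 7) ≤ θ.range := fun x hx =>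
      ⟨(e.symm ⟨x, hx⟩ : M), by rw [hθM, e.apply_symm_apply]⟩
    have htop : θ.range = ⊤ := by
      have hidx : θ.range.index ∣ 2 := by
        have := Subgroup.index_dvd_of_le hle
        rwa [alternatingGroup.index_eq_two] at this
      rcases (Nat.dvd_prime Nat.prime_two).1 hidx with h | h
      · exact Subgroup.index_eq_one.1 h
      · exfalso
        refine hM (eq_top_iff.2 fun x _ => ?_)
        have heq : alternatingGroup (Fin 7) = θ.range := Subgroup.eq_of_le_of_card_ge hle (le_of_eq (by
          have h1 := Subgroup.card_mul_index (alternatingGroup (Fin 7))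
          have h2' := Subgroup.card_mul_index θ.range
          rw [alternatingGroup.index_eq_two] at h1
          rw [h] at h2'
          omega))
        have hxA : θ x ∈ alternatingGroup (Fin 7) := heq ▸ ⟨x, rfl⟩
        have := hθ ((hθM (e.symm ⟨θ x, hxA⟩)).trans (by rw [e.apply_symm_apply]))
        rw [← this]
        exact SetLike.coe_mem _
    exact no_sym_seven h2 (f := H.subtype.comp
      ((MonoidHom.ofInjective hθ).trans ((MulEquiv.subgroupCongr htop).trans Subgroup.topEquiv)).symm.toMonoidHom)
      (H.subtype_injective.comp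
        ((MonoidHom.ofInjective hθ).trans ((MulEquiv.subgroupCongr htop).trans Subgroup.topEquiv)).symm.injective)

end Cfsg.Agent.Classical.Bloom
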