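import Cfsg.Agent.Lib.Classical.Bloom.Models
import Cfsg.Agent.Lib.Classical.Bloom.Generated
import Cfsg.Agent.Lib.Classical.Bloom.Reduce
import Cfsg.Agent.Lib.Classical.SLThree.Basic
import Cfsg.Agent.Lib.Recog.PguThree.Ident
import Cfsg.Agent.Lib.Block.OrderPSL

/-!
Subgroups of `PSL(3, F)` with a transvection in their irreducible preimage.
-/

set_option autoImplicit false

namespace Cfsg.Agent.Classical.Bloom

open Matrix
open Cfsg.Agent.Classical.SLThree (Indep indep_of_not_mem)

variable {F : Type*} [Field F]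

local notation "SL₃" => Matrix.SpecialLinearGroup (Fin 3) F
local notation "PSL₃" => Matrix.ProjectiveSpecialLinearGroup (Fin 3) F
local notation "M₃" => Matrix (Fin 3) (Fin 3) F

theorem functional_unique {a b φ ψ : Fin 3 → F} (h : Indep a b) (hφ : φ ≠ 0) (ha : φ ⬝ᵥ a = 0) (hb : φ ⬝ᵥ b = 0)
    (ha' : ψ ⬝ᵥ a = 0) (hb' : ψ ⬝ᵥ b = 0) : ∃ t : F, ψ = t • φ := h.functional hφ ha hb ha' hb'

/-- The subgroup generated by the transvections of an irreducible group is irreducible. -/
theorem irr_closure_tvs {Γ : Subgroup SL₃} (hirr : Irr Γ) (hne : (tvs Γ).Nonempty) :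
    Irr (Subgroup.closure (tvs Γ)) := by
  obtain ⟨t₀, ht₀⟩ := hne
  obtain ⟨htΓ, u, φ, hu, hφ, hi, et⟩ := id ht₀
  have hle : Subgroup.closure (tvs Γ) ≤ Γ := (Subgroup.closure_le _).2 fun g hg => hg.1
  have hconj : ∀ g ∈ Γ, g⁻¹ * t₀ * g ∈ tvs Γ := by
    intro g hg
    refine ⟨mul_mem (mul_mem (inv_mem hg) htΓ) hg, ((g⁻¹ : SL₃) : M₃) *ᵥ u, φ ᵥ* (g : M₃), fun h0 => hu ?_,
      fun h0 => hφ ?_, ?_, ?_⟩
    · have := congrArg ((g : M₃) *ᵥ ·) h0
      simp only [mulVec_mulVec, ← Matrix.SpecialLinearGroup.coe_mul, mul_inv_cancel, inv_mul_cancel,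
        Matrix.SpecialLinearGroup.coe_one, one_mulVec, mulVec_zero] at this
      exact this
    · have := congrArg (· ᵥ* ((g⁻¹ : SL₃) : M₃)) h0
      simp only [vecMul_vecMul, ← Matrix.SpecialLinearGroup.coe_mul, mul_inv_cancel, inv_mul_cancel,
        Matrix.SpecialLinearGroup.coe_one, vecMul_one, zero_vecMul] at this
      exact this
    · rw [← dotProduct_mulVec, mulVec_mulVec, ← Matrix.SpecialLinearGroup.coe_mul, mul_inv_cancel,
        Matrix.SpecialLinearGroup.coe_one, one_mulVec, hi]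
    · rw [Matrix.SpecialLinearGroup.coe_mul, Matrix.SpecialLinearGroup.coe_mul, et, mul_add, add_mul, mul_one,
        ← Matrix.SpecialLinearGroup.coe_mul, inv_mul_cancel, Matrix.SpecialLinearGroup.coe_one, mul_vecMulVec,
        vecMulVec_mul]
  refine ⟨fun v hv => ?_, fun χ hχ => ?_⟩
  · by_contra! hfix
    -- the axis of a transvection contains all images of the fixed point
    have hax : ∀ g ∈ Γ, φ ⬝ᵥ ((g : M₃) *ᵥ v) = 0 := by
      intro g hg
      obtain ⟨c, hc⟩ := hfix _ (Subgroup.subset_closure (hconj g hg))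
      have h1 : (t₀ : M₃) *ᵥ ((g : M₃) *ᵥ v) = c • ((g : M₃) *ᵥ v) := by
        have := congrArg ((g : M₃) *ᵥ ·) hc
        rw [mulVec_mulVec, mulVec_smul, ← Matrix.SpecialLinearGroup.coe_mul, ← mul_assoc, ← mul_assoc,
          mul_inv_cancel, one_mul, Matrix.SpecialLinearGroup.coe_mul, ← mulVec_mulVec] at this
        exact this
      rw [et, rankOne_mulVec] at h1
      by_contra h0
      have h2 := congrArg (φ ⬝ᵥ ·) h1
      simp only [dotProduct_add, dotProduct_smul, hi, smul_zero, smul_eq_mul, mul_zero, add_zero] at h2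
      have hc1 : c = 1 := (mul_eq_right₀ h0).1 h2.symm
      rw [hc1, one_smul, add_eq_left] at h1
      exact hu ((smul_eq_zero.1 h1).resolve_left h0)
    obtain ⟨g₀, hg₀, hmove⟩ := hirr.1 v hv
    have hind : Indep v ((g₀ : M₃) *ᵥ v) := indep_of_not_mem hv fun t => hmove t
    obtain ⟨g, hg, hφmove⟩ := hirr.2 φ hφ
    obtain ⟨s, hs⟩ := functional_unique (φ := φ) (ψ := φ ᵥ* (g : M₃)) hind hφ
      (by simpa using hax 1 (one_mem _)) (hax g₀ hg₀)
      (by rw [← dotProduct_mulVec]; exact hax g hg)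
      (by rw [← dotProduct_mulVec, mulVec_mulVec, ← Matrix.SpecialLinearGroup.coe_mul]; exact hax _ (mul_mem hg hg₀))
    exact hφmove s hs
  · by_contra! hfix
    have hcen : ∀ g ∈ Γ, (χ ᵥ* (g : M₃)) ⬝ᵥ u = 0 := by
      intro g hg
      obtain ⟨c, hc⟩ := hfix _ (Subgroup.subset_closure (hconj g⁻¹ (inv_mem hg)))
      have h1 : (χ ᵥ* (g : M₃)) ᵥ* (t₀ : M₃) = c • (χ ᵥ* (g : M₃)) := by
        have := congrArg (· ᵥ* (g : M₃)) hc
        simp only [inv_inv, vecMul_vecMul, smul_vecMul, ← Matrix.SpecialLinearGroup.coe_mul, mul_assoc,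
          inv_mul_cancel, mul_one] at this
        rw [vecMul_vecMul, ← Matrix.SpecialLinearGroup.coe_mul]
        exact this
      rw [et, vecMul_rankOne] at h1
      by_contra h0
      have h2 := congrArg (· ⬝ᵥ u) h1
      simp only [add_dotProduct, smul_dotProduct, hi, smul_zero, smul_eq_mul, mul_zero, add_zero] at h2
      have hc1 : c = 1 := (mul_eq_right₀ h0).1 h2.symm
      rw [hc1, one_smul, add_eq_left] at h1
      exact hφ ((smul_eq_zero.1 h1).resolve_left h0)
    obtain ⟨g₀, hg₀, hmove⟩ := hirr.2 χ hχ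
    have hind : Indep χ (χ ᵥ* (g₀ : M₃)) := indep_of_not_mem hχ fun t => hmove t
    obtain ⟨g, hg, humove⟩ := hirr.1 u hu
    obtain ⟨s, hs⟩ := functional_unique (φ := u) (ψ := (g : M₃) *ᵥ u) hind hu
      (by rw [dotProduct_comm]; simpa using hcen 1 (one_mem _)) (by rw [dotProduct_comm]; exact hcen g₀ hg₀)
      (by rw [dotProduct_comm, dotProduct_mulVec]; exact hcen g hg)
      (by rw [dotProduct_comm, dotProduct_mulVec, vecMul_vecMul, ← Matrix.SpecialLinearGroup.coe_mul]
          exact hcen _ (mul_mem hg₀ hg))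
    exact humove s hs

/-- Conjugation on the projective group. -/
noncomputable def pslConj (D : GL (Fin 3) F) : PSL₃ ≃* PSL₃ :=
  QuotientGroup.congr _ _ (conjGL D) (by
    ext y
    constructor
    · rintro ⟨x, hx, rfl⟩
      refine Subgroup.mem_center_iff.2 fun z => ?_
      obtain ⟨w, rfl⟩ := (conjGL D).surjective z
      show conjGL D w * conjGL D x = conjGL D x * conjGL D w
      rw [← map_mul, ← map_mul, Subgroup.mem_center_iff.1 hx w]
    · intro hy
      refine ⟨(conjGL D).symm y, Subgroup.mem_center_iff.2 fun z => (conjGL D).injective ?_,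
        (conjGL D).apply_symm_apply y⟩
      rw [map_mul, map_mul, (conjGL D).apply_symm_apply, Subgroup.mem_center_iff.1 hy (conjGL D z)])

theorem pslConj_pr (D : GL (Fin 3) F) (g : SL₃) : pslConj D (pr g) = pr (conjGL D g) := rfl

theorem comap_map_pslConj (D : GL (Fin 3) F) (H : Subgroup PSL₃) :
    (H.map (pslConj D).toMonoidHom).comap pr = moveGL D (H.comap pr) := by
  ext g
  rw [Subgroup.mem_comap, Subgroup.mem_map, mem_moveGL]
  constructor
  · rintro ⟨x, hx, e⟩
    refine ⟨(conjGL D).symm g, ?_, (conjGL D).apply_symm_apply g⟩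
    show pr _ ∈ H
    have : x = pr ((conjGL D).symm g) := (pslConj D).injective (by
      rw [pslConj_pr, (conjGL D).apply_symm_apply]; exact e)
    rwa [← this]
  · rintro ⟨h, hh, rfl⟩
    exact ⟨pr h, hh, rfl⟩

variable [Fintype F]

/-- The preimage of a subgroup under an isomorphism. -/
noncomputable def comapEquiv {G G' : Type*} [Group G] [Group G'] (e : G ≃* G') (N : Subgroup G') :
    N.comap e.toMonoidHom ≃* N :=
  MulEquiv.ofBijective ((e.toMonoidHom.comp (N.comap e.toMonoidHom).subtype).codRestrict N fun x => x.2)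
    ⟨fun x y h => Subtype.ext (e.injective (congrArg Subtype.val h)),
      fun y => ⟨⟨e.symm y, by show e (e.symm y) ∈ N; rw [e.apply_symm_apply]; exact y.2⟩,
        Subtype.ext (e.apply_symm_apply _)⟩⟩

theorem slOver_equiv (L : Subfield F) :
    Function.Injective (Matrix.SpecialLinearGroup.map (n := Fin 3) L.subtype) := fun a b e =>
  Subtype.ext (Matrix.ext fun i j => Subtype.ext (congrFun (congrFun (congrArg Subtype.val e) i) j))

/-- The conclusions of the transvection case. -/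
theorem transvection_case {p α : ℕ} [Fact p.Prime] (hp : p ≠ 2) (hF : Fintype.card F = p ^ α)
    (H : Subgroup PSL₃) (hirr : Irr (H.comap pr)) (htv : (tvs (H.comap pr)).Nonempty) :
    (∃ (K : Type) (_ : Field K) (_ : Fintype K) (β : ℕ), Fintype.card K = p ^ β ∧ β ∣ α ∧ Nonempty (↥H ≃* Matrix.ProjectiveSpecialLinearGroup (Fin 3) K)) ∨
    (∃ (K : Type) (_ : Field K) (_ : Fintype K) (β : ℕ), Fintype.card K = p ^ (2 * β) ∧ 2 * β ∣ α ∧ Nonempty (↥H ≃* Cfsg.PSU 3 K (p ^ β))) ∨
    (∃ (K : Type) (_ : Field K) (_ : Fintype K) (β : ℕ), Fintype.card K = p ^ β ∧ 3 ∣ p ^ β - 1 ∧ 3 * β ∣ α ∧ ∃ L : Subgroup ↥H, L.index = 3 ∧ Nonempty (↥L ≃* Matrix.ProjectiveSpecialLinearGroup (Fin 3) K)) ∨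
    (∃ (K : Type) (_ : Field K) (_ : Fintype K) (β : ℕ), Fintype.card K = p ^ (2 * β) ∧ 3 ∣ p ^ β + 1 ∧ 6 * β ∣ α ∧ ∃ L : Subgroup ↥H, L.index = 3 ∧ Nonempty (↥L ≃* Cfsg.PSU 3 K (p ^ β))) := by
  classical
  haveI : CharP F p := charP_of_card_eq_prime_pow hF
  have h2 : (2 : F) ≠ 0 := fun e => hp ((Nat.prime_dvd_prime_iff_eq Fact.out Nat.prime_two).1
    ((CharP.cast_eq_zero_iff F p 2).1 (by exact_mod_cast e)))
  set Γ := H.comap pr with hΓ
  set Δ := Subgroup.closure (tvs Γ) with hΔ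
  have hle : Δ ≤ Γ := (Subgroup.closure_le _).2 fun g hg => hg.1
  have hgen : Δ = Subgroup.closure (tvs Δ) := by
    refine le_antisymm ((Subgroup.closure_le _).2 fun g hg => Subgroup.subset_closure ?_)
      ((Subgroup.closure_le _).2 fun g hg => hg.1)
    exact ⟨Subgroup.subset_closure hg, hg.2⟩
  have hnorm : ∀ g ∈ Γ, ∀ n ∈ Δ, g * n * g⁻¹ ∈ Δ := by
    intro g hg n hn
    induction hn using Subgroup.closure_induction with
    | mem x hx =>
      obtain ⟨hxΓ, v, φ, hv, hφ, hi, e⟩ := hx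
      obtain ⟨hi', y, hy, ey⟩ := (show InT Γ v φ from ⟨hi, x, hxΓ, e⟩).conj hg
      refine Subgroup.subset_closure ⟨mul_mem (mul_mem hg hxΓ) (inv_mem hg), (g : M₃) *ᵥ v,
        φ ᵥ* ((g⁻¹ : SL₃) : M₃), fun h0 => hv ?_, fun h0 => hφ ?_, hi', ?_⟩
      · have := congrArg (((g⁻¹ : SL₃) : M₃) *ᵥ ·) h0
        simp only [mulVec_mulVec, ← Matrix.SpecialLinearGroup.coe_mul, mul_inv_cancel, inv_mul_cancel,
          Matrix.SpecialLinearGroup.coe_one, one_mulVec, mulVec_zero] at this
        exact this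
      · have := congrArg (· ᵥ* (g : M₃)) h0
        simp only [vecMul_vecMul, ← Matrix.SpecialLinearGroup.coe_mul, mul_inv_cancel, inv_mul_cancel,
          Matrix.SpecialLinearGroup.coe_one, vecMul_one, zero_vecMul] at this
        exact this
      · rw [Matrix.SpecialLinearGroup.coe_mul, Matrix.SpecialLinearGroup.coe_mul, e, mul_add, add_mul, mul_one,
          ← Matrix.SpecialLinearGroup.coe_mul, mul_inv_cancel, Matrix.SpecialLinearGroup.coe_one, mul_vecMulVec,
          vecMulVec_mul]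
    | one => simp
    | mul a b _ _ ha hb =>
      rw [show g * (a * b) * g⁻¹ = (g * a * g⁻¹) * (g * b * g⁻¹) by group]
      exact mul_mem ha hb
    | inv a _ ha =>
      rw [show g * a⁻¹ * g⁻¹ = (g * a * g⁻¹)⁻¹ by group]
      exact inv_mem ha
  obtain ⟨D, hD⟩ := generated_main h2 hgen (irr_closure_tvs hirr htv)
  set H' := H.map (pslConj D).toMonoidHom with hH'
  let eH : H ≃* H' := H.equivMapOfInjective _ (pslConj D).injective
  have hN : ∀ g ∈ moveGL D Δ, pr g ∈ H' := fun g hg => by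
    have : g ∈ moveGL D Γ := Subgroup.map_mono hle hg
    rwa [← comap_map_pslConj] at this
  have hnorm' : ∀ g : SL₃, pr g ∈ H' → ∀ n ∈ moveGL D Δ, g * n * g⁻¹ ∈ moveGL D Δ := by
    intro g hg n hn
    have hg' : g ∈ moveGL D Γ := by rw [← comap_map_pslConj]; exact hg
    obtain ⟨g', hg'', rfl⟩ := mem_moveGL.1 hg'
    obtain ⟨n', hn', rfl⟩ := mem_moveGL.1 hn
    exact mem_moveGL.2 ⟨_, hnorm g' hg'' n' hn', by rw [map_mul, map_mul, map_inv]⟩
  haveI : Fintype H := Fintype.ofFinite H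
  rcases hD with ⟨L, hL⟩ | ⟨M, r, hM, hU⟩
  · rw [hL] at hN hnorm'
    obtain ⟨β, hβ1, hβ⟩ := natCard_eq_pow p L
    haveI : Fintype (GaloisField p β) := Fintype.ofFinite _
    have hK : Fintype.card (GaloisField p β) = p ^ β := by
      rw [← Nat.card_eq_fintype_card, GaloisField.card p β (by omega)]
    let e : L ≃+* GaloisField p β := FiniteField.ringEquivOfCardEq (K := L) (K' := GaloisField p β)
      (by rw [← Nat.card_eq_fintype_card, hβ, hK])
    obtain ⟨eP⟩ := Cfsg.Agent.Block.OrdP.psl_congr' (n := 3) e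
    have hUc : Nat.card (linearModel L).U = p ^ β - 1 := by rw [← hβ]; exact card_unitsOf L
    rcases (linearModel L).cases_index (H := H') (Matrix.SpecialLinearGroup.map (n := Fin 3) L.subtype)
      (slOver_equiv L) rfl hN (fun g hg => linear_form L g (hnorm' g hg)) with e' | ⟨h3, ⟨N, hN3, ⟨eN⟩⟩, c, u, hu, hcu, hnc⟩
    · obtain ⟨e'⟩ := e'
      exact Or.inl ⟨GaloisField p β, inferInstance, inferInstance, β, hK, degree_dvd hF L hβ,
        ⟨eH.trans (e'.trans eP)⟩⟩
    · rw [hUc] at h3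
      refine Or.inr (Or.inr (Or.inl ⟨GaloisField p β, inferInstance, inferInstance, β, hK, h3, ?_, ?_⟩))
      · have hu' : (u : F) ∈ L := hu
        refine degree_three hβ1 hF L hβ (by rwa [hβ]) (by rwa [hcu]) fun hcL => ?_
        have hc0 : c ≠ 0 := fun e0 => u.ne_zero (by rw [← hcu, e0, zero_pow three_ne_zero])
        exact hnc (Units.mk0 c hc0) hcL (Units.ext (by simpa using hcu))
      · refine ⟨N.comap eH.toMonoidHom, ?_, ⟨((comapEquiv eH N).trans eN).trans eP⟩⟩
        rw [Subgroup.index_comap_of_surjective _ eH.surjective, hN3]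
  · rw [hU] at hN hnorm'
    obtain ⟨d, hd1, hd⟩ := natCard_eq_pow p M
    obtain ⟨β, hβr⟩ : ∃ β, r = p ^ β := by
      have : r ∣ p ^ d := hd ▸ hM ▸ dvd_pow_self r two_ne_zero
      obtain ⟨β, -, hβ⟩ := (Nat.dvd_prime_pow Fact.out).1 this
      exact ⟨β, hβ⟩
    have hMβ : Nat.card M = p ^ (2 * β) := by rw [hM, hβr, ← pow_mul, mul_comm]
    have hβ1 : 1 ≤ β := by
      rcases Nat.eq_zero_or_pos β with e | e
      · subst e
        have := Finite.one_lt_card (α := M)
        rw [hMβ] at this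
        simp at this
      · exact e
    have hr : 2 ≤ r := hβr ▸ (Nat.Prime.two_le Fact.out).trans (Nat.le_self_pow (by omega) p)
    obtain ⟨σ, hσ, hss⟩ := exists_sigma (F := F) (M := M) (p := p) hβr
    have hss' := hss hM
    haveI : Fintype (GaloisField p (2 * β)) := Fintype.ofFinite _
    have hK : Fintype.card (GaloisField p (2 * β)) = p ^ (2 * β) := by
      rw [← Nat.card_eq_fintype_card, GaloisField.card p (2 * β) (by omega)]
    let e : M ≃+* GaloisField p (2 * β) := FiniteField.ringEquivOfCardEq (K := M) (K' := GaloisField p (2 * β))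
      (by rw [← Nat.card_eq_fintype_card, hMβ, hK])
    obtain ⟨eP⟩ := Cfsg.Agent.Recog.PguThree.psu_congr 3 r e
    set T := unitaryModel h2 σ hσ hM hss'
    have hUc : Nat.card T.U = p ^ β + 1 := by rw [← hβr]; exact card_normOne hr hM
    let f : Cfsg.SU 3 M r →* SL₃ := (Matrix.SpecialLinearGroup.map M.subtype).comp (Cfsg.SU 3 M r).subtype
    have hf : Function.Injective f := (slOver_equiv M).comp (Cfsg.SU 3 M r).subtype_injective
    have hrange : f.range = UFrame.suOver M r := by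
      rw [MonoidHom.range_comp, Subgroup.range_subtype]; rfl
    rw [hβr] at eP
    rcases T.cases_index (H := H') f hf hrange hN
      (fun g hg => unitary_form h2 hr σ hσ hM hss' g (hnorm' g hg)) with e' | ⟨h3, ⟨N, hN3, ⟨eN⟩⟩, c, u, hu, hcu, hnc⟩
    · obtain ⟨e'⟩ := e'
      subst hβr
      exact Or.inr (Or.inl ⟨GaloisField p (2 * β), inferInstance, inferInstance, β, hK, degree_dvd hF M hMβ,
        ⟨eH.trans (e'.trans eP)⟩⟩)
    · rw [hUc] at h3
      subst hβr
      refine Or.inr (Or.inr (Or.inr ⟨GaloisField p (2 * β), inferInstance, inferInstance, β, hK, h3, ?_, ?_⟩))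
      · obtain ⟨hu1, hu2⟩ : (u : F) ∈ M ∧ u ^ (p ^ β + 1) = 1 := hu
        have hc0 : c ≠ 0 := fun e0 => u.ne_zero (by rw [← hcu, e0, zero_pow three_ne_zero])
        rw [show 6 * β = 3 * (2 * β) by ring]
        refine degree_three (by omega) hF M hMβ ?_ (by rwa [hcu]) fun hcM => ?_
        · rw [hM, ← one_pow 2, Nat.sq_sub_sq]
          exact h3.mul_right _
        · -- the norm of the root is one
          set n := c ^ (p ^ β + 1) with hn
          have hn3 : n ^ 3 = 1 := by
            rw [hn, ← pow_mul, mul_comm, pow_mul, hcu, ← Units.val_pow_eq_pow_val, hu2, Units.val_one]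
          have hnfix : n ^ (p ^ β) = n := by
            rw [hn, ← pow_mul, show (p ^ β + 1) * p ^ β = (p ^ β) ^ 2 + p ^ β by ring, pow_add, ← hM,
              (mem_iff_pow_card M).1 hcM, pow_succ, mul_comm]
          obtain ⟨k, hk⟩ := h3
          have hn1 : n = 1 := by
            have e2 : n ^ 2 = n := by
              conv_rhs => rw [← hnfix]
              rw [show p ^ β = 3 * (k - 1) + 2 by omega, pow_add, pow_mul, hn3, one_pow, one_mul]
            have hn0 : n ≠ 0 := pow_ne_zero _ hc0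
            exact mul_left_cancel₀ hn0 (by rw [← sq, e2, mul_one])
          exact hnc (Units.mk0 c hc0) ⟨hcM, Units.ext (by rw [Units.val_pow_eq_pow_val, Units.val_one]; exact hn1)⟩
            (Units.ext (by simpa using hcu))
      · refine ⟨N.comap eH.toMonoidHom, ?_, ⟨((comapEquiv eH N).trans eN).trans eP⟩⟩
        rw [Subgroup.index_comap_of_surjective _ eH.surjective, hN3]

end Cfsg.Agent.Classical.Bloom
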