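import Cfsg.Agent.Lib.Classical.Bloom.SmallCases
import Cfsg.Agent.Lib.Classical.Bloom.PSLTwoCase
import Cfsg.Agent.Lib.Classical.Bloom.SevenCase
import Cfsg.Agent.Lib.Classical.Bloom.TransvectionCase
import Cfsg.Agent.S0483

/-!
Bloom's list of the subgroups of `PSL(3, q)`, `q` odd, without normal abelian subgroups.
-/

set_option autoImplicit false

namespace Cfsg.Agent.Classical.Bloom

open Matrix

theorem oddCore_bot {M : Type*} [Group M] [Finite M] [IsSimpleGroup M] (heven : Even (Nat.card M)) :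
    Cfsg.oddCore M = ⊥ := by
  haveI hn : (Cfsg.oddCore M).Normal := Grp.pPrimeCore_isNormal
  rcases hn.eq_bot_or_eq_top with h | h
  · exact h
  · exfalso
    have hcop : (Nat.card (Cfsg.oddCore M)).Coprime 2 := Grp.pPrimeCore_coprime
    rw [h, Subgroup.card_top] at hcop
    exact Nat.not_even_iff_odd.2 (Nat.coprime_two_right.1 hcop) heven

variable {F : Type*} [Field F] [Fintype F]

local notation "PSL₃" => Matrix.ProjectiveSpecialLinearGroup (Fin 3) F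

/-- The subgroups without transvections. -/
theorem socle_cases (p α : ℕ) [Fact p.Prime] (hp : p ≠ 2) (hF : Fintype.card F = p ^ α) {H : Subgroup PSL₃}
    (hf : TvFree H.subtype) (hab : NoAb H) (hH : H ≠ ⊥) :
    (∃ (K : Type) (_ : Field K) (_ : Fintype K) (β : ℕ), Fintype.card K = p ^ β ∧ β ∣ α ∧ p ^ β ≠ 3 ∧ (Nonempty (↥H ≃* Matrix.ProjectiveSpecialLinearGroup (Fin 2) K) ∨ Nonempty (↥H ≃* (GL (Fin 2) K ⧸ Subgroup.center (GL (Fin 2) K))))) ∨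
    ((p ^ α % 10 = 1 ∨ p ^ α % 10 = 9) ∧ ∃ (K : Type) (_ : Field K) (_ : Fintype K), Fintype.card K = 5 ∧ Nonempty (↥H ≃* Matrix.ProjectiveSpecialLinearGroup (Fin 2) K)) ∨
    ((p ^ α) ^ 3 % 7 = 1 ∧ ∃ (K : Type) (_ : Field K) (_ : Fintype K), Fintype.card K = 7 ∧ Nonempty (↥H ≃* Matrix.ProjectiveSpecialLinearGroup (Fin 2) K)) ∨
    (p = 5 ∧ Even α ∧ (Nonempty (↥H ≃* ↥(alternatingGroup (Fin 6))) ∨ Nonempty (↥H ≃* ↥(alternatingGroup (Fin 7))) ∨
      ∃ L : Subgroup ↥H, L.index = 2 ∧ Nonempty (↥L ≃* ↥(alternatingGroup (Fin 6))))) ∨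
    ((p ^ α % 30 = 1 ∨ p ^ α % 30 = 19) ∧ Nonempty (↥H ≃* ↥(alternatingGroup (Fin 6)))) := by
  classical
  haveI : CharP F p := charP_of_card_eq_prime_pow hF
  have h2 : (2 : F) ≠ 0 := fun h => hp ((Nat.prime_dvd_prime_iff_eq Fact.out Nat.prime_two).1
    ((CharP.cast_eq_zero_iff F p 2).1 (by exact_mod_cast h)))
  obtain ⟨M, hMn, hs, hnc, heven, -, -, hc⟩ := exists_socle h2 hab hH
  haveI := hMn
  haveI := hs
  obtain ⟨S⟩ : Nonempty (Sylow 2 M) := inferInstance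
  obtain ⟨n, hn, hS⟩ := dihedral_of_tvFree p hp (hf.comp (i := M.subtype) M.subtype_injective) hnc heven S
  haveI : Group.IsPerfect M := ⟨(Subgroup.Normal.eq_bot_or_eq_top inferInstance).resolve_left fun h =>
    hnc ⟨⟨fun a b => commutatorElement_eq_one_iff_mul_comm.1 (Subgroup.mem_bot.1 (h ▸
      Subgroup.commutator_mem_commutator (Subgroup.mem_top a) (Subgroup.mem_top b)))⟩⟩⟩
  rcases Cfsg.Agent.S0483.result S n hn hS with ⟨L, hL, hLf, hodd, h3, ⟨e⟩⟩ | ⟨⟨e⟩⟩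
  · exact psl_two_socle p α hp hF hf M hc hodd h3
      (((QuotientGroup.quotientMulEquivOfEq (oddCore_bot heven)).trans QuotientGroup.quotientBot).symm.trans e)
  · obtain ⟨h5, hα, he⟩ := seven_socle p α hp hF M hc
      (((QuotientGroup.quotientMulEquivOfEq (oddCore_bot heven)).trans QuotientGroup.quotientBot).symm.trans e)
    exact Or.inr (Or.inr (Or.inr (Or.inl ⟨h5, hα, Or.inr (Or.inl he)⟩)))

/-- The classification. -/
theorem bloom (p α : ℕ) [Fact p.Prime] (hp : p ≠ 2) (hF : Fintype.card F = p ^ α) (H : Subgroup PSL₃) (hH : H ≠ ⊥)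
    (hN : ∀ N : Subgroup ↥H, N.Normal → IsMulCommutative ↥N → (∃ r : ℕ, r.Prime ∧ ∀ x ∈ N, x ^ r = 1) → N = ⊥) :
    (∃ (K : Type) (_ : Field K) (_ : Fintype K) (β : ℕ), Fintype.card K = p ^ β ∧ β ∣ α ∧ Nonempty (↥H ≃* Matrix.ProjectiveSpecialLinearGroup (Fin 3) K)) ∨
    (∃ (K : Type) (_ : Field K) (_ : Fintype K) (β : ℕ), Fintype.card K = p ^ (2 * β) ∧ 2 * β ∣ α ∧ Nonempty (↥H ≃* Cfsg.PSU 3 K (p ^ β))) ∨
    (∃ (K : Type) (_ : Field K) (_ : Fintype K) (β : ℕ), Fintype.card K = p ^ β ∧ 3 ∣ p ^ β - 1 ∧ 3 * β ∣ α ∧ ∃ L : Subgroup ↥H, L.index = 3 ∧ Nonempty (↥L ≃* Matrix.ProjectiveSpecialLinearGroup (Fin 3) K)) ∨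
    (∃ (K : Type) (_ : Field K) (_ : Fintype K) (β : ℕ), Fintype.card K = p ^ (2 * β) ∧ 3 ∣ p ^ β + 1 ∧ 6 * β ∣ α ∧ ∃ L : Subgroup ↥H, L.index = 3 ∧ Nonempty (↥L ≃* Cfsg.PSU 3 K (p ^ β))) ∨
    (∃ (K : Type) (_ : Field K) (_ : Fintype K) (β : ℕ), Fintype.card K = p ^ β ∧ β ∣ α ∧ p ^ β ≠ 3 ∧ (Nonempty (↥H ≃* Matrix.ProjectiveSpecialLinearGroup (Fin 2) K) ∨ Nonempty (↥H ≃* (GL (Fin 2) K ⧸ Subgroup.center (GL (Fin 2) K))))) ∨
    ((p ^ α % 10 = 1 ∨ p ^ α % 10 = 9) ∧ ∃ (K : Type) (_ : Field K) (_ : Fintype K), Fintype.card K = 5 ∧ Nonempty (↥H ≃* Matrix.ProjectiveSpecialLinearGroup (Fin 2) K)) ∨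
    ((p ^ α) ^ 3 % 7 = 1 ∧ ∃ (K : Type) (_ : Field K) (_ : Fintype K), Fintype.card K = 7 ∧ Nonempty (↥H ≃* Matrix.ProjectiveSpecialLinearGroup (Fin 2) K)) ∨
    (p = 5 ∧ Even α ∧ (Nonempty (↥H ≃* ↥(alternatingGroup (Fin 6))) ∨ Nonempty (↥H ≃* ↥(alternatingGroup (Fin 7))) ∨
      ∃ L : Subgroup ↥H, L.index = 2 ∧ Nonempty (↥L ≃* ↥(alternatingGroup (Fin 6))))) ∨
    ((p ^ α % 30 = 1 ∨ p ^ α % 30 = 19) ∧ Nonempty (↥H ≃* ↥(alternatingGroup (Fin 6)))) := by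
  classical
  haveI : CharP F p := charP_of_card_eq_prime_pow hF
  have h2 : (2 : F) ≠ 0 := fun h => hp ((Nat.prime_dvd_prime_iff_eq Fact.out Nat.prime_two).1
    ((CharP.cast_eq_zero_iff F p 2).1 (by exact_mod_cast h)))
  have hab : NoAb H := noAb_of hN
  obtain ⟨M, -, -, -, -, -, ⟨E, hE⟩, -⟩ := exists_socle h2 hab hH
  by_cases htv : (tvs (H.comap pr)).Nonempty
  · haveI := hE
    have hE' : IsKleinFour (E.map M.subtype) := by
      let e := E.equivMapOfInjective M.subtype M.subtype_injective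
      exact ⟨(Nat.card_congr e.toEquiv).symm.trans IsKleinFour.card_four,
        (Monoid.exponent_eq_of_mulEquiv e).symm.trans IsKleinFour.exponent_two⟩
    rcases transvection_case hp hF H (irr_comap h2 hab hE') htv with h | h | h | h
    · exact Or.inl h
    · exact Or.inr (Or.inl h)
    · exact Or.inr (Or.inr (Or.inl h))
    · exact Or.inr (Or.inr (Or.inr (Or.inl h)))
  · have hf : TvFree H.subtype := ⟨H.subtype_injective, by rwa [Subgroup.range_subtype]⟩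
    exact Or.inr (Or.inr (Or.inr (Or.inr (socle_cases p α hp hF hf hab hH))))

end Cfsg.Agent.Classical.Bloom
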