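import Cfsg.Agent.Lib.Classical.Bloom.Frame
import Cfsg.Agent.Lib.Classical.SLGroup

/-!
A frame in which the last diagonal entries are rational gives a conjugate of `SL(3, L)`.
-/

set_option autoImplicit false

namespace Cfsg.Agent.Classical.Bloom

open Matrix

variable {F : Type*} [Field F]

local notation "SL₃" => Matrix.SpecialLinearGroup (Fin 3) F
local notation "M₃" => Matrix (Fin 3) (Fin 3) F

/-- The matrices of determinant one with entries in `L`. -/
def slOver (L : Subfield F) : Subgroup SL₃ := (Matrix.SpecialLinearGroup.map (n := Fin 3) L.subtype).range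

theorem mem_slOver {L : Subfield F} {g : SL₃} : g ∈ slOver L ↔ ∀ i j, (g : M₃) i j ∈ L := by
  refine ⟨?_, fun h => ?_⟩
  · rintro ⟨h, rfl⟩ i j
    exact (h.1 i j).2
  · let M : Matrix (Fin 3) (Fin 3) L := Matrix.of fun i j => ⟨(g : M₃) i j, h i j⟩
    have hM : L.subtype.mapMatrix M = (g : M₃) := rfl
    refine ⟨⟨M, L.subtype.injective ?_⟩, Subtype.ext hM⟩
    rw [RingHom.map_det, map_one, hM, g.2]

namespace Frame

variable {Γ : Subgroup (Matrix.SpecialLinearGroup (Fin 3) F)} {L : Subfield F}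
  {v φ : Fin 3 → F}

theorem hdot (u : Fin 3 → F) (x y z : F) : u ⬝ᵥ ![x, y, z] = u 0 * x + u 1 * y + u 2 * z := by
  simp [dotProduct, Fin.sum_univ_three]

theorem hdot' (u : Fin 3 → F) (x y z : F) : ![x, y, z] ⬝ᵥ u = x * u 0 + y * u 1 + z * u 2 := by
  simp [dotProduct, Fin.sum_univ_three]

/-- The upper block is rational. -/
theorem block_rat [Fintype F] (K : Frame Γ L) (hb : ∀ v φ, InT Γ v φ → φ 2 * v 2 ∈ L) (h : InT Γ v φ) :
    ∀ i j : Fin 3, i ≠ 2 → j ≠ 2 → φ j * v i ∈ L := by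
  obtain ⟨h1, h2, h3⟩ := K.block_mem h
  have h4 : φ 0 * v 0 + φ 1 * v 1 ∈ L := by
    have hi : φ 0 * v 0 + φ 1 * v 1 + φ 2 * v 2 = 0 := by
      simpa [dotProduct, Fin.sum_univ_three] using h.incident
    rw [show φ 0 * v 0 + φ 1 * v 1 = -(φ 2 * v 2) by linear_combination hi]
    exact L.neg_mem (hb v φ h)
  have h2' : (2 : F) ∈ L := by simpa using L.add_mem L.one_mem L.one_mem |>.trans_eq' (one_add_one_eq_two).symm
  intro i j hi hj
  fin_cases i <;> fin_cases j <;> simp at hi hj ⊢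
  · rw [show φ 0 * v 0 = (φ 0 * v 0 - φ 1 * v 1 + (φ 0 * v 0 + φ 1 * v 1)) / 2 by
      have := K.two; field_simp; ring]
    exact L.div_mem (L.add_mem h3 h4) h2'
  · exact h2
  · exact h1
  · rw [show φ 1 * v 1 = ((φ 0 * v 0 + φ 1 * v 1) - (φ 0 * v 0 - φ 1 * v 1)) / 2 by
      have := K.two; field_simp; ring]
    exact L.div_mem (L.sub_mem h4 h3) h2'

/-- A translation exists. -/
theorem exists_row [Fintype F] (K : Frame Γ L) (hb : ∀ v φ, InT Γ v φ → φ 2 * v 2 ∈ L) :
    ∃ χ : Fin 3 → F, InT Γ ![0, 0, 1] χ ∧ χ 2 = 0 ∧ χ ≠ 0 := by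
  obtain ⟨v, φ, h, hφ, hv2⟩ := exists_center_off K.gen K.irr (χ := ![0, 0, 1]) (by simp)
  replace hv2 : v 2 ≠ 0 := by simpa [dotProduct, Fin.sum_univ_three] using hv2
  have hi : φ 0 * v 0 + φ 1 * v 1 + φ 2 * v 2 = 0 := by
    simpa [dotProduct, Fin.sum_univ_three] using h.incident
  by_cases hv : v 0 = 0 ∧ v 1 = 0
  · have hφ2 : φ 2 = 0 := by
      rw [hv.1, hv.2] at hi
      simpa [hv2] using hi
    refine ⟨v 2 • φ, InT.of_scalar_left ?_ hv2, by simp [hφ2], smul_ne_zero hv2 hφ⟩
    convert h using 1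
    funext i; fin_cases i <;> simp [hv.1, hv.2]
  obtain ⟨i, hi2, hφi⟩ : ∃ i : Fin 3, i ≠ 2 ∧ φ i ≠ 0 := by
    by_contra! h0
    have h0' := h0 0 (by decide)
    have h1' := h0 1 (by decide)
    rw [h0', h1'] at hi
    simp [hv2] at hi
    exact hφ (funext fun j => by fin_cases j <;> assumption)
  have hM := K.block_rat hb h
  set a := φ i * v 0 with ha
  set b := φ i * v 1 with hb'
  have haL : a ∈ L := hM 0 i (by decide) hi2
  have hbL : b ∈ L := hM 1 i (by decide) hi2
  set k := -(φ 2 * v 2) with hk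
  have h' : InT Γ (φ i • v) ((φ i)⁻¹ • φ) := h.smul_comm (mul_inv_cancel₀ hφi)
  have hδ : ![-b, a, 0] ≠ (0 : Fin 3 → F) := fun e => hv ⟨by
    have := congrFun e 1; simpa [ha, hφi] using this, by
    have := congrFun e 0; simpa [hb', hφi] using this⟩
  -- the transvections with centre `φ i • v` and with centre `(a, b, 0)` share an axis
  obtain ⟨c, hc, hc0, hcv⟩ : ∃ c ∈ L, c ≠ 0 ∧ InT Γ (φ i • v) (c • ![-b, a, 0]) := by
    rcases eq_or_ne (φ 2) 0 with hφ2 | hφ2
    · have h0 : φ 0 * v 0 + φ 1 * v 1 = 0 := by rw [hφ2] at hi; linear_combination hi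
      obtain ⟨m, hm2, hvm⟩ : ∃ m : Fin 3, m ≠ 2 ∧ v m ≠ 0 := by
        by_contra! h0
        exact hv ⟨h0 0 (by decide), h0 1 (by decide)⟩
      have hq : ∀ j : Fin 3, j ≠ 2 → φ j / φ i ∈ L := fun j hj => by
        rw [show φ j / φ i = (φ j * v m) / (φ i * v m) by field_simp]
        exact L.div_mem (hM m j hm2 hj) (hM m i hm2 hi2)
      rcases eq_or_ne a 0 with ha0 | ha0
      · have hv0 : v 0 = 0 := (mul_eq_zero.1 ha0).resolve_left hφi
        have hv1 : v 1 ≠ 0 := fun e => hv ⟨hv0, e⟩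
        rw [hv0] at h0
        have hφ1 : φ 1 = 0 := by simpa [hv1] using h0
        have hφ0 : φ 0 ≠ 0 := fun e => hφ (funext fun j => by fin_cases j <;> assumption)
        have hb0 : b ≠ 0 := mul_ne_zero hφi hv1
        refine ⟨-(φ 0 / φ i) / b, L.div_mem (L.neg_mem (hq 0 (by decide))) hbL,
          div_ne_zero (neg_ne_zero.2 (div_ne_zero hφ0 hφi)) hb0, ?_⟩
        convert h' using 1
        funext j; fin_cases j <;> simp [ha0, hφ1, hφ2] <;> field_simp
      · refine ⟨φ 1 / φ i / a, L.div_mem (hq 1 (by decide)) haL, fun e => ?_, ?_⟩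
        · have hφ1 : φ 1 = 0 := by simpa [hφi, ha0] using e
          have hv0 : v 0 ≠ 0 := right_ne_zero_of_mul ha0
          rw [hφ1] at h0
          have hφ0 : φ 0 = 0 := by simpa [hv0] using h0
          exact hφ (funext fun j => by fin_cases j <;> assumption)
        · convert h' using 1
          funext j; fin_cases j <;> simp [hφ2]
          · field_simp; rw [hb', ha]; linear_combination -(φ i) * h0
          · field_simp
    · refine ⟨k, L.neg_mem (hb v φ h), neg_ne_zero.2 (mul_ne_zero hφ2 hv2), ?_⟩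
      have hroot := K.root_one haL hbL
      have h1 := (h'.conj_fix hroot (by
        rw [hdot']; simp only [Pi.smul_apply, smul_eq_mul, ha, hb']; ring)).neg_right.add_right h'
      convert h1 using 1
      rw [hdot]
      simp only [Pi.smul_apply, smul_eq_mul]
      rw [show (φ i)⁻¹ * φ 0 * a + (φ i)⁻¹ * φ 1 * b + (φ i)⁻¹ * φ 2 * 0 = k by
        rw [ha, hb', hk]; field_simp; linear_combination (φ i) * hi]
      module
  have h2 := (K.root haL hbL c hc).neg_left.add_left hcv
  have hne : φ i * v 2 ≠ 0 := mul_ne_zero hφi hv2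
  refine ⟨(φ i * v 2) • c • ![-b, a, 0], InT.of_scalar_left ?_ hne, by simp, smul_ne_zero hne (smul_ne_zero hc0 hδ)⟩
  convert h2 using 1
  funext j; fin_cases j <;> simp [ha, hb']

/-- With one translation all multiples of a row are present. -/
theorem exists_row_full (K : Frame Γ L) {χ : Fin 3 → F} (hχ : InT Γ ![0, 0, 1] χ) (hχ2 : χ 2 = 0) (hχ0 : χ ≠ 0) :
    ∃ k : F, k ≠ 0 ∧ ∀ c ∈ L, InT Γ ![0, 0, 1] ![k * c, 0, 0] ∧ InT Γ ![0, 0, 1] ![0, k * c, 0] := by
  have step1 : ∀ η : Fin 3 → F, InT Γ ![0, 0, 1] η → η 2 = 0 → ∀ c ∈ L, InT Γ ![0, 0, 1] ![0, η 0 * c, 0] := by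
    intro η hη hη2 c hc
    have h := (hη.conj_fix (K.upper c hc) (by simp [hdot, hdot'])).neg_right.add_right hη
    convert h using 1 <;> (funext j; fin_cases j <;> simp [dotProduct, Fin.sum_univ_three, vecHead, vecTail] <;> ring)
  have step2 : ∀ η : Fin 3 → F, InT Γ ![0, 0, 1] η → η 2 = 0 → ∀ c ∈ L, InT Γ ![0, 0, 1] ![η 1 * c, 0, 0] := by
    intro η hη hη2 c hc
    have h := (hη.conj_fix (K.lower c hc) (by simp [hdot, hdot'])).neg_right.add_right hη
    convert h using 1 <;> (funext j; fin_cases j <;> simp [dotProduct, Fin.sum_univ_three, vecHead, vecTail] <;> ring)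
  have main : ∀ η : Fin 3 → F, InT Γ ![0, 0, 1] η → η 2 = 0 → η 0 ≠ 0 →
      ∃ k : F, k ≠ 0 ∧ ∀ c ∈ L, InT Γ ![0, 0, 1] ![k * c, 0, 0] ∧ InT Γ ![0, 0, 1] ![0, k * c, 0] := by
    intro η hη hη2 h0
    refine ⟨η 0, h0, fun c hc => ⟨?_, step1 η hη hη2 c hc⟩⟩
    simpa using step2 _ (step1 η hη hη2 c hc) (by simp) 1 L.one_mem
  rcases eq_or_ne (χ 0) 0 with h0 | h0
  · have h1 : χ 1 ≠ 0 := fun e => hχ0 (funext fun j => by fin_cases j <;> assumption)
    exact main _ (step2 χ hχ hχ2 1 L.one_mem) (by simp) (by simpa using h1)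
  · exact main χ hχ hχ2 h0

/-- The rational case. -/
theorem rational_main [Fintype F] (K : Frame Γ L) (hb : ∀ v φ, InT Γ v φ → φ 2 * v 2 ∈ L) :
    ∃ D : GL (Fin 3) F, moveGL D Γ = slOver L := by
  obtain ⟨χ, hχ, hχ2, hχ0⟩ := K.exists_row hb
  obtain ⟨k, hk, hrow⟩ := K.exists_row_full hχ hχ2 hχ0
  obtain ⟨ξ, hξ, hξ2, hξ0⟩ := K.dual.exists_row (fun v φ h => by rw [mul_comm]; exact hb φ v h.of_dual)
  obtain ⟨l, hl, hcol'⟩ := K.dual.exists_row_full hξ hξ2 hξ0
  have hcol : ∀ c ∈ L, InT Γ ![l * c, 0, 0] ![0, 0, 1] ∧ InT Γ ![0, l * c, 0] ![0, 0, 1] := fun c hc =>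
    ⟨(hcol' c hc).1.of_dual, (hcol' c hc).2.of_dual⟩
  have hkl : k * l ∈ L := by
    have := K.line (w := ![0, 0, 1]) (ψ := ![k, 0, 0])
      (fun c hc => by simpa [mul_comm] using (hrow c hc).1) (hcol 1 L.one_mem).1
    simpa [hdot, hdot'] using this
  have hkl0 : k * l ≠ 0 := mul_ne_zero hk hl
  -- the entries of a transvection
  have hent : ∀ v φ, InT Γ v φ → φ 2 * v 0 * k ∈ L ∧ φ 2 * v 1 * k ∈ L ∧ φ 0 * v 2 / k ∈ L ∧ φ 1 * v 2 / k ∈ L := by
    intro v φ h
    have e1 := K.line (w := ![0, 0, 1]) (ψ := ![k, 0, 0]) (fun c hc => by simpa [mul_comm] using (hrow c hc).1) h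
    have e2 := K.line (w := ![0, 0, 1]) (ψ := ![0, k, 0]) (fun c hc => by simpa [mul_comm] using (hrow c hc).2) h
    have e3 := K.line (w := ![l, 0, 0]) (ψ := ![0, 0, 1]) (fun c hc => by
      have := (hcol c hc).1
      rcases eq_or_ne c 0 with rfl | hc0
      · simpa using inT_zero_right Γ ![l, 0, 0]
      · refine InT.of_scalar_left ?_ hc0
        simpa [mul_comm] using this) h
    have e4 := K.line (w := ![0, l, 0]) (ψ := ![0, 0, 1]) (fun c hc => by
      have := (hcol c hc).2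
      rcases eq_or_ne c 0 with rfl | hc0
      · simpa using inT_zero_right Γ ![0, l, 0]
      · refine InT.of_scalar_left ?_ hc0
        simpa [mul_comm] using this) h
    simp only [hdot, hdot', mul_zero, zero_mul, add_zero, zero_add, mul_one, one_mul] at e1 e2 e3 e4
    refine ⟨?_, ?_, ?_, ?_⟩
    · convert e1 using 1; ring
    · convert e2 using 1; ring
    · rw [show φ 0 * v 2 / k = φ 0 * l * v 2 / (k * l) by field_simp]; exact L.div_mem e3 hkl
    · rw [show φ 1 * v 2 / k = φ 1 * l * v 2 / (k * l) by field_simp]; exact L.div_mem e4 hkl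
  let D : GL (Fin 3) F := Matrix.GeneralLinearGroup.mkOfDetNeZero (Matrix.diagonal ![1, 1, k⁻¹])
    (by simp [Fin.prod_univ_three, hk])
  have hD : (D : M₃) = Matrix.diagonal ![1, 1, k⁻¹] := rfl
  have hD' : ((D⁻¹ : GL (Fin 3) F) : M₃) = Matrix.diagonal ![1, 1, k] := by
    rw [Matrix.coe_units_inv]
    refine Matrix.inv_eq_right_inv ?_
    rw [hD, diagonal_mul_diagonal, ← diagonal_one]
    congr 1
    funext j; fin_cases j <;> simp [hk]
  refine ⟨D, le_antisymm ?_ ?_⟩
  · rw [tvs_moveGL_gen D K.gen, Subgroup.closure_le]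
    rintro g ⟨hg, v, φ, -, -, hi, e⟩
    have h : InT (moveGL D Γ) v φ := ⟨hi, g, hg, e⟩
    have h' := h.of_moveGL
    have hM := K.block_rat hb h'
    obtain ⟨e1, e2, e3, e4⟩ := hent _ _ h'
    have hbb := hb _ _ h'
    have hM00 := hM 0 0 (by decide) (by decide)
    have hM01 := hM 0 1 (by decide) (by decide)
    have hM10 := hM 1 0 (by decide) (by decide)
    have hM11 := hM 1 1 (by decide) (by decide)
    simp only [hD, hD', mulVec_diagonal, vecMul_diagonal, Matrix.cons_val_zero, Matrix.cons_val_one,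
      Matrix.cons_val] at e1 e2 e3 e4 hM00 hM01 hM10 hM11 hbb
    refine mem_slOver.2 fun i j => ?_
    rw [e, Matrix.add_apply, vecMulVec_apply]
    refine L.add_mem (by rw [Matrix.one_apply]; split_ifs <;> [exact L.one_mem; exact L.zero_mem]) ?_
    fin_cases i <;> fin_cases j <;> simp only [Fin.zero_eta, Fin.mk_one, Fin.reduceFinMk]
    · convert hM00 using 1; ring
    · convert hM01 using 1; ring
    · convert e1 using 1; field_simp
    · convert hM10 using 1; ring
    · convert hM11 using 1; ring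
    · convert e2 using 1; field_simp
    · convert e3 using 1; field_simp
    · convert e4 using 1; field_simp
    · convert hbb using 1; field_simp
  · rw [slOver, MonoidHom.range_eq_map, ← SL_closure_transvections, MonoidHom.map_closure, Subgroup.closure_le]
    rintro _ ⟨_, ⟨⟨i, j, hij, c⟩, rfl⟩, rfl⟩
    have key : ∀ (v φ : Fin 3 → F), InT Γ v φ →
        (vecMulVec ((D : M₃) *ᵥ v) (φ ᵥ* ((D⁻¹ : GL (Fin 3) F) : M₃))) = Matrix.single i j (c : F) →
        Matrix.SpecialLinearGroup.map L.subtype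
          (Matrix.TransvectionStruct.toSpecialLinearGroup ⟨i, j, hij, c⟩) ∈ moveGL D Γ := by
      intro v φ h e
      obtain ⟨-, g, hg, eg⟩ := h.moveGL D
      convert hg using 1
      refine Subtype.ext ?_
      rw [eg, e]
      ext a b
      show L.subtype ((1 + Matrix.single i j c : Matrix (Fin 3) (Fin 3) L) a b) =
        ((1 : M₃) + Matrix.single i j (c : F)) a b
      rw [Matrix.add_apply, Matrix.add_apply, map_add]
      simp only [Matrix.one_apply, Matrix.single_apply]
      split_ifs <;> simp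
    have hc := c.2
    fin_cases i <;> fin_cases j
    · exact absurd rfl hij
    · refine key _ _ (K.upper (c : F) hc) ?_
      ext a b; fin_cases a <;> fin_cases b <;>
        simp [hD, hD', mulVec_diagonal, vecMul_diagonal, vecMulVec_apply, Matrix.single]
    · refine key _ _ (hcol ((c : F) / (k * l)) (L.div_mem hc hkl)).1 ?_
      ext a b; fin_cases a <;> fin_cases b <;>
        simp [hD, hD', mulVec_diagonal, vecMul_diagonal, vecMulVec_apply, Matrix.single]
      field_simp
    · refine key _ _ (K.lower (c : F) hc) ?_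
      ext a b; fin_cases a <;> fin_cases b <;>
        simp [hD, hD', mulVec_diagonal, vecMul_diagonal, vecMulVec_apply, Matrix.single]
    · exact absurd rfl hij
    · refine key _ _ (hcol ((c : F) / (k * l)) (L.div_mem hc hkl)).2 ?_
      ext a b; fin_cases a <;> fin_cases b <;>
        simp [hD, hD', mulVec_diagonal, vecMul_diagonal, vecMulVec_apply, Matrix.single]
      field_simp
    · refine key _ _ (hrow (c : F) hc).1 ?_
      ext a b; fin_cases a <;> fin_cases b <;>
        simp [hD, hD', mulVec_diagonal, vecMul_diagonal, vecMulVec_apply, Matrix.single, hk]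
    · refine key _ _ (hrow (c : F) hc).2 ?_
      ext a b; fin_cases a <;> fin_cases b <;>
        simp [hD, hD', mulVec_diagonal, vecMul_diagonal, vecMulVec_apply, Matrix.single, hk]
    · exact absurd rfl hij

end Frame

end Cfsg.Agent.Classical.Bloom
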