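import Cfsg.Agent.Lib.Classical.Bloom.Rational
import Cfsg.Agent.Lib.Classical.NormalForms
import Cfsg.Agent.S0780

/-!
A frame with an irrational last diagonal entry gives a conjugate of `SU(3, r)`.
-/

set_option autoImplicit false

namespace Cfsg.Agent.Classical.Bloom

open Matrix

variable {F : Type*} [Field F]

local notation "SL₃" => Matrix.SpecialLinearGroup (Fin 3) F
local notation "M₃" => Matrix (Fin 3) (Fin 3) F

/-- A frame with a second transvection in normal form. -/
structure UFrame (Γ : Subgroup SL₃) (L : Subfield F) : Type _ where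
  frame : Frame Γ L
  σ : F →+* F
  hσ : ∀ x, σ x = x ^ Nat.card L
  z : F
  z_two : σ (σ z) = z
  z_ne : σ z ≠ z
  A : F
  A_mem : A ∈ L
  A_ne : A ≠ 0
  tau : InT Γ ![z, 1, 1] ![A, -(A * σ z), -(A * (z - σ z))]

theorem det_mem {M : Subfield F} {A : M₃} (h : ∀ i j, A i j ∈ M) : A.det ∈ M := by
  rw [det_apply']
  exact M.sum_mem fun σ _ => M.mul_mem (intCast_mem M _) (M.prod_mem fun i _ => h _ _)

theorem adjugate_mem {M : Subfield F} {A : M₃} (h : ∀ i j, A i j ∈ M) (i j : Fin 3) : A.adjugate i j ∈ M := by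
  rw [adjugate_apply]
  refine det_mem fun a b => ?_
  rw [updateRow_apply]
  split_ifs
  · rw [Pi.single_apply]; split_ifs <;> [exact M.one_mem; exact M.zero_mem]
  · exact h a b

namespace UFrame

variable {Γ : Subgroup (Matrix.SpecialLinearGroup (Fin 3) F)} {L : Subfield F}

section Basic

variable [Fintype F] (U : UFrame Γ L)

/-- The skew element. -/
def δ : F := U.z - U.σ U.z

theorem δ_ne : U.δ ≠ 0 := sub_ne_zero.2 (Ne.symm U.z_ne)

theorem σ_δ : U.σ U.δ = -U.δ := by rw [δ, map_sub, U.z_two]; ring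

theorem fix_iff {x : F} : U.σ x = x ↔ x ∈ L := by rw [U.hσ, mem_iff_pow_card]

theorem σ_of_mem {x : F} (h : x ∈ L) : U.σ x = x := U.fix_iff.2 h

/-- The field of definition. -/
def big : Subfield F := RingHom.eqLocusField (U.σ.comp U.σ) (RingHom.id F)

theorem mem_big {x : F} : x ∈ U.big ↔ U.σ (U.σ x) = x := Iff.rfl

theorem le_big : L ≤ U.big := fun x hx => by rw [mem_big, U.σ_of_mem hx, U.σ_of_mem hx]

theorem card_big : Nat.card U.big = Nat.card L ^ 2 := by
  classical
  refine le_antisymm ?_ ?_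
  · have h2 : 1 < Nat.card L ^ 2 := one_lt_pow₀ Finite.one_lt_card two_ne_zero
    set P : Polynomial F := Polynomial.X ^ (Nat.card L ^ 2) - Polynomial.X with hP
    have hP0 : P ≠ 0 := FiniteField.X_pow_card_sub_X_ne_zero F h2
    rw [Nat.card_eq_fintype_card, Fintype.card_subtype]
    refine le_trans (Finset.card_le_card (t := P.roots.toFinset) fun y hy => ?_)
      ((Multiset.toFinset_card_le _).trans ((Polynomial.card_roots' P).trans
        (FiniteField.X_pow_card_sub_X_natDegree_eq F h2).le))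
    rw [Finset.mem_filter] at hy
    have hy2 : U.σ (U.σ y) = y := hy.2
    rw [U.hσ, U.hσ, ← pow_mul, ← sq] at hy2
    rw [Multiset.mem_toFinset, Polynomial.mem_roots hP0, Polynomial.IsRoot, hP]
    simp [sub_eq_zero, ← Nat.card_eq_fintype_card, hy2]
  · have hinj : Function.Injective (fun p : L × L => (⟨(p.1 : F) + (p.2 : F) * U.z,
        U.big.add_mem (U.le_big p.1.2) (U.big.mul_mem (U.le_big p.2.2) U.z_two)⟩ : U.big)) := by
      rintro ⟨a, b⟩ ⟨a', b'⟩ e
      have e1 : (a : F) + b * U.z = a' + b' * U.z := congrArg Subtype.val e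
      have e2 := congrArg U.σ e1
      simp only [map_add, map_mul, U.σ_of_mem a.2, U.σ_of_mem b.2, U.σ_of_mem a'.2, U.σ_of_mem b'.2] at e2
      have hb : (b : F) = b' := by
        have := sub_eq_zero.1 (show ((b : F) - b') * U.z - ((b : F) - b') * U.σ U.z = 0 by linear_combination e1 - e2)
        by_contra hb
        exact U.z_ne (mul_left_cancel₀ (sub_ne_zero.2 hb) this).symm
      rw [hb] at e1
      simp only [Prod.mk.injEq, Subtype.ext_iff]
      exact ⟨add_right_cancel e1, hb⟩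
    calc Nat.card L ^ 2 = Nat.card (L × L) := by rw [Nat.card_prod, sq]
      _ ≤ _ := Nat.card_le_card_of_injective _ hinj

/-- The axis belonging to a centre. -/
def ax (v : Fin 3 → F) : Fin 3 → F := ![U.σ (v 1), -U.σ (v 0), -(U.δ * U.σ (v 2))]

/-- The form. -/
def hf (v w : Fin 3 → F) : F := v 0 * U.σ (w 1) - v 1 * U.σ (w 0) - U.δ * (v 2 * U.σ (w 2))

theorem ax_dot (v x : Fin 3 → F) : U.ax v ⬝ᵥ x = U.hf x v := by
  simp [ax, hf, dotProduct, Fin.sum_univ_three]; ring

include U in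
/-- The block matrices with rational entries. -/
theorem sl2_mem {a b c d : F} (ha : a ∈ L) (hb : b ∈ L) (hc : c ∈ L) (hd : d ∈ L) (hdet : a * d - b * c = 1) :
    ∃ g ∈ Γ, (g : M₃) = blk a b c d ∧ ((g⁻¹ : SL₃) : M₃) = blk d (-b) (-c) a := by
  let toM : Matrix.SpecialLinearGroup (Fin 2) L → M₃ := fun g => blk (g.1 0 0 : F) (g.1 0 1) (g.1 1 0) (g.1 1 1)
  have hmul : ∀ g h, toM (g * h) = toM g * toM h := fun g h => by
    simp only [toM, blk_mul, Matrix.SpecialLinearGroup.coe_mul]
    refine blk_congr ?_ ?_ ?_ ?_ <;> simp [Matrix.mul_apply, Fin.sum_univ_two]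
  have h1 : toM 1 = 1 := by simp [toM, blk_one]
  have hmem : ∀ g, ∃ y ∈ Γ, (y : M₃) = toM g := by
    intro g
    have hg : g ∈ Subgroup.closure (Set.range (Matrix.TransvectionStruct.toSpecialLinearGroup :
        Matrix.TransvectionStruct (Fin 2) L → Matrix.SpecialLinearGroup (Fin 2) L)) := by
      rw [SL_closure_transvections]
      exact Subgroup.mem_top g
    induction hg using Subgroup.closure_induction with
    | mem x hx =>
      obtain ⟨⟨i, j, hij, e⟩, rfl⟩ := hx
      fin_cases i <;> fin_cases j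
      · exact absurd rfl hij
      · obtain ⟨-, y, hy, ey⟩ := U.frame.upper (e : F) e.2
        refine ⟨y, hy, ey.trans ?_⟩
        ext s t; fin_cases s <;> fin_cases t <;>
          simp [toM, blk, vecMulVec_apply, Matrix.SpecialLinearGroup.transvection, Matrix.transvection,
            Matrix.TransvectionStruct.toSpecialLinearGroup]
      · obtain ⟨-, y, hy, ey⟩ := U.frame.lower (e : F) e.2
        refine ⟨y, hy, ey.trans ?_⟩
        ext s t; fin_cases s <;> fin_cases t <;>
          simp [toM, blk, vecMulVec_apply, Matrix.SpecialLinearGroup.transvection, Matrix.transvection,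
            Matrix.TransvectionStruct.toSpecialLinearGroup]
      · exact absurd rfl hij
    | one => exact ⟨1, one_mem Γ, by rw [h1, Matrix.SpecialLinearGroup.coe_one]⟩
    | mul x y _ _ hx hy =>
      obtain ⟨x', hx', ex⟩ := hx
      obtain ⟨y', hy', ey⟩ := hy
      exact ⟨x' * y', mul_mem hx' hy', by rw [Matrix.SpecialLinearGroup.coe_mul, hmul, ex, ey]⟩
    | inv x _ hx =>
      obtain ⟨x', hx', ex⟩ := hx
      refine ⟨x'⁻¹, inv_mem hx', inv_eq_of_mat ?_⟩
      rw [ex, ← hmul, mul_inv_cancel, h1]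
  obtain ⟨y, hy, ey⟩ := hmem ⟨!![⟨a, ha⟩, ⟨b, hb⟩; ⟨c, hc⟩, ⟨d, hd⟩], by
    rw [det_fin_two]; exact Subtype.ext (by simpa using hdet)⟩
  refine ⟨y, hy, ey, inv_eq_of_mat ?_⟩
  rw [ey, ← blk_one]
  show blk a b c d * blk d (-b) (-c) a = _
  rw [blk_mul]
  exact blk_congr (by linear_combination hdet) (by ring) (by ring) (by linear_combination hdet)

/-- The whole group of the second transvection. -/
theorem tau_full : ∀ c ∈ L, InT Γ ![U.z, 1, 1] (c • U.ax ![U.z, 1, 1]) := by
  classical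
  obtain ⟨w, hw⟩ := IsCyclic.exists_ofOrder_eq_natCard (α := Lˣ)
  set ω : F := ((w : L) : F) with hωdef
  have hω : ω ∈ L := (w : L).2
  have hgen : gen ω = L := by
    refine le_antisymm (gen_le hω) fun x hx => ?_
    rcases eq_or_ne x 0 with rfl | hx0
    · exact (gen ω).zero_mem
    · have : (Units.mk0 (⟨x, hx⟩ : L) fun e => hx0 (congrArg Subtype.val e)) ∈ Subgroup.zpowers w := by
        rw [Subgroup.eq_top_of_card_eq (Subgroup.zpowers w) (by rw [Nat.card_zpowers, hw])]
        trivial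
      obtain ⟨n, hn⟩ := Subgroup.mem_zpowers_iff.1 this
      have e : x = ω ^ n := by
        have e := congrArg (fun u : Lˣ => ((u : L) : F)) hn
        simp only [Units.val_zpow_eq_zpow_val] at e
        exact (e.trans rfl).symm.trans (map_zpow₀ L.subtype _ n)
      rw [e]
      exact Subfield.zpow_mem _ (self_mem_gen ω) n
  have hexc : ¬ (Nat.card L = 9 ∧ ω ^ 2 = -1) := fun ⟨h9, h4⟩ => by
    have h4' : w ^ 4 = 1 := Units.ext (Subtype.ext (by
      show ω ^ 4 = 1
      linear_combination (ω ^ 2 - 1) * h4))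
    have := Nat.le_of_dvd (by norm_num) (orderOf_dvd_of_pow_eq_one h4')
    rw [hw, Nat.card_units, h9] at this
    omega
  have hω0 : ω ≠ 0 := fun e => w.ne_zero (Subtype.ext e)
  have hU := U.frame.upper (ω / U.A) (L.div_mem hω U.A_mem)
  have hα : ![U.A, -(U.A * U.σ U.z), -(U.A * (U.z - U.σ U.z))] ⬝ᵥ ![1, 0, 0] = U.A := by simp
  have hβ : (![0, ω / U.A, 0] : Fin 3 → F) ⬝ᵥ ![U.z, 1, 1] = ω / U.A := by simp [dotProduct, Fin.sum_univ_three]
  have hp : U.A * (ω / U.A) = ω := mul_div_cancel₀ _ U.A_ne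
  intro c hc
  have h := (pair_full U.frame.two U.tau hU (by rw [hα]; exact U.A_ne)
    (by rw [hβ]; exact div_ne_zero hω0 U.A_ne) (by rw [hα, hβ, hp, hgen]; exact hexc) (c / U.A)
    (by rw [hα, hβ, hp, hgen]; exact L.div_mem hc U.A_mem)).1
  convert h using 1
  funext i
  have := U.A_ne
  fin_cases i <;> simp [ax, δ] <;> field_simp <;> ring

/-- Roots at all rational isotropic centres. -/
theorem root_iso {v : Fin 3 → F} (hv : ∀ i, U.σ (U.σ (v i)) = v i) (hiso : U.hf v v = 0) {c : F} (hc : c ∈ L) :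
    InT Γ v (c • U.ax v) := by
  have hnorm : ∀ i, v i * U.σ (v i) ∈ L := fun i => U.fix_iff.1 (by rw [map_mul, hv]; ring)
  rcases eq_or_ne (v 2) 0 with h2 | h2
  · rcases eq_or_ne (v 1) 0 with h1 | h1
    · rcases eq_or_ne (v 0) 0 with h0 | h0
      · convert inT_zero_left Γ (c • U.ax v) using 1
        funext i; fin_cases i <;> assumption
      · have h := (U.frame.upper (-(c * (v 0 * U.σ (v 0)))) (L.neg_mem (L.mul_mem hc (hnorm 0)))).smul_comm
          (a := v 0) (b := (v 0)⁻¹) (mul_inv_cancel₀ h0)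
        convert h using 1 <;> (funext i; fin_cases i <;> simp [ax, h1, h2] <;> field_simp)
    · have ht : v 0 / v 1 ∈ L := by
        refine U.fix_iff.1 ?_
        have h11 : U.σ (v 1) ≠ 0 := (map_ne_zero U.σ).2 h1
        simp [hf, h2] at hiso
        rw [map_div₀]
        field_simp
        linear_combination -hiso
      have hsig : U.σ (v 0) = v 0 / v 1 * U.σ (v 1) := by
        rw [← U.σ_of_mem ht, map_div₀, div_mul_cancel₀ _ ((map_ne_zero U.σ).2 h1)]
      have h := (U.frame.root ht L.one_mem (-(c * (v 1 * U.σ (v 1)))) (L.neg_mem (L.mul_mem hc (hnorm 1)))).smul_comm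
        (a := v 1) (b := (v 1)⁻¹) (mul_inv_cancel₀ h1)
      convert h using 1 <;> (funext i; fin_cases i <;> simp [ax, h2, hsig] <;> field_simp)
  · have hs2 : U.σ (v 2) ≠ 0 := (map_ne_zero U.σ).2 h2
    set a := v 0 / v 2 with ha
    set b := v 1 / v 2 with hb
    have hσa : U.σ (U.σ a) = a := by rw [ha, map_div₀, map_div₀, hv, hv]
    have hσb : U.σ (U.σ b) = b := by rw [hb, map_div₀, map_div₀, hv, hv]
    have hab : a * U.σ b - b * U.σ a = U.δ := by
      rw [ha, hb, map_div₀, map_div₀]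
      simp only [hf] at hiso
      field_simp
      linear_combination hiso
    have ev0 : v 0 = v 2 * a := by rw [ha]; field_simp
    have ev1 : v 1 = v 2 * b := by rw [hb]; field_simp
    clear_value a b
    have hδ := U.δ_ne
    have hmemL : ∀ x, U.σ (U.σ x) = x → (x - U.σ x) / U.δ ∈ L := fun x hx => U.fix_iff.1 (by
      rw [map_div₀, map_sub, hx, σ_δ, div_neg, ← neg_div, neg_sub])
    set g00 := (a - U.σ a) / U.δ with hg00
    set g10 := (b - U.σ b) / U.δ with hg10
    have hg01 : a - g00 * U.z ∈ L := U.fix_iff.1 (by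
      rw [map_sub, map_mul, U.σ_of_mem (hmemL a hσa), hg00]
      field_simp
      simp only [δ]; ring)
    have hg11 : b - g10 * U.z ∈ L := U.fix_iff.1 (by
      rw [map_sub, map_mul, U.σ_of_mem (hmemL b hσb), hg10]
      field_simp
      simp only [δ]; ring)
    obtain ⟨g, hg, eg, eg'⟩ := U.sl2_mem (hmemL a hσa) hg01 (hmemL b hσb) hg11 (by
      rw [hg00, hg10]; field_simp; linear_combination U.δ * hab)
    have h := ((U.tau_full (c * (v 2 * U.σ (v 2))) (L.mul_mem hc (hnorm 2))).conj hg).smul_comm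
      (a := v 2) (b := (v 2)⁻¹) (mul_inv_cancel₀ h2)
    rw [eg, eg', blk_mulVec, vecMul_blk] at h
    have e1 : U.σ b = (b - g10 * U.z) + g10 * U.σ U.z := by
      rw [hg10]; field_simp; simp only [δ]; ring
    have e0 : U.σ a = (a - g00 * U.z) + g00 * U.σ U.z := by
      rw [hg00]; field_simp; simp only [δ]; ring
    have k0 : g00 * U.z + (a - g00 * U.z) * 1 = a := by ring
    have k1 : g10 * U.z + (b - g10 * U.z) * 1 = b := by ring
    convert h using 1
    · funext i
      fin_cases i <;> simp [ev0, ev1, ← hg00, ← hg10]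
    · funext i
      fin_cases i
      · simp [ax, ev1, e1, ← hg00, ← hg10, map_mul, map_one]
        field_simp
        simp only [δ]; ring
      · simp [ax, ev0, e0, ← hg00, ← hg10, map_mul, map_one]
        field_simp
        simp only [δ]; ring
      · simp [ax, map_one]
        field_simp

/-- Every transvection of the group is unitary. -/
theorem tv_unitary {v φ : Fin 3 → F} (h : InT Γ v φ) :
    (∀ i j, U.σ (U.σ (v i * φ j)) = v i * φ j) ∧
      U.σ (v 1 * φ 2) = U.δ * (v 2 * φ 0) ∧ U.σ (v 0 * φ 2) = -(U.δ * (v 2 * φ 1)) ∧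
      U.δ * U.σ (v 2 * φ 0) = -(v 1 * φ 2) ∧ U.δ * U.σ (v 2 * φ 1) = v 0 * φ 2 ∧
      U.σ (v 1 * φ 1) = -(v 0 * φ 0) ∧ U.σ (v 2 * φ 2) = -(v 2 * φ 2) := by
  classical
  obtain ⟨hA, hB, hD⟩ := U.frame.block_mem h
  have hi : φ 0 * v 0 + φ 1 * v 1 + φ 2 * v 2 = 0 := by
    simpa [dotProduct, Fin.sum_univ_three] using h.incident
  -- norm one elements
  obtain ⟨ζ, hζ, hζ2, hζn⟩ : ∃ ζ : F, ζ * U.σ ζ = 1 ∧ U.σ (U.σ ζ) = ζ ∧ ζ * ζ ≠ 1 := by
    obtain ⟨n, hn⟩ : ∃ n : ℕ, U.σ (U.z + n) ≠ -(U.z + n) ∧ U.z + n ≠ U.σ (U.z + n) ∧ U.z + n ≠ 0 := by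
      have hne : ∀ n : ℕ, U.z + n ≠ U.σ (U.z + n) := fun n e => U.z_ne (by
        rw [map_add, map_natCast] at e; exact (add_right_cancel e).symm)
      rcases eq_or_ne (U.σ U.z) (-U.z) with e | e
      · refine ⟨1, fun h1 => U.frame.two ?_, hne 1, fun h1 => hne 1 (by rw [h1, map_zero])⟩
        rw [map_add, e] at h1; simp at h1
        linear_combination h1
      · refine ⟨0, by simpa using e, hne 0, fun h1 => hne 0 (by rw [h1, map_zero])⟩
    obtain ⟨hn1, hn2, hn0⟩ := hn
    set y := U.z + (n : F) with hy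
    have hyy : U.σ (U.σ y) = y := by rw [hy]; simp [U.z_two]
    have hsy : U.σ y ≠ 0 := (map_ne_zero U.σ).2 hn0
    refine ⟨y / U.σ y, ?_, by rw [map_div₀, map_div₀, hyy], fun e => ?_⟩
    · rw [map_div₀, hyy]; field_simp
    · have e' : y * y = U.σ y * U.σ y := by field_simp at e; linear_combination e
      rcases mul_self_eq_mul_self_iff.1 e' with e'' | e''
      · exact hn2 e''
      · exact hn1 (by linear_combination e'')
  have hfe : ∀ a b : F, U.σ (U.σ a) = a → U.σ (U.σ b) = b → a * U.σ b - b * U.σ a = U.δ →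
      (φ 0 * a + φ 1 * b + φ 2) * (U.σ b * v 0 - U.σ a * v 1 - U.δ * v 2) ∈ L := by
    intro a b ha hb hab
    have := U.frame.line (w := ![a, b, 1]) (ψ := U.ax ![a, b, 1]) (fun c hc => U.root_iso
      (fun i => by fin_cases i <;> simp [ha, hb]) (by simp [hf]; linear_combination hab) hc) h
    convert this using 1
    simp only [ax, dotProduct, Fin.sum_univ_three, Matrix.cons_val_zero, Matrix.cons_val_one, Matrix.cons_val, map_one]
    ring
  have hPQ : ∀ a b : F, U.σ (U.σ a) = a → U.σ (U.σ b) = b → a * U.σ b - b * U.σ a = U.δ →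
      U.σ (φ 2 * (U.σ b * v 0 - U.σ a * v 1)) = -(U.δ * v 2 * (φ 0 * a + φ 1 * b)) ∧
      U.σ (-(U.δ * v 2 * (φ 0 * a + φ 1 * b))) = φ 2 * (U.σ b * v 0 - U.σ a * v 1) := by
    intro a b ha hb hab
    set P := -(U.δ * v 2 * (φ 0 * a + φ 1 * b)) with hP
    set Q := φ 2 * (U.σ b * v 0 - U.σ a * v 1) with hQ
    have key : ∀ e : F, e * U.σ e = 1 → U.σ (U.σ e) = e → U.σ P * U.σ e + U.σ Q * e = P * e + Q * U.σ e := by
      intro e he he2
      have h1 := hfe (e * a) (e * b) (by simp [he2, ha]) (by simp [he2, hb]) (by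
        simp only [map_mul]; linear_combination hab + (a * U.σ b - b * U.σ a) * he)
      have h2 := hfe (-e * a) (-e * b) (by simp [he2, ha]) (by simp [he2, hb]) (by
        simp only [map_mul, map_neg]; linear_combination hab + (a * U.σ b - b * U.σ a) * he)
      have h3 := U.σ_of_mem (L.sub_mem h1 h2)
      have h4 : U.σ (2 * (P * e + Q * U.σ e)) = 2 * (P * e + Q * U.σ e) := by
        convert h3 using 2 <;> simp only [hP, hQ, map_mul, map_neg] <;> ring
      rw [map_mul, map_ofNat] at h4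
      have h5 := mul_left_cancel₀ U.frame.two h4
      rw [map_add, map_mul, map_mul, he2] at h5
      exact h5
    have h1 := key 1 (by simp) (by simp)
    have h2 := key ζ hζ hζ2
    rw [map_one, mul_one, mul_one, mul_one, mul_one] at h1
    have hQP : U.σ Q = P := by
      have h3 : (U.σ Q - P) * (ζ - U.σ ζ) = 0 := by linear_combination h2 - U.σ ζ * h1
      refine sub_eq_zero.1 ((mul_eq_zero.1 h3).resolve_right fun e => hζn ?_)
      rw [sub_eq_zero] at e
      nth_rewrite 2 [e]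
      exact hζ
    exact ⟨hQP, by linear_combination h1 - hQP⟩
  have hd : U.z * U.σ 1 - 1 * U.σ U.z = U.δ := by simp [δ]
  have hd' : U.z * U.σ (U.z + 1) - (U.z + 1) * U.σ U.z = U.δ := by rw [map_add, map_one, δ]; ring
  obtain ⟨a1, b1⟩ := hPQ U.z 1 U.z_two (by simp) hd
  obtain ⟨a2, b2⟩ := hPQ U.z (U.z + 1) U.z_two (by simp [U.z_two]) hd'
  simp only [map_mul, map_neg, map_add, map_sub, map_one, U.z_two, σ_δ] at a1 b1 a2 b2
  have hz : U.z ≠ 0 := fun e => U.z_ne (by rw [e, map_zero])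
  have hsz : U.σ U.z ≠ 0 := (map_ne_zero U.σ).2 hz
  have i2 : U.σ (v 0 * φ 2) = -(U.δ * (v 2 * φ 1)) := by
    rw [map_mul]
    refine mul_left_cancel₀ hz ?_
    linear_combination a2 - a1
  have i4 : U.δ * U.σ (v 2 * φ 1) = v 0 * φ 2 := by
    rw [map_mul]
    refine mul_left_cancel₀ hsz ?_
    linear_combination b2 - b1
  have i1 : U.σ (v 1 * φ 2) = U.δ * (v 2 * φ 0) := by
    rw [map_mul]
    rw [map_mul] at i2
    refine mul_left_cancel₀ hz ?_
    linear_combination i2 - a1
  have i3 : U.δ * U.σ (v 2 * φ 0) = -(v 1 * φ 2) := by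
    rw [map_mul]
    rw [map_mul] at i4
    refine mul_left_cancel₀ hsz ?_
    linear_combination b1 - i4
  set b := φ 0 * v 0 + φ 1 * v 1 with hbdef
  have hb2 : U.σ b ^ 2 = b ^ 2 := by
    rw [← map_pow]
    refine U.σ_of_mem ?_
    rw [show b ^ 2 = (φ 0 * v 0 - φ 1 * v 1) ^ 2 + 4 * ((φ 0 * v 1) * (φ 1 * v 0)) by rw [hbdef]; ring]
    refine L.add_mem (pow_mem hD 2) (L.mul_mem ?_ (L.mul_mem hA hB))
    exact_mod_cast natCast_mem L 4
  have hb : U.σ b = -b := by
    rcases sq_eq_sq_iff_eq_or_eq_neg.1 hb2 with e | e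
    · rcases eq_or_ne b 0 with hb0 | hb0
      · rw [hb0]; simp
      exfalso
      have hlm : φ 2 * v 2 = -b := by rw [hbdef]; linear_combination hi
      have hφ2 : φ 2 ≠ 0 := left_ne_zero_of_mul (by rw [hlm]; exact neg_ne_zero.2 hb0)
      have key : ∀ m : F, U.σ (U.σ m) = m → U.σ (m * U.σ m / U.δ) = m * U.σ m / U.δ → m = 0 := by
        intro m hm e'
        rw [map_div₀, map_mul, hm, σ_δ, mul_comm, div_neg] at e'
        have h0 : 2 * (m * U.σ m / U.δ) = 0 := by linear_combination -e'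
        have h0' := (mul_eq_zero.1 h0).resolve_left U.frame.two
        rw [div_eq_zero_iff] at h0'
        rcases mul_eq_zero.1 (h0'.resolve_right U.δ_ne) with h0'' | h0''
        · exact h0''
        · exact (map_eq_zero U.σ).1 h0''
      have hm1 : v 1 * φ 2 = 0 := by
        refine key _ ?_ ?_
        · rw [i1, map_mul, σ_δ]; linear_combination -i3
        · have : v 1 * φ 2 * U.σ (v 1 * φ 2) / U.δ = φ 0 * v 1 * (φ 2 * v 2) := by
            rw [i1]; have := U.δ_ne; field_simp
          rw [this, hlm, map_mul, map_neg, e, U.σ_of_mem hA]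
      have hm0 : v 0 * φ 2 = 0 := by
        refine key _ ?_ ?_
        · rw [i2, map_neg, map_mul, σ_δ]; linear_combination i4
        · have : v 0 * φ 2 * U.σ (v 0 * φ 2) / U.δ = -(φ 1 * v 0 * (φ 2 * v 2)) := by
            rw [i2]; have := U.δ_ne; field_simp
          rw [this, hlm, map_neg, map_mul, map_neg, e, U.σ_of_mem hB]
      have hv1 := (mul_eq_zero.1 hm1).resolve_right hφ2
      have hv0 := (mul_eq_zero.1 hm0).resolve_right hφ2
      exact hb0 (by rw [hbdef, hv0, hv1]; ring)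
    · exact e
  have i6 : U.σ (v 2 * φ 2) = -(v 2 * φ 2) := by
    rw [show v 2 * φ 2 = -b by rw [hbdef]; linear_combination hi, map_neg, hb]
  have hD' := U.σ_of_mem hD
  have i5 : U.σ (v 1 * φ 1) = -(v 0 * φ 0) := by
    refine mul_left_cancel₀ U.frame.two ?_
    have hb' := hb
    rw [hbdef, map_add] at hb'
    rw [map_sub] at hD'
    rw [mul_comm (v 1), mul_comm (v 0)]
    linear_combination hb' - hD'
  have i5' : U.σ (v 0 * φ 0) = -(v 1 * φ 1) := by
    rw [hbdef, map_add] at hb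
    rw [mul_comm (v 0), mul_comm (v 1)] at *
    linear_combination hb - i5
  have hA' := U.σ_of_mem hA
  have hB' := U.σ_of_mem hB
  refine ⟨fun i j => ?_, i1, i2, i3, i4, i5, i6⟩
  fin_cases i <;> fin_cases j <;> simp only [Fin.zero_eta, Fin.mk_one, Fin.reduceFinMk]
  · rw [i5', map_neg, i5, neg_neg]
  · rw [mul_comm, hB', hB']
  · rw [i2, map_neg, map_mul, σ_δ]; linear_combination i4
  · rw [mul_comm, hA', hA']
  · rw [i5, map_neg, i5', neg_neg]
  · rw [i1, map_mul, σ_δ]; linear_combination -i3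
  · have := congrArg U.σ i3
    rw [map_mul, σ_δ, map_neg, i1] at this
    exact mul_left_cancel₀ U.δ_ne (by linear_combination -this)
  · have := congrArg U.σ i4
    rw [map_mul, σ_δ, i2] at this
    exact mul_left_cancel₀ U.δ_ne (by linear_combination -this)
  · rw [i6, map_neg, i6, neg_neg]

/-- The matrix of the form. -/
def J : M₃ := !![0, 1, 0; -1, 0, 0; 0, 0, -U.δ]

theorem J_ax (w : Fin 3 → F) : U.J *ᵥ (U.σ ∘ w) = U.ax w := by
  funext i; fin_cases i <;> simp [J, ax, mulVec, dotProduct, Fin.sum_univ_three]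

/-- Unitary matrices for the form, with entries in the big field. -/
def IsU (g : M₃) : Prop := (∀ i j, g i j ∈ U.big) ∧ gᵀ * U.J * g.map U.σ = U.J

theorem isU_one : U.IsU 1 :=
  ⟨fun i j => by rw [one_apply]; split_ifs <;> [exact U.big.one_mem; exact U.big.zero_mem],
    by rw [transpose_one, one_mul, Matrix.map_one _ (map_zero _) (map_one _), mul_one]⟩

theorem isU_mul {g h : M₃} (hg : U.IsU g) (hh : U.IsU h) : U.IsU (g * h) := by
  refine ⟨fun i j => by rw [mul_apply]; exact U.big.sum_mem fun k _ => U.big.mul_mem (hg.1 _ _) (hh.1 _ _), ?_⟩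
  rw [transpose_mul, Matrix.map_mul]
  calc hᵀ * gᵀ * U.J * (g.map U.σ * h.map U.σ) = hᵀ * (gᵀ * U.J * g.map U.σ) * h.map U.σ := by simp only [mul_assoc]
    _ = _ := by rw [hg.2, hh.2]

/-- A transvection of the group is unitary. -/
theorem isU_of_inT {v φ : Fin 3 → F} (h : InT Γ v φ) : U.IsU (1 + vecMulVec v φ) := by
  obtain ⟨hent, i1, i2, i3, i4, i5, i6⟩ := U.tv_unitary h
  refine ⟨fun i j => ?_, ?_⟩
  · rw [Matrix.add_apply]
    refine U.big.add_mem (by rw [one_apply]; split_ifs <;> [exact U.big.one_mem; exact U.big.zero_mem]) ?_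
    rw [vecMulVec_apply]
    exact hent i j
  set N := vecMulVec v φ with hN
  obtain ⟨hA, hB, -⟩ := U.frame.block_mem h
  have hA' : U.σ (v 1 * φ 0) = v 1 * φ 0 := by rw [mul_comm]; exact U.σ_of_mem hA
  have hB' : U.σ (v 0 * φ 1) = v 0 * φ 1 := by rw [mul_comm]; exact U.σ_of_mem hB
  have i5' : U.σ (v 0 * φ 0) = -(v 1 * φ 1) := by
    have := congrArg U.σ i5
    rw [map_neg, hent] at this
    linear_combination this
  simp only [map_mul] at hA' hB' i1 i2 i3 i4 i5 i5' i6
  have lin : U.J * N.map U.σ = -(Nᵀ * U.J) := by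
    ext a b
    fin_cases a <;> fin_cases b <;> simp [J, hN, Matrix.mul_apply, Fin.sum_univ_three, vecMulVec_apply]
    · linear_combination hA'
    · linear_combination i5
    · linear_combination i1
    · linear_combination -i5'
    · linear_combination hB'
    · linear_combination -i2
    · linear_combination -i3
    · linear_combination i4
    · linear_combination -U.δ * i6
  have hsq : N * N = 0 := by
    rw [hN, Fus.TV.vec_mul_vec, h.incident, zero_smul]
  have hmap : ((1 : M₃) + N).map U.σ = 1 + N.map U.σ := by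
    rw [Matrix.map_add _ (map_add _), Matrix.map_one _ (map_zero _) (map_one _)]
  have h0 : Nᵀ * U.J * N.map U.σ = 0 := by
    rw [mul_assoc, lin, mul_neg, ← mul_assoc, ← transpose_mul, hsq, transpose_zero, zero_mul, neg_zero]
  rw [hmap, transpose_add, transpose_one, add_mul, one_mul, mul_add, mul_one, add_mul, lin, h0]
  abel

theorem isU_inv {g : SL₃} (hg : U.IsU (g : M₃)) : U.IsU ((g⁻¹ : SL₃) : M₃) := by
  have h1 : (g : M₃) * ((g⁻¹ : SL₃) : M₃) = 1 := by
    rw [← Matrix.SpecialLinearGroup.coe_mul, mul_inv_cancel, Matrix.SpecialLinearGroup.coe_one]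
  refine ⟨fun i j => ?_, ?_⟩
  · rw [Matrix.SpecialLinearGroup.coe_inv]
    exact adjugate_mem hg.1 i j
  · calc ((g⁻¹ : SL₃) : M₃)ᵀ * U.J * ((g⁻¹ : SL₃) : M₃).map U.σ
        = ((g⁻¹ : SL₃) : M₃)ᵀ * ((g : M₃)ᵀ * U.J * (g : M₃).map U.σ) * ((g⁻¹ : SL₃) : M₃).map U.σ := by rw [hg.2]
      _ = (((g : M₃) * ((g⁻¹ : SL₃) : M₃))ᵀ) * U.J * ((g : M₃) * ((g⁻¹ : SL₃) : M₃)).map U.σ := by
          rw [transpose_mul, Matrix.map_mul]; simp only [mul_assoc]
      _ = U.J := by rw [h1, transpose_one, one_mul, Matrix.map_one _ (map_zero _) (map_one _), mul_one]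

theorem isU_mem {g : SL₃} (hg : g ∈ Γ) : U.IsU (g : M₃) := by
  rw [U.frame.gen] at hg
  induction hg using Subgroup.closure_induction with
  | mem x hx =>
    obtain ⟨hx, v, φ, -, -, hi, e⟩ := hx
    rw [e]
    exact U.isU_of_inT ⟨hi, x, hx, e⟩
  | one => rw [Matrix.SpecialLinearGroup.coe_one]; exact U.isU_one
  | mul a b _ _ ha hb => rw [Matrix.SpecialLinearGroup.coe_mul]; exact U.isU_mul ha hb
  | inv a _ ha => exact U.isU_inv ha

/-- An orthonormal basis, up to the skew scalar, with entries in the big field. -/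
theorem exists_basis :
    ∃ B : GL (Fin 3) F, (∀ i j, (B : M₃) i j ∈ U.big) ∧ (∀ i j, ((B⁻¹ : GL (Fin 3) F) : M₃) i j ∈ U.big) ∧
      (B : M₃)ᵀ * U.J * (B : M₃).map U.σ = U.δ⁻¹ • (1 : M₃) := by
  classical
  have hσ'mem : ∀ x : U.big, U.σ (x : F) ∈ U.big := fun x => congrArg U.σ (U.mem_big.1 x.2)
  let σ' : U.big →+* U.big := (U.σ.comp U.big.subtype).codRestrict U.big.toSubring hσ'mem
  have hne : σ' ≠ RingHom.id U.big := fun e => U.z_ne (congrArg Subtype.val
    (RingHom.congr_fun e ⟨U.z, U.z_two⟩))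
  have hσ'2 : ∀ a, σ' (σ' a) = a := fun a => Subtype.ext a.2
  have hd2 : U.δ ^ 2 ∈ L := U.fix_iff.1 (by rw [map_pow, σ_δ, neg_sq])
  have norm : ∀ t : F, t ∈ L → t ≠ 0 → ∃ c : F, c ∈ U.big ∧ c ≠ 0 ∧ c * U.σ c = t := by
    intro t ht ht0
    obtain ⟨c, hc⟩ := exists_norm_eq hne hσ'2 (t := (⟨t, U.le_big ht⟩ : U.big)) (Subtype.ext (U.σ_of_mem ht))
      fun e => ht0 (congrArg Subtype.val e)
    have hc' : (c : F) * U.σ (c : F) = t := congrArg Subtype.val hc
    exact ⟨c, c.2, fun e => ht0 (by rw [← hc', e, zero_mul]), hc'⟩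
  have hδ := U.δ_ne
  obtain ⟨c₁, hc1, hc10, e1⟩ := norm (U.δ ^ 2)⁻¹ (L.inv_mem hd2) (inv_ne_zero (pow_ne_zero 2 hδ))
  obtain ⟨c₂, hc2, hc20, e2⟩ := norm (-(U.δ ^ 2)⁻¹) (L.neg_mem (L.inv_mem hd2))
    (neg_ne_zero.2 (inv_ne_zero (pow_ne_zero 2 hδ)))
  let B₀ : M₃ := !![c₁ * U.z, c₂ * U.σ U.z, 0; c₁, c₂, 0; 0, 0, c₂]
  have hdet : B₀.det ≠ 0 := by
    have : B₀.det = c₁ * c₂ * c₂ * U.δ := by simp [B₀, det_fin_three, δ]; ring
    rw [this]
    exact mul_ne_zero (mul_ne_zero (mul_ne_zero hc10 hc20) hc20) hδ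
  let B : GL (Fin 3) F := Matrix.GeneralLinearGroup.mkOfDetNeZero B₀ hdet
  have hBe : ∀ i j, (B : M₃) i j ∈ U.big := fun i j => by
    show B₀ i j ∈ U.big
    fin_cases i <;> fin_cases j <;> simp [B₀] <;>
      first
        | exact U.big.zero_mem
        | exact hc1
        | exact hc2
        | exact U.big.mul_mem hc1 U.z_two
        | exact U.big.mul_mem hc2 (by rw [mem_big, U.z_two])
  refine ⟨B, hBe, fun i j => ?_, ?_⟩
  · rw [Matrix.coe_units_inv, inv_def, Matrix.smul_apply, smul_eq_mul, Ring.inverse_eq_inv']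
    exact U.big.mul_mem (U.big.inv_mem (det_mem hBe)) (adjugate_mem hBe i j)
  · show B₀ᵀ * U.J * B₀.map U.σ = _
    ext a b
    fin_cases a <;> fin_cases b <;>
      simp [B₀, J, Matrix.mul_apply, Fin.sum_univ_three, U.z_two]
    · have : c₁ * U.σ c₁ * U.δ = U.δ⁻¹ := by rw [e1]; field_simp
      simp only [δ] at this ⊢
      linear_combination this
    · ring
    · ring
    · have : c₂ * U.σ c₂ * U.δ = -U.δ⁻¹ := by rw [e2]; field_simp
      simp only [δ] at this ⊢
      linear_combination -this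
    · have : c₂ * U.σ c₂ * U.δ = -U.δ⁻¹ := by rw [e2]; field_simp
      linear_combination -this

end Basic

/-- The unitary matrices of determinant one with entries in `M`. -/
def suOver (M : Subfield F) (q : ℕ) : Subgroup SL₃ :=
  (Cfsg.SU 3 M q).map (Matrix.SpecialLinearGroup.map M.subtype)

theorem mem_su_iff {K : Type*} [Field K] {q : ℕ} (σ : K →+* K) (hσ : ∀ x, σ x = x ^ q)
    {g : Matrix.SpecialLinearGroup (Fin 3) K} :
    g ∈ Cfsg.SU 3 K q ↔ (g : Matrix (Fin 3) (Fin 3) K)ᵀ * (g : Matrix (Fin 3) (Fin 3) K).map σ = 1 := by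
  have hh : ∀ u v : Fin 3 → K, Cfsg.hermForm 3 K q u v = u ⬝ᵥ (σ ∘ v) := fun u v => by
    simp [Cfsg.hermForm, dotProduct, hσ]
  have hm : ∀ v : Fin 3 → K, σ ∘ ((g : Matrix (Fin 3) (Fin 3) K) *ᵥ v) =
      (g : Matrix (Fin 3) (Fin 3) K).map σ *ᵥ (σ ∘ v) := fun v => by
    funext i; simp [mulVec, dotProduct, map_sum]
  show (∀ u v, Cfsg.hermForm 3 K q ((g : Matrix (Fin 3) (Fin 3) K) *ᵥ u) ((g : Matrix (Fin 3) (Fin 3) K) *ᵥ v) =
    Cfsg.hermForm 3 K q u v) ↔ _
  simp only [hh, hm]
  constructor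
  · intro h
    ext i j
    have := h (Pi.single i 1) (Pi.single j 1)
    have hs : σ ∘ (Pi.single j (1 : K) : Fin 3 → K) = Pi.single j 1 := by
      funext k; simp [Pi.single_apply, apply_ite σ]
    rw [hs, mulVec_single_one, mulVec_single_one, single_dotProduct, one_mul] at this
    simpa [Matrix.mul_apply, dotProduct, Matrix.one_apply, Pi.single_apply, eq_comm] using this
  · intro h u v
    rw [dotProduct_mulVec, ← vecMul_transpose, vecMul_vecMul, h, vecMul_one]

/-- The unitary case. -/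
theorem unitary_main [Fintype F] (U : UFrame Γ L) :
    ∃ (D : GL (Fin 3) F) (M : Subfield F), Nat.card M = Nat.card L ^ 2 ∧
      moveGL D Γ = suOver M (Nat.card L) := by
  classical
  obtain ⟨B, hB, hB', hBJ⟩ := U.exists_basis
  refine ⟨B⁻¹, U.big, U.card_big, ?_⟩
  have hq : Fintype.card U.big = Nat.card L ^ 2 := by rw [← Nat.card_eq_fintype_card, U.card_big]
  have hσ'mem : ∀ x : U.big, U.σ (x : F) ∈ U.big := fun x => congrArg U.σ (U.mem_big.1 x.2)
  let σ' : U.big →+* U.big := (U.σ.comp U.big.subtype).codRestrict U.big.toSubring hσ'mem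
  have hσ' : ∀ x, σ' x = x ^ Nat.card L := fun x => Subtype.ext (by
    show U.σ (x : F) = _
    rw [U.hσ]; simp)
  have hBB : (B : M₃) * ((B⁻¹ : GL (Fin 3) F) : M₃) = 1 := by rw [← Units.val_mul, mul_inv_cancel, Units.val_one]
  refine le_antisymm ?_ ?_
  · intro x hx
    obtain ⟨g, hg, rfl⟩ := mem_moveGL.1 hx
    obtain ⟨hge, hgJ⟩ := U.isU_mem hg
    have he : ∀ i j, (conjGL B⁻¹ g : M₃) i j ∈ U.big := fun i j => by
      rw [conjGL_coe, inv_inv, mul_apply]
      refine U.big.sum_mem fun k _ => U.big.mul_mem ?_ (hB k j)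
      rw [mul_apply]
      exact U.big.sum_mem fun l _ => U.big.mul_mem (hB' i l) (hge l k)
    obtain ⟨h, hh⟩ := mem_slOver.2 he
    refine Subgroup.mem_map.2 ⟨h, (mem_su_iff σ' hσ').2 ?_, hh⟩
    apply Matrix.map_injective U.big.subtype.injective
    show ((h : Matrix (Fin 3) (Fin 3) U.big)ᵀ * (h : Matrix (Fin 3) (Fin 3) U.big).map σ').map U.big.subtype =
      (1 : Matrix (Fin 3) (Fin 3) U.big).map U.big.subtype
    rw [Matrix.map_one _ (map_zero _) (map_one _), Matrix.map_mul, transpose_map, Matrix.map_map]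
    have e : (h : Matrix (Fin 3) (Fin 3) U.big).map (⇑U.big.subtype ∘ ⇑σ') =
        ((h : Matrix (Fin 3) (Fin 3) U.big).map U.big.subtype).map U.σ := by
      rw [Matrix.map_map]; rfl
    rw [e]
    have hh' : (h : Matrix (Fin 3) (Fin 3) U.big).map U.big.subtype = (conjGL B⁻¹ g : M₃) := by
      rw [← hh]; rfl
    rw [hh', conjGL_coe, inv_inv]
    set Bi := ((B⁻¹ : GL (Fin 3) F) : M₃)
    set Bm := (B : M₃) with hBm
    have hX : Bm * (Bi * (g : M₃) * Bm) = (g : M₃) * Bm := by rw [← mul_assoc, ← mul_assoc, hBB, one_mul]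
    have h1 : (Bi * (g : M₃) * Bm)ᵀ * (U.δ⁻¹ • (1 : M₃)) * (Bi * (g : M₃) * Bm).map U.σ = U.δ⁻¹ • (1 : M₃) := by
      have key : ∀ X : M₃, Xᵀ * (Bmᵀ * U.J * Bm.map U.σ) * X.map U.σ = (Bm * X)ᵀ * U.J * (Bm * X).map U.σ := fun X => by
        rw [transpose_mul, Matrix.map_mul]; simp only [mul_assoc]
      calc (Bi * (g : M₃) * Bm)ᵀ * (U.δ⁻¹ • (1 : M₃)) * (Bi * (g : M₃) * Bm).map U.σ
          = (Bm * (Bi * (g : M₃) * Bm))ᵀ * U.J * (Bm * (Bi * (g : M₃) * Bm)).map U.σ := by
            rw [← hBJ]; exact key _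
        _ = Bmᵀ * ((g : M₃)ᵀ * U.J * (g : M₃).map U.σ) * Bm.map U.σ := by
            rw [hX, transpose_mul, Matrix.map_mul]
            simp only [mul_assoc]
        _ = _ := by rw [hgJ, hBJ]
    rw [mul_smul_comm, mul_one, smul_mul_assoc] at h1
    exact smul_right_injective M₃ (inv_ne_zero U.δ_ne) h1
  · rw [suOver, Subgroup.map_le_iff_le_comap]
    intro x hx
    have hx' : (⟨x, hx⟩ : Cfsg.SU 3 U.big (Nat.card L)) ∈ (⊤ : Subgroup _) := trivial
    rw [← S0780.result hq 3 le_rfl (fun h => by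
      have h2 : Nat.card L = 2 := h.2
      obtain ⟨p, hp⟩ : ∃ p, CharP F p := ⟨_, ringChar.charP F⟩
      haveI : Fact p.Prime := ⟨CharP.char_is_prime F p⟩
      obtain ⟨d, hd1, hd⟩ := natCard_eq_pow p L
      rw [h2] at hd
      have : p = 2 := (Nat.prime_dvd_prime_iff_eq Fact.out Nat.prime_two).1 (hd ▸ dvd_pow_self p (by omega))
      exact U.frame.two (by exact_mod_cast (this ▸ CharP.cast_eq_zero F p : ((2 : ℕ) : F) = 0)))] at hx'
    refine Subgroup.mem_comap.2 ?_
    suffices h : ∀ y : Cfsg.SU 3 U.big (Nat.card L), y ∈ Subgroup.closure {A : Cfsg.SU 3 U.big (Nat.card L) |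
        ∃ (v : Fin 3 → U.big) (c : U.big), Cfsg.hermForm 3 U.big (Nat.card L) v v = 0 ∧
          ((A : Matrix.SpecialLinearGroup (Fin 3) U.big) : Matrix (Fin 3) (Fin 3) U.big) =
            Cfsg.unitaryTransvection 3 (Nat.card L) v c} →
        Matrix.SpecialLinearGroup.map U.big.subtype (y : Matrix.SpecialLinearGroup (Fin 3) U.big) ∈
          moveGL B⁻¹ Γ from h _ hx'
    intro y hy
    induction hy using Subgroup.closure_induction with
    | one => rw [OneMemClass.coe_one, map_one]; exact one_mem _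
    | mul a b _ _ ha hb => rw [Subgroup.coe_mul, map_mul]; exact mul_mem ha hb
    | inv a _ ha => rw [InvMemClass.coe_inv, map_inv]; exact inv_mem ha
    | mem a ha =>
      obtain ⟨v, c, hiso, ea⟩ := ha
      set v' : Fin 3 → F := fun i => (v i : F) with hv'
      have ea' : (Matrix.SpecialLinearGroup.map U.big.subtype (a : Matrix.SpecialLinearGroup (Fin 3) U.big) : M₃)
          = 1 + vecMulVec v' ((c : F) • (U.σ ∘ v')) := by
        show ((a : Matrix.SpecialLinearGroup (Fin 3) U.big) : Matrix (Fin 3) (Fin 3) U.big).map U.big.subtype = _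
        rw [ea]
        ext i j
        simp only [Cfsg.unitaryTransvection, Matrix.map_apply, Matrix.add_apply, Matrix.smul_apply, vecMulVec_apply,
          smul_eq_mul, map_add, map_mul, map_pow, Pi.smul_apply, Function.comp_apply, U.hσ, hv']
        rw [one_apply, one_apply]
        split_ifs <;> simp <;> ring
      by_cases hv0 : v' = 0
      · have : Matrix.SpecialLinearGroup.map U.big.subtype (a : Matrix.SpecialLinearGroup (Fin 3) U.big) = 1 :=
          Subtype.ext (by rw [ea', hv0]; simp)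
        rw [this]; exact one_mem _
      have hiso' : v' ⬝ᵥ (U.σ ∘ v') = 0 := by
        have := congrArg U.big.subtype hiso
        simpa [Cfsg.hermForm, dotProduct, U.hσ, hv'] using this
      have hv2 : U.σ ∘ (U.σ ∘ v') = v' := funext fun i => (v i).2
      have hc : U.σ ((c : F) * U.δ) = (c : F) * U.δ := by
        have hu := (mem_su_iff σ' hσ').1 a.2
        have hu' := congrArg (fun X : Matrix (Fin 3) (Fin 3) U.big => X.map U.big.subtype) hu
        simp only [Matrix.map_one _ (map_zero U.big.subtype) (map_one U.big.subtype), Matrix.map_mul, transpose_map,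
          Matrix.map_map] at hu'
        have e : ((a : Matrix.SpecialLinearGroup (Fin 3) U.big) : Matrix (Fin 3) (Fin 3) U.big).map
            (⇑U.big.subtype ∘ ⇑σ') = ((Matrix.SpecialLinearGroup.map U.big.subtype
              (a : Matrix.SpecialLinearGroup (Fin 3) U.big) : M₃)).map U.σ := by
          show _ = (((a : Matrix.SpecialLinearGroup (Fin 3) U.big) : Matrix (Fin 3) (Fin 3) U.big).map
            U.big.subtype).map U.σ
          rw [Matrix.map_map]; rfl
        rw [e, show ((a : Matrix.SpecialLinearGroup (Fin 3) U.big) : Matrix (Fin 3) (Fin 3) U.big).map U.big.subtype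
          = 1 + vecMulVec v' ((c : F) • (U.σ ∘ v')) from ea', ea'] at hu'
        have hmap : (vecMulVec v' ((c : F) • (U.σ ∘ v'))).map U.σ = vecMulVec (U.σ ∘ v') (U.σ (c : F) • v') := by
          ext i j
          have := congrFun hv2 j
          simp only [Function.comp_apply] at this
          simp [vecMulVec_apply, this]; ring
        rw [Matrix.map_add _ (map_add _), Matrix.map_one _ (map_zero _) (map_one _), hmap, transpose_add, transpose_one,
          transpose_vecMulVec, mul_add, mul_one, add_mul, one_mul, Fus.TV.vec_mul_vec, hiso', zero_smul,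
          add_zero, add_assoc, add_eq_left] at hu'
        obtain ⟨k, hk⟩ := Function.ne_iff.1 hv0
        have := congrFun (congrFun hu' k) k
        simp only [Matrix.add_apply, vecMulVec_apply, Pi.smul_apply, Function.comp_apply, smul_eq_mul,
          Matrix.zero_apply] at this
        have hk' : U.σ (v' k) * v' k ≠ 0 := mul_ne_zero ((map_ne_zero U.σ).2 hk) hk
        have h0 : (c : F) + U.σ (c : F) = 0 := by
          refine (mul_eq_zero.1 (show ((c : F) + U.σ (c : F)) * (U.σ (v' k) * v' k) = 0 from ?_)).resolve_right hk'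
          linear_combination this
        rw [map_mul, U.σ_δ]
        linear_combination -U.δ * h0
      have hBv : ∀ i, U.σ (U.σ (((B : M₃) *ᵥ v') i)) = ((B : M₃) *ᵥ v') i := fun i => by
        refine U.mem_big.1 ?_
        show (∑ j, (B : M₃) i j * v' j) ∈ U.big
        exact U.big.sum_mem fun j _ => U.big.mul_mem (hB i j) (v j).2
      have hax : U.ax ((B : M₃) *ᵥ v') = U.δ⁻¹ • ((U.σ ∘ v') ᵥ* ((B⁻¹ : GL (Fin 3) F) : M₃)) := by
        have e1 : U.σ ∘ ((B : M₃) *ᵥ v') = (B : M₃).map U.σ *ᵥ (U.σ ∘ v') := by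
          funext i; simp [mulVec, dotProduct, map_sum]
        have e2 : U.J * (B : M₃).map U.σ = ((B⁻¹ : GL (Fin 3) F) : M₃)ᵀ * (U.δ⁻¹ • (1 : M₃)) := by
          rw [← hBJ, ← mul_assoc, ← mul_assoc, ← transpose_mul, hBB, transpose_one, one_mul]
        rw [← U.J_ax, e1, mulVec_mulVec, e2, mul_smul_comm, mul_one, smul_mulVec, mulVec_transpose]
      have hisoB : U.hf ((B : M₃) *ᵥ v') ((B : M₃) *ᵥ v') = 0 := by
        rw [← U.ax_dot, hax, smul_dotProduct, ← dotProduct_mulVec, mulVec_mulVec, ← Units.val_mul, inv_mul_cancel,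
          Units.val_one, one_mulVec, dotProduct_comm, hiso', smul_zero]
      obtain ⟨-, g, hg, eg⟩ := U.root_iso hBv hisoB (U.fix_iff.1 hc)
      refine mem_moveGL.2 ⟨g, hg, Subtype.ext ?_⟩
      rw [conjGL_coe, inv_inv, eg, ea', hax, smul_smul, mul_inv_cancel_right₀ U.δ_ne, mul_add, mul_one,
        add_mul, ← Units.val_mul, inv_mul_cancel, Units.val_one, mul_vecMulVec, vecMulVec_mul, mulVec_mulVec,
        ← Units.val_mul, inv_mul_cancel, Units.val_one, one_mulVec, smul_vecMul, vecMul_vecMul, ← Units.val_mul,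
        inv_mul_cancel, Units.val_one, vecMul_one]

end UFrame

end Cfsg.Agent.Classical.Bloom
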