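import Cfsg.Agent.Lib.Classical.Bloom.Overgroup
import Cfsg.Agent.Lib.Classical.Bloom.Rational
import Cfsg.Agent.Lib.Classical.Bloom.Unitary

/-!
The special linear and special unitary groups over a subfield as models, and the matrices normalising them.
-/

set_option autoImplicit false

namespace Cfsg.Agent.Classical.Bloom

open Matrix

variable {F : Type*} [Field F]

local notation "SL₃" => Matrix.SpecialLinearGroup (Fin 3) F
local notation "M₃" => Matrix (Fin 3) (Fin 3) F

/-- The matrices with entries in a subfield. -/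
def entries (M : Subfield F) : Subring M₃ where
  carrier := {A | ∀ i j, A i j ∈ M}
  zero_mem' := fun _ _ => M.zero_mem
  one_mem' := fun i j => by rw [one_apply]; split_ifs <;> [exact M.one_mem; exact M.zero_mem]
  add_mem' := fun ha hb i j => M.add_mem (ha i j) (hb i j)
  neg_mem' := fun ha i j => M.neg_mem (ha i j)
  mul_mem' := fun {a b} ha hb i j => by
    rw [mul_apply]; exact M.sum_mem fun k _ => M.mul_mem (ha i k) (hb k j)

theorem single_eq (i j : Fin 3) (c : F) : Matrix.single i j c = vecMulVec (Pi.single i c) (Pi.single j 1) := by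
  ext a b
  simp only [Matrix.single_apply, vecMulVec_apply, Pi.single_apply]
  split_ifs <;> simp_all

/-- The matrix units lie in every ring containing `SL(3, L)`. -/
theorem units_of_slOver (L : Subfield F) (R : Subring M₃) (h : ∀ g ∈ slOver L, (g : M₃) ∈ R) (i j : Fin 3) :
    Matrix.single i j (1 : F) ∈ R := by
  have hoff : ∀ a b : Fin 3, a ≠ b → Matrix.single a b (1 : F) ∈ R := fun a b hab => by
    have hmem : Matrix.SpecialLinearGroup.transvection hab (1 : F) ∈ slOver L := mem_slOver.2 fun s t => by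
      show (1 + Matrix.single a b (1 : F)) s t ∈ L
      refine L.add_mem ?_ ?_
      · rw [one_apply]; split_ifs <;> [exact L.one_mem; exact L.zero_mem]
      · rw [Matrix.single_apply]; split_ifs <;> [exact L.one_mem; exact L.zero_mem]
    have := R.sub_mem (h _ hmem) R.one_mem
    rwa [show ((Matrix.SpecialLinearGroup.transvection hab (1 : F) : SL₃) : M₃) = 1 + Matrix.single a b 1 from rfl,
      add_sub_cancel_left] at this
  rcases eq_or_ne i j with rfl | hij
  · obtain ⟨k, hk⟩ := exists_ne i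
    have := R.mul_mem (hoff i k hk.symm) (hoff k i hk)
    rwa [Matrix.single_mul_single_same, mul_one] at this
  · exact hoff i j hij

/-- The condition of preserving the form. -/
theorem mem_suOver_iff {M : Subfield F} {r : ℕ} (σ : F →+* F) (hσ : ∀ x, σ x = x ^ r) {g : SL₃} :
    g ∈ UFrame.suOver M r ↔ (∀ i j, (g : M₃) i j ∈ M) ∧ (g : M₃)ᵀ * (g : M₃).map σ = 1 := by
  let σ' : M →+* M := (σ.comp M.subtype).codRestrict M.toSubring fun x => by
    show σ (x : F) ∈ M; rw [hσ]; exact pow_mem x.2 r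
  have hσ' : ∀ x, σ' x = x ^ r := fun x => Subtype.ext (by show σ (x : F) = _; rw [hσ]; simp)
  have key : ∀ h : Matrix.SpecialLinearGroup (Fin 3) M,
      (h : Matrix (Fin 3) (Fin 3) M)ᵀ * (h : Matrix (Fin 3) (Fin 3) M).map σ' = 1 ↔
        ((h : Matrix (Fin 3) (Fin 3) M).map M.subtype)ᵀ * ((h : Matrix (Fin 3) (Fin 3) M).map M.subtype).map σ = 1 := by
    intro h
    rw [← (Matrix.map_injective M.subtype.injective).eq_iff, Matrix.map_mul, transpose_map, Matrix.map_map,
      Matrix.map_map, Matrix.map_one _ (map_zero _) (map_one _)]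
    exact Iff.rfl
  constructor
  · rintro ⟨h, hh, rfl⟩
    exact ⟨fun i j => (h.1 i j).2, (key h).1 ((UFrame.mem_su_iff σ' hσ').1 hh)⟩
  · rintro ⟨he, hJ⟩
    obtain ⟨h, rfl⟩ := mem_slOver.2 he
    exact ⟨h, (UFrame.mem_su_iff σ' hσ').2 ((key h).2 hJ), rfl⟩

theorem perm_mem {M : Subfield F} {r : ℕ} (σ : F →+* F) (hσ : ∀ x, σ x = x ^ r) (A : M₃)
    (he : ∀ i j, A i j ∈ M) (hfix : A.map σ = A) (ho : Aᵀ * A = 1) (hd : A.det = 1) :
    (⟨A, hd⟩ : SL₃) ∈ UFrame.suOver M r :=
  (mem_suOver_iff σ hσ).2 ⟨he, by rw [hfix]; exact ho⟩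

/-- The matrix units lie in every ring containing `SU(3, r)` and one half. -/
theorem units_of_suOver (h2 : (2 : F) ≠ 0) {M : Subfield F} {r : ℕ} (σ : F →+* F) (hσ : ∀ x, σ x = x ^ r)
    (R : Subring M₃) (h : ∀ g ∈ UFrame.suOver M r, (g : M₃) ∈ R) (hh : (2⁻¹ : F) • (1 : M₃) ∈ R) (i j : Fin 3) :
    Matrix.single i j (1 : F) ∈ R := by
  have mk : ∀ (A : M₃), (∀ i j, A i j = 0 ∨ A i j = 1 ∨ A i j = -1) → Aᵀ * A = 1 → A.det = 1 → A ∈ R := by
    intro A he ho hd
    refine h ⟨A, hd⟩ (perm_mem σ hσ A (fun i j => ?_) ?_ ho hd)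
    · rcases he i j with e | e | e <;> rw [e]
      exacts [M.zero_mem, M.one_mem, M.neg_mem M.one_mem]
    · ext i j
      rw [Matrix.map_apply]
      rcases he i j with e | e | e <;> simp [e]
  have d0 : (!![1, 0, 0; 0, -1, 0; 0, 0, -1] : M₃) ∈ R := mk _
    (fun i j => by fin_cases i <;> fin_cases j <;> simp)
    (by ext i j; fin_cases i <;> fin_cases j <;> simp [Matrix.mul_apply, Fin.sum_univ_three])
    (by simp [det_fin_three])
  have d1 : (!![-1, 0, 0; 0, 1, 0; 0, 0, -1] : M₃) ∈ R := mk _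
    (fun i j => by fin_cases i <;> fin_cases j <;> simp)
    (by ext i j; fin_cases i <;> fin_cases j <;> simp [Matrix.mul_apply, Fin.sum_univ_three])
    (by simp [det_fin_three])
  have w01 : (!![0, 1, 0; -1, 0, 0; 0, 0, 1] : M₃) ∈ R := mk _
    (fun i j => by fin_cases i <;> fin_cases j <;> simp)
    (by ext i j; fin_cases i <;> fin_cases j <;> simp [Matrix.mul_apply, Fin.sum_univ_three])
    (by simp [det_fin_three])
  have w12 : (!![1, 0, 0; 0, 0, 1; 0, -1, 0] : M₃) ∈ R := mk _
    (fun i j => by fin_cases i <;> fin_cases j <;> simp)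
    (by ext i j; fin_cases i <;> fin_cases j <;> simp [Matrix.mul_apply, Fin.sum_univ_three])
    (by simp [det_fin_three])
  have half : ∀ A : M₃, A ∈ R → (2⁻¹ : F) • A ∈ R := fun A hA => by
    have := R.mul_mem hh hA
    rwa [smul_mul_assoc, one_mul] at this
  have e00 : Matrix.single 0 0 (1 : F) ∈ R := by
    have := half _ (R.add_mem R.one_mem d0)
    convert this using 1
    ext i j; fin_cases i <;> fin_cases j <;> simp <;> field_simp <;> norm_num
  have e11 : Matrix.single 1 1 (1 : F) ∈ R := by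
    have := half _ (R.add_mem R.one_mem d1)
    convert this using 1
    ext i j; fin_cases i <;> fin_cases j <;> simp <;> field_simp <;> norm_num
  have e22 : Matrix.single 2 2 (1 : F) ∈ R := by
    have := R.sub_mem (R.sub_mem R.one_mem e00) e11
    convert this using 1
    ext i j; fin_cases i <;> fin_cases j <;> simp
  have e01 : Matrix.single 0 1 (1 : F) ∈ R := by
    have := R.mul_mem e00 w01
    convert this using 1
    ext i j; fin_cases i <;> fin_cases j <;> simp [Matrix.mul_apply, Fin.sum_univ_three]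
  have e10 : Matrix.single 1 0 (1 : F) ∈ R := by
    have := R.neg_mem (R.mul_mem e11 w01)
    convert this using 1
    ext i j; fin_cases i <;> fin_cases j <;> simp [Matrix.mul_apply, Fin.sum_univ_three]
  have e12 : Matrix.single 1 2 (1 : F) ∈ R := by
    have := R.mul_mem e11 w12
    convert this using 1
    ext i j; fin_cases i <;> fin_cases j <;> simp [Matrix.mul_apply, Fin.sum_univ_three]
  have e21 : Matrix.single 2 1 (1 : F) ∈ R := by
    have := R.neg_mem (R.mul_mem e22 w12)
    convert this using 1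
    ext i j; fin_cases i <;> fin_cases j <;> simp [Matrix.mul_apply, Fin.sum_univ_three]
  have e02 : Matrix.single 0 2 (1 : F) ∈ R := by
    have := R.mul_mem e01 e12
    rwa [Matrix.single_mul_single_same, mul_one] at this
  have e20 : Matrix.single 2 0 (1 : F) ∈ R := by
    have := R.mul_mem e21 e10
    rwa [Matrix.single_mul_single_same, mul_one] at this
  fin_cases i <;> fin_cases j <;> assumption

/-- Conjugates of the matrix units with entries in a subfield: a scalar multiple of a matrix over it. -/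
theorem exists_scalar_form {M : Subfield F} (g : SL₃)
    (h : ∀ i j a b : Fin 3, ((g : M₃) * Matrix.single i j (1 : F) * ((g⁻¹ : SL₃) : M₃) : M₃) a b ∈ M) :
    ∃ (c : F) (A : M₃), (∀ i j, A i j ∈ M) ∧ (g : M₃) = c • A ∧ c ≠ 0 := by
  obtain ⟨a, b, hab⟩ : ∃ a b, ((g⁻¹ : SL₃) : M₃) a b ≠ 0 := by
    by_contra hno
    push Not at hno
    have := (g⁻¹ : SL₃).2
    rw [show ((g⁻¹ : SL₃) : M₃) = 0 from Matrix.ext hno, det_zero] at this
    exact zero_ne_one this
  set k := ((g⁻¹ : SL₃) : M₃) a b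
  refine ⟨k⁻¹, k • (g : M₃), fun i j => ?_, by rw [smul_smul, inv_mul_cancel₀ hab, one_smul], inv_ne_zero hab⟩
  have e := h j a i b
  rw [single_eq, mul_vecMulVec, vecMulVec_mul, vecMulVec_apply, mulVec_single_one, single_one_vecMul] at e
  rw [Matrix.smul_apply, smul_eq_mul, mul_comm]
  exact e

/-- The ring of matrices carried into the subfield. -/
def carried (M : Subfield F) (g : SL₃) : Subring M₃ where
  carrier := {A | (g : M₃) * A * ((g⁻¹ : SL₃) : M₃) ∈ entries M}
  zero_mem' := by simp only [Set.mem_setOf_eq, mul_zero, zero_mul]; exact (entries M).zero_mem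
  one_mem' := by
    simp only [Set.mem_setOf_eq, mul_one, ← Matrix.SpecialLinearGroup.coe_mul, mul_inv_cancel,
      Matrix.SpecialLinearGroup.coe_one]
    exact (entries M).one_mem
  add_mem' := fun {a b} (ha : _ ∈ entries M) (hb : _ ∈ entries M) => by
    simp only [Set.mem_setOf_eq, mul_add, add_mul]
    exact (entries M).add_mem ha hb
  neg_mem' := fun {a} (ha : _ ∈ entries M) => by
    simp only [Set.mem_setOf_eq, mul_neg, neg_mul]
    exact (entries M).neg_mem ha
  mul_mem' := fun {a b} (ha : _ ∈ entries M) (hb : _ ∈ entries M) => by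
    simp only [Set.mem_setOf_eq]
    have := (entries M).mul_mem ha hb
    convert this using 1
    have e : ((g⁻¹ : SL₃) : M₃) * (g : M₃) = 1 := by
      rw [← Matrix.SpecialLinearGroup.coe_mul, inv_mul_cancel, Matrix.SpecialLinearGroup.coe_one]
    simp only [mul_assoc]
    rw [← mul_assoc ((g⁻¹ : SL₃) : M₃) (g : M₃), e, one_mul]

theorem scalar_of_units {X : M₃} (h : ∀ i j, X * Matrix.single i j (1 : F) = Matrix.single i j (1 : F) * X) :
    ∃ c : F, X = c • 1 := by
  obtain ⟨c, hc⟩ := Matrix.mem_range_scalar_of_commute_single fun i j _ => (h i j).symm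
  exact ⟨c, by rw [← hc, Matrix.scalar_apply, smul_one_eq_diagonal]⟩

/-- The centraliser ring of a matrix. -/
def commRing (X : M₃) : Subring M₃ := Subring.centralizer {X}

/-- The units of a subfield. -/
def unitsOf (M : Subfield F) : Subgroup Fˣ where
  carrier := {u | (u : F) ∈ M}
  one_mem' := M.one_mem
  mul_mem' := fun ha hb => M.mul_mem ha hb
  inv_mem' := fun {a} ha => by simpa using M.inv_mem ha

variable [Fintype F]

theorem card_unitsOf (M : Subfield F) : Nat.card (unitsOf M) = Nat.card M - 1 := by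
  classical
  rw [← Nat.card_units M]
  refine Nat.card_congr
    { toFun := fun u => Units.mk0 ⟨(u : Fˣ), u.2⟩ fun e => (u : Fˣ).ne_zero (congrArg Subtype.val e)
      invFun := fun w => ⟨Units.mk0 ((w : M) : F) fun e => w.ne_zero (Subtype.ext e), (w : M).2⟩
      left_inv := fun u => Subtype.ext (Units.ext rfl)
      right_inv := fun w => Units.ext (Subtype.ext rfl) }

/-- The model of `SL(3, L)`. -/
def linearModel (L : Subfield F) : Model (slOver L) where
  Adm A := ∀ i j, A i j ∈ L
  U := unitsOf L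
  mem_iff g := mem_slOver
  adm_mul _ _ hA hB := (entries L).mul_mem hA hB
  adm_smul _ _ hu hA i j := L.mul_mem hu (hA i j)
  adm_unique A d hd hdet hA hA' := by
    obtain ⟨i, j, hij⟩ : ∃ i j, A i j ≠ 0 := by
      by_contra hno
      push Not at hno
      exact hdet (by rw [show A = 0 from Matrix.ext hno, det_zero])
    refine ⟨Units.mk0 d hd, ?_, rfl⟩
    show d ∈ L
    have := L.div_mem (hA' i j) (hA i j)
    rwa [Matrix.smul_apply, smul_eq_mul, mul_div_assoc, div_self hij, mul_one] at this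
  adm_det A hdet hA := ⟨Units.mk0 _ hdet, det_mem hA, rfl⟩
  adm_center X h := scalar_of_units fun i j => by
    have := units_of_slOver L (commRing X) (fun g hg => Subring.mem_centralizer_iff.2 fun x hx => by
      rw [Set.mem_singleton_iff] at hx; rw [hx]; exact h g hg) i j
    exact Subring.mem_centralizer_iff.1 this X rfl

/-- A matrix normalising `SL(3, L)` is a scalar multiple of a matrix over `L`. -/
theorem linear_form (L : Subfield F) (g : SL₃) (hg : ∀ n ∈ slOver L, g * n * g⁻¹ ∈ slOver L) :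
    ∃ (c : F) (A : M₃), (linearModel L).Adm A ∧ (g : M₃) = c • A := by
  obtain ⟨c, A, hA, e, -⟩ := exists_scalar_form (M := L) g fun i j a b =>
    units_of_slOver L (carried L g) (fun n hn => by
      show (g : M₃) * n * ((g⁻¹ : SL₃) : M₃) ∈ entries L
      rw [← Matrix.SpecialLinearGroup.coe_mul, ← Matrix.SpecialLinearGroup.coe_mul]
      exact mem_slOver.1 (hg n hn)) i j a b
  exact ⟨c, A, hA, e⟩

theorem exists_sigma {M : Subfield F} {r p d : ℕ} [Fact p.Prime] [CharP F p] (hr : r = p ^ d) :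
    ∃ σ : F →+* F, (∀ x, σ x = x ^ r) ∧ (Nat.card M = r ^ 2 → ∀ x ∈ M, σ (σ x) = x) := by
  refine ⟨iterateFrobenius F p d, fun x => by rw [iterateFrobenius_def, hr], fun hM x hx => ?_⟩
  rw [iterateFrobenius_def, iterateFrobenius_def, ← pow_mul, ← hr, ← sq, ← hM]
  exact (mem_iff_pow_card M).1 hx

/-- The norm one units. -/
def normOne (M : Subfield F) (r : ℕ) : Subgroup Fˣ where
  carrier := {u | (u : F) ∈ M ∧ u ^ (r + 1) = 1}
  one_mem' := ⟨M.one_mem, one_pow _⟩
  mul_mem' := fun ha hb => ⟨M.mul_mem ha.1 hb.1, by rw [mul_pow, ha.2, hb.2, one_mul]⟩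
  inv_mem' := fun {a} ha => ⟨by simpa using M.inv_mem ha.1, by rw [inv_pow, ha.2, inv_one]⟩

theorem card_normOne {M : Subfield F} {r : ℕ} (hr : 2 ≤ r) (hM : Nat.card M = r ^ 2) :
    Nat.card (normOne M r) = r + 1 := by
  have hle : normOne M r ≤ unitsOf M := fun u hu => hu.1
  rw [← Nat.card_congr (Subgroup.subgroupOfEquivOfLe hle).toEquiv]
  have e : (normOne M r).subgroupOf (unitsOf M) = (powMonoidHom (r + 1) : unitsOf M →* unitsOf M).ker := by
    ext u
    rw [Subgroup.mem_subgroupOf, MonoidHom.mem_ker]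
    exact ⟨fun h => Subtype.ext h.2, fun h => ⟨u.2, congrArg Subtype.val h⟩⟩
  rw [e, IsCyclic.card_powMonoidHom_ker, card_unitsOf, hM]
  refine Nat.gcd_eq_right ⟨r - 1, ?_⟩
  rw [← Nat.sq_sub_sq r 1, one_pow]

theorem exists_norm {M : Subfield F} {r : ℕ} (hr : 2 ≤ r) (hM : Nat.card M = r ^ 2) {lam : F} (hl : lam ∈ M)
    (hl0 : lam ≠ 0) (hfix : lam ^ r = lam) : ∃ μ ∈ M, μ ^ (r + 1) = lam := by
  have hsq : r ^ 2 - 1 = (r + 1) * (r - 1) := by rw [← Nat.sq_sub_sq r 1, one_pow]
  let f : unitsOf M →* unitsOf M := powMonoidHom (r + 1)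
  let g : unitsOf M →* unitsOf M := powMonoidHom (r - 1)
  have hle : f.range ≤ g.ker := by
    rintro _ ⟨u, rfl⟩
    rw [MonoidHom.mem_ker]
    show (u ^ (r + 1)) ^ (r - 1) = 1
    rw [← pow_mul, ← hsq, ← hM, ← card_unitsOf, pow_card_eq_one']
  have he : f.range = g.ker := Subgroup.eq_of_le_of_card_ge hle (by
    rw [IsCyclic.card_powMonoidHom_ker, IsCyclic.card_powMonoidHom_range, card_unitsOf, hM, hsq,
      Nat.gcd_eq_right (dvd_mul_left _ _), Nat.gcd_eq_right (dvd_mul_right _ _),
      Nat.mul_div_cancel_left _ (by omega)])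
  have hmem : (⟨Units.mk0 lam hl0, hl⟩ : unitsOf M) ∈ g.ker := by
    rw [MonoidHom.mem_ker]
    refine Subtype.ext (Units.ext ?_)
    show lam ^ (r - 1) = 1
    refine mul_right_cancel₀ hl0 ?_
    rw [← pow_succ, Nat.sub_add_cancel (by omega : 1 ≤ r), one_mul, hfix]
  obtain ⟨u, hu⟩ := he ▸ hmem
  exact ⟨((u : Fˣ) : F), u.2, congrArg (fun v : unitsOf M => ((v : Fˣ) : F)) hu⟩

/-- The model of `SU(3, r)`. -/
def unitaryModel (h2 : (2 : F) ≠ 0) {M : Subfield F} {r : ℕ} (σ : F →+* F) (hσ : ∀ x, σ x = x ^ r)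
    (hM : Nat.card M = r ^ 2) (hss : ∀ x ∈ M, σ (σ x) = x) : Model (UFrame.suOver M r) where
  Adm A := (∀ i j, A i j ∈ M) ∧ Aᵀ * A.map σ = 1
  U := normOne M r
  mem_iff g := mem_suOver_iff σ hσ
  adm_mul A B hA hB := ⟨(entries M).mul_mem hA.1 hB.1, by
    rw [transpose_mul, Matrix.map_mul, mul_assoc, ← mul_assoc Aᵀ, hA.2, one_mul, hB.2]⟩
  adm_smul A u hu hA := ⟨fun i j => M.mul_mem hu.1 (hA.1 i j), by
    rw [transpose_smul, Matrix.map_smul' _ _ _ (map_mul σ), smul_mul_smul_comm, hA.2, hσ, ← pow_succ',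
      ← Units.val_pow_eq_pow_val, hu.2, Units.val_one, one_smul]⟩
  adm_unique A d hd hdet hA hA' := by
    obtain ⟨i, j, hij⟩ : ∃ i j, A i j ≠ 0 := by
      by_contra hno
      push Not at hno
      exact hdet (by rw [show A = 0 from Matrix.ext hno, det_zero])
    have h1 := hA'.2
    rw [transpose_smul, Matrix.map_smul' _ _ _ (map_mul σ), smul_mul_smul_comm, hA.2, hσ, ← pow_succ'] at h1
    refine ⟨Units.mk0 d hd, ⟨?_, ?_⟩, rfl⟩
    · have := M.div_mem (hA'.1 i j) (hA.1 i j)
      rwa [Matrix.smul_apply, smul_eq_mul, mul_div_assoc, div_self hij, mul_one] at this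
    · refine Units.ext ?_
      have := congrFun (congrFun h1 0) 0
      simpa using this
  adm_det A hdet hA := ⟨Units.mk0 _ hdet, ⟨det_mem hA.1, by
    refine Units.ext ?_
    have h := congrArg Matrix.det hA.2
    rw [det_mul, det_transpose, det_one, ← RingHom.mapMatrix_apply, ← RingHom.map_det, hσ, ← pow_succ'] at h
    simpa using h⟩, rfl⟩
  adm_center X h := scalar_of_units fun i j => by
    have := units_of_suOver h2 σ hσ (commRing X) (fun g hg => Subring.mem_centralizer_iff.2 fun x hx => by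
      rw [Set.mem_singleton_iff] at hx; rw [hx]; exact h g hg)
      (Subring.mem_centralizer_iff.2 fun x _ => by rw [mul_smul_comm, mul_one, smul_mul_assoc, one_mul]) i j
    exact Subring.mem_centralizer_iff.1 this X rfl

/-- A matrix normalising `SU(3, r)` is a scalar multiple of a unitary matrix over `M`. -/
theorem unitary_form (h2 : (2 : F) ≠ 0) {M : Subfield F} {r : ℕ} (hr : 2 ≤ r) (σ : F →+* F)
    (hσ : ∀ x, σ x = x ^ r) (hM : Nat.card M = r ^ 2) (hss : ∀ x ∈ M, σ (σ x) = x) (g : SL₃)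
    (hg : ∀ n ∈ UFrame.suOver M r, g * n * g⁻¹ ∈ UFrame.suOver M r) :
    ∃ (c : F) (A : M₃), (unitaryModel h2 σ hσ hM hss).Adm A ∧ (g : M₃) = c • A := by
  classical
  have hhalf : (2⁻¹ : F) • (1 : M₃) ∈ carried M g := by
    show (g : M₃) * ((2⁻¹ : F) • 1) * ((g⁻¹ : SL₃) : M₃) ∈ entries M
    rw [mul_smul_comm, mul_one, smul_mul_assoc, ← Matrix.SpecialLinearGroup.coe_mul, mul_inv_cancel,
      Matrix.SpecialLinearGroup.coe_one]
    intro i j
    rw [Matrix.smul_apply, smul_eq_mul, one_apply]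
    have h2M : (2 : F) ∈ M := by exact_mod_cast natCast_mem M 2
    split_ifs <;> simp [M.inv_mem h2M, M.zero_mem]
  obtain ⟨c, A, hA, e, hc⟩ := exists_scalar_form (M := M) g fun i j a b =>
    units_of_suOver h2 σ hσ (carried M g) (fun n hn => by
      show (g : M₃) * n * ((g⁻¹ : SL₃) : M₃) ∈ entries M
      rw [← Matrix.SpecialLinearGroup.coe_mul, ← Matrix.SpecialLinearGroup.coe_mul]
      exact ((mem_suOver_iff σ hσ).1 (hg n hn)).1) hhalf i j a b
  have hAdet : A.det ≠ 0 := fun e0 => by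
    have := g.2
    rw [e, det_smul, e0, mul_zero] at this
    exact zero_ne_one this
  set J := Aᵀ * A.map σ with hJ
  -- the form commutes with the unitary group
  have h4 : ∀ n ∈ UFrame.suOver M r, J * (n : M₃).map σ = (n : M₃).map σ * J := by
    intro n hn
    obtain ⟨-, hnu⟩ := (mem_suOver_iff σ hσ).1 hn
    set n' : SL₃ := g * n * g⁻¹
    obtain ⟨-, hn'u⟩ := (mem_suOver_iff σ hσ).1 (hg n hn)
    have h1 : (n' : M₃) * A = A * (n : M₃) := by
      have : n' * g = g * n := inv_mul_cancel_right _ g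
      have h := congrArg (fun x : SL₃ => (x : M₃)) this
      simp only [Matrix.SpecialLinearGroup.coe_mul, e, mul_smul_comm, smul_mul_assoc] at h
      exact smul_right_injective _ hc h
    have h3 : (n : M₃)ᵀ * J * (n : M₃).map σ = J := by
      calc (n : M₃)ᵀ * J * (n : M₃).map σ = (A * (n : M₃))ᵀ * (A * (n : M₃)).map σ := by
            rw [transpose_mul, Matrix.map_mul, hJ]; simp only [mul_assoc]
        _ = ((n' : M₃) * A)ᵀ * ((n' : M₃) * A).map σ := by rw [h1]
        _ = Aᵀ * ((n' : M₃)ᵀ * (n' : M₃).map σ) * A.map σ := by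
            rw [transpose_mul, Matrix.map_mul]; simp only [mul_assoc]
        _ = J := by rw [hn'u, mul_one]
    have hnm : ((n : M₃).map σ) * (n : M₃)ᵀ = 1 := mul_eq_one_comm.1 hnu
    conv_rhs => rw [← h3, ← mul_assoc, ← mul_assoc, hnm, one_mul]
  have hcomm : ∀ n ∈ UFrame.suOver M r, J * (n : M₃) = (n : M₃) * J := by
    intro n hn
    obtain ⟨hne, hnu⟩ := (mem_suOver_iff σ hσ).1 hn
    have hnn : ((n : M₃).map σ).map σ = (n : M₃) := Matrix.ext fun i j => hss _ (hne i j)
    have hd : ((n : M₃).map σ).det = 1 := by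
      rw [← RingHom.mapMatrix_apply, ← RingHom.map_det, n.2, map_one]
    have hmem : (⟨(n : M₃).map σ, hd⟩ : SL₃) ∈ UFrame.suOver M r := by
      refine (mem_suOver_iff σ hσ).2 ⟨fun i j => ?_, ?_⟩
      · show σ ((n : M₃) i j) ∈ M
        rw [hσ]; exact pow_mem (hne i j) r
      · show ((n : M₃).map σ)ᵀ * ((n : M₃).map σ).map σ = 1
        rw [← transpose_map, ← Matrix.map_mul, hnu, Matrix.map_one _ (map_zero σ) (map_one σ)]
    have h := h4 _ hmem
    change J * ((n : M₃).map σ).map σ = ((n : M₃).map σ).map σ * J at h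
    rwa [hnn] at h
  obtain ⟨lam, hlam⟩ := (unitaryModel h2 σ hσ hM hss).adm_center J fun n hn => hcomm n hn
  have hl : lam ∈ M := by
    have := (entries M).mul_mem (x := Aᵀ) (y := A.map σ) (fun i j => hA j i) (fun i j => by
      rw [Matrix.map_apply, hσ]; exact pow_mem (hA i j) r) 0 0
    rwa [← hJ, hlam, Matrix.smul_apply, one_apply_eq, smul_eq_mul, mul_one] at this
  have hl0 : lam ≠ 0 := fun e0 => by
    have := congrArg Matrix.det hlam
    rw [e0, zero_smul, det_zero, hJ, det_mul, det_transpose, ← RingHom.mapMatrix_apply, ← RingHom.map_det] at this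
    exact mul_ne_zero hAdet ((_root_.map_ne_zero σ).2 hAdet) this
  have hfix : lam ^ r = lam := by
    have h := congrArg (fun X : M₃ => X.map σ) hlam
    have hJJ : J.map σ = Jᵀ := by
      rw [hJ, Matrix.map_mul, transpose_mul, transpose_transpose, Matrix.map_map, transpose_map,
        show A.map (⇑σ ∘ ⇑σ) = A from Matrix.ext fun i j => hss _ (hA i j)]
    replace h : Jᵀ = (lam • (1 : M₃)).map σ := hJJ.symm.trans h
    rw [hlam] at h
    have := congrFun (congrFun h 0) 0
    simpa [hσ] using this.symm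
  obtain ⟨μ, hμM, hμ⟩ := exists_norm hr hM hl hl0 hfix
  have hμ0 : μ ≠ 0 := fun e0 => hl0 (by rw [← hμ, e0, zero_pow (Nat.succ_ne_zero r)])
  refine ⟨c * μ, μ⁻¹ • A, ⟨fun i j => M.mul_mem (M.inv_mem hμM) (hA i j), ?_⟩, ?_⟩
  · rw [transpose_smul, Matrix.map_smul' _ _ _ (map_mul σ), smul_mul_smul_comm, ← hJ, hlam, smul_smul, hσ,
      ← pow_succ', inv_pow, hμ, inv_mul_cancel₀ hl0, one_smul]
  · rw [e, smul_smul, mul_assoc, mul_inv_cancel₀ hμ0, mul_one]

end Cfsg.Agent.Classical.Bloom
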