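import Cfsg.Agent.Lib.Classical.Bloom.Rank

/-!
Groups embedded in `PSL(3, F)` without transvections: unipotent elements are regular, involution centralisers have
order prime to the characteristic and embed in `GL(2, F)`.
-/

set_option autoImplicit false

namespace Cfsg.Agent.Classical.Bloom

open Matrix

variable {F : Type*} [Field F]

local notation "SL₃" => Matrix.SpecialLinearGroup (Fin 3) F
local notation "PSL₃" => Matrix.ProjectiveSpecialLinearGroup (Fin 3) F
local notation "M₃" => Matrix (Fin 3) (Fin 3) F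
local notation "M₂" => Matrix (Fin 2) (Fin 2) F

/-- An embedding without transvections in the preimage. -/
def TvFree {G : Type*} [Group G] (f : G →* PSL₃) : Prop :=
  Function.Injective f ∧ ¬ (tvs (f.range.comap pr)).Nonempty

theorem TvFree.comp {G K : Type*} [Group G] [Group K] {f : G →* PSL₃} (h : TvFree f) {i : K →* G}
    (hi : Function.Injective i) : TvFree (f.comp i) := by
  refine ⟨h.1.comp hi, fun ⟨g, hg, hv⟩ => h.2 ⟨g, ?_, hv⟩⟩
  obtain ⟨k, hk⟩ := hg
  exact ⟨i k, hk⟩

theorem exists_vecMulVec_of_sq_zero {N : M₃} (hN : N ≠ 0) (h2 : N * N = 0) :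
    ∃ v φ : Fin 3 → F, v ≠ 0 ∧ φ ≠ 0 ∧ φ ⬝ᵥ v = 0 ∧ N = vecMulVec v φ := by
  obtain ⟨i, j, hij⟩ : ∃ i j, N i j ≠ 0 := by
    by_contra hno
    push Not at hno
    exact hN (Matrix.ext hno)
  set v : Fin 3 → F := fun k => N k j with hv
  have hv0 : v ≠ 0 := fun e => hij (congrFun e i)
  have hker : N *ᵥ v = 0 := by
    funext k
    have := congrFun (congrFun h2 k) j
    rwa [mul_apply] at this
  -- the image is a line
  have hrk : N.rank ≤ 1 := by
    have h := LinearMap.finrank_range_add_finrank_ker N.mulVecLin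
    have hle : LinearMap.range N.mulVecLin ≤ LinearMap.ker N.mulVecLin := by
      rintro _ ⟨x, rfl⟩
      rw [LinearMap.mem_ker, mulVecLin_apply, mulVecLin_apply, mulVec_mulVec, h2, zero_mulVec]
    have := Submodule.finrank_mono hle
    rw [Module.finrank_fin_fun] at h
    rw [Matrix.rank]
    omega
  have hcol : ∀ l, ∃ c : F, (fun k => N k l) = c • v := by
    intro l
    by_contra hno
    push Not at hno
    have hli : LinearIndependent F ![v, fun k => N k l] := by
      rw [LinearIndependent.pair_iff' hv0]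
      exact fun c e => hno c e.symm
    have hsub : Submodule.span F (Set.range ![v, fun k => N k l]) ≤ LinearMap.range N.mulVecLin := by
      rw [Submodule.span_le]
      rintro _ ⟨a, rfl⟩
      fin_cases a
      · exact ⟨Pi.single j 1, by funext k; simp [hv, mulVecLin_apply, mulVec_single_one]⟩
      · exact ⟨Pi.single l 1, by funext k; simp [mulVecLin_apply, mulVec_single_one]⟩
    have := Submodule.finrank_mono hsub
    rw [finrank_span_eq_card hli] at this
    simp only [Fintype.card_fin] at this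
    rw [Matrix.rank] at hrk
    omega
  choose φ hφ using hcol
  have hN' : N = vecMulVec v φ := Matrix.ext fun k l => by
    rw [vecMulVec_apply, mul_comm]
    exact congrFun (hφ l) k
  refine ⟨v, φ, hv0, fun e => hN (by rw [hN', e, Matrix.vecMulVec_zero]), ?_, hN'⟩
  rw [hN', vecMulVec_mulVec] at hker
  have := congrFun hker i
  simp only [Pi.smul_apply, op_smul_eq_smul, smul_eq_mul, Pi.zero_apply, mul_eq_zero] at this
  exact this.resolve_right hij

/-- Vectors of a regular nilpotent matrix. -/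
theorem exists_chain {N : M₃} (hN3 : N * N * N = 0) (hN2 : N * N ≠ 0) :
    ∃ v : Fin 3 → F, LinearIndependent F ![v, N *ᵥ v, N *ᵥ (N *ᵥ v)] := by
  obtain ⟨v, hv⟩ : ∃ v, N *ᵥ (N *ᵥ v) ≠ 0 := by
    by_contra hno
    push Not at hno
    exact hN2 (Matrix.ext_iff_mulVec.2 fun v => by rw [← mulVec_mulVec, hno, zero_mulVec])
  refine ⟨v, ?_⟩
  rw [Fintype.linearIndependent_iff]
  intro g hg
  rw [Fin.sum_univ_three] at hg
  simp only [Matrix.cons_val_zero, Matrix.cons_val_one, Matrix.cons_val] at hg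
  have h3 : N *ᵥ (N *ᵥ (N *ᵥ v)) = 0 := by rw [mulVec_mulVec, mulVec_mulVec, hN3, zero_mulVec]
  have e1 := congrArg (N *ᵥ ·) hg
  simp only [mulVec_add, mulVec_smul, h3, smul_zero, add_zero, mulVec_zero] at e1
  have e2 := congrArg (N *ᵥ ·) e1
  simp only [mulVec_add, mulVec_smul, h3, smul_zero, add_zero, mulVec_zero] at e2
  have g0 : g 0 = 0 := (smul_eq_zero.1 e2).resolve_right hv
  rw [g0, zero_smul, zero_add] at e1
  have g1 : g 1 = 0 := (smul_eq_zero.1 e1).resolve_right hv
  rw [g0, g1, zero_smul, zero_smul, zero_add, zero_add] at hg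
  have g2 : g 2 = 0 := (smul_eq_zero.1 hg).resolve_right hv
  intro i; fin_cases i <;> assumption

/-- The centraliser of a regular nilpotent matrix consists of polynomials in it. -/
theorem regular_commute {N X : M₃} (hN3 : N * N * N = 0) (hN2 : N * N ≠ 0) (hX : X * N = N * X) :
    ∃ a b c : F, X = a • 1 + b • N + c • (N * N) := by
  obtain ⟨v, hli⟩ := exists_chain hN3 hN2
  let B := basisOfLinearIndependentOfCardEqFinrank hli (by simp)
  have hB : (B : Fin 3 → Fin 3 → F) = ![v, N *ᵥ v, N *ᵥ (N *ᵥ v)] := coe_basisOfLinearIndependentOfCardEqFinrank _ _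
  set a := B.repr (X *ᵥ v) 0
  set b := B.repr (X *ᵥ v) 1
  set c := B.repr (X *ᵥ v) 2
  set Y := a • (1 : M₃) + b • N + c • (N * N) with hY
  have h0 : X *ᵥ v = Y *ᵥ v := by
    have := B.sum_repr (X *ᵥ v)
    rw [Fin.sum_univ_three, hB] at this
    rw [← this, hY, add_mulVec, add_mulVec, smul_mulVec, smul_mulVec, smul_mulVec, one_mulVec, ← mulVec_mulVec]
    rfl
  have hYN : Y * N = N * Y := by
    rw [hY]; simp only [add_mul, mul_add, smul_mul_assoc, mul_smul_comm, one_mul, mul_one, mul_assoc]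
  refine ⟨a, b, c, ?_⟩
  have hXw : ∀ w, X *ᵥ (N *ᵥ w) = N *ᵥ (X *ᵥ w) := fun w => by rw [mulVec_mulVec, hX, mulVec_mulVec]
  have hYw : ∀ w, Y *ᵥ (N *ᵥ w) = N *ᵥ (Y *ᵥ w) := fun w => by rw [mulVec_mulVec, hYN, mulVec_mulVec]
  have hbasis : ∀ i, X *ᵥ (B i) = Y *ᵥ (B i) := by
    intro i
    rw [hB]
    fin_cases i
    · exact h0
    · show X *ᵥ (N *ᵥ v) = Y *ᵥ (N *ᵥ v)
      rw [hXw, hYw, h0]
    · show X *ᵥ (N *ᵥ (N *ᵥ v)) = Y *ᵥ (N *ᵥ (N *ᵥ v))
      rw [hXw, hYw, hXw, hYw, h0]
  have := B.ext (f₁ := X.mulVecLin) (f₂ := Y.mulVecLin) hbasis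
  exact Matrix.ext_iff_mulVec.2 fun w => LinearMap.congr_fun this w

variable {G : Type*} [Group G] {f : G →* Matrix.ProjectiveSpecialLinearGroup (Fin 3) F}

/-- A unipotent lift is regular. -/
theorem regular_lift (p : ℕ) [Fact p.Prime] [CharP F p] (hf : TvFree f) {x : G} (hx : orderOf x = p) :
    ∃ u : SL₃, pr u = f x ∧ u ^ p = 1 ∧
      ((u : M₃) - 1) * ((u : M₃) - 1) * ((u : M₃) - 1) = 0 ∧ ((u : M₃) - 1) * ((u : M₃) - 1) ≠ 0 := by
  have hxp : (f x) ^ p = 1 := by rw [← map_pow, ← hx, pow_orderOf_eq_one, map_one]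
  obtain ⟨u, hu, hup⟩ := exists_lift (free_char p) hxp
  refine ⟨u, hu, hup, ?_, fun h2 => hf.2 ?_⟩
  · have hnil : IsNilpotent ((u : M₃) - 1) := by
      refine ⟨p, ?_⟩
      haveI : CharP M₃ p := Matrix.charP (n := Fin 3) (R := F) p
      rw [sub_pow_char_of_commute _ (Commute.one_right _), one_pow, ← Matrix.SpecialLinearGroup.coe_pow, hup,
        Matrix.SpecialLinearGroup.coe_one, sub_self]
    have hch := Matrix.aeval_self_charpoly ((u : M₃) - 1)
    have hpoly := (Matrix.isNilpotent_charpoly_sub_pow_of_isNilpotent hnil).eq_zero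
    rw [sub_eq_zero.1 hpoly, map_pow, Polynomial.aeval_X, Fintype.card_fin] at hch
    rw [← hch, pow_succ, pow_succ, pow_one]
  · have hne : (u : M₃) - 1 ≠ 0 := fun e => by
      have : u = 1 := Subtype.ext (sub_eq_zero.1 e)
      rw [this, map_one] at hu
      rw [hf.1 (hu.symm.trans (map_one f).symm), orderOf_one] at hx
      exact (Fact.out : p.Prime).ne_one hx.symm
    obtain ⟨v, φ, hv, hφ, hi, e⟩ := exists_vecMulVec_of_sq_zero hne h2
    exact ⟨u, ⟨x, hu.symm⟩, v, φ, hv, hφ, hi, by rw [← e, add_sub_cancel]⟩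

/-- No element of order the characteristic commutes with an involution. -/
theorem no_char_commute (p : ℕ) [Fact p.Prime] [CharP F p] (hp2 : p ≠ 2) (hf : TvFree f) {x t : G}
    (hx : orderOf x = p) (ht : orderOf t = 2) (hc : Commute x t) : False := by
  have h2 : (2 : F) ≠ 0 := fun e => hp2 ((Nat.prime_dvd_prime_iff_eq Fact.out Nat.prime_two).1
    ((CharP.cast_eq_zero_iff F p 2).1 (by exact_mod_cast e)))
  obtain ⟨u, hu, hup, h3, hsq⟩ := regular_lift p hf hx
  obtain ⟨s, hs, hs2⟩ := exists_lift (F := F) free_two (x := f t)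
    (by rw [← map_pow, ← ht, pow_orderOf_eq_one, map_one])
  have hcu : u * s = s * u := commute_of_pr free_two hs2 (by rw [hu, hs]; exact hc.map f)
  have hsN : (s : M₃) * ((u : M₃) - 1) = ((u : M₃) - 1) * (s : M₃) := by
    rw [mul_sub, sub_mul, mul_one, one_mul, ← Matrix.SpecialLinearGroup.coe_mul, ← hcu,
      Matrix.SpecialLinearGroup.coe_mul]
  obtain ⟨a, b, c, e⟩ := regular_commute h3 hsq hsN
  obtain ⟨v, hli⟩ := exists_chain h3 hsq
  set N := (u : M₃) - 1
  have hss : (s : M₃) * (s : M₃) = 1 := by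
    rw [← Matrix.SpecialLinearGroup.coe_mul, ← pow_two, hs2, Matrix.SpecialLinearGroup.coe_one]
  have hN4 : N * N * N * N = 0 := by rw [h3, zero_mul]
  rw [e] at hss
  have key : (a * a - 1) • v + (2 * (a * b)) • (N *ᵥ v) + (b * b + 2 * (a * c)) • (N *ᵥ (N *ᵥ v)) = 0 := by
    have h := congrArg (· *ᵥ v) hss
    simp only [add_mul, mul_add, smul_mul_assoc, mul_smul_comm, one_mul, mul_one, smul_smul, ← mul_assoc, h3, hN4,
      smul_zero, add_zero, add_mulVec, smul_mulVec, one_mulVec, ← mulVec_mulVec] at h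
    rw [← sub_eq_zero] at h
    rw [← h]
    module
  rw [Fintype.linearIndependent_iff] at hli
  have hcoef := hli ![a * a - 1, 2 * (a * b), b * b + 2 * (a * c)] (by rw [Fin.sum_univ_three]; simpa using key)
  have ea : a * a = 1 := sub_eq_zero.1 (by simpa using hcoef 0)
  have ha0 : a ≠ 0 := fun e0 => by rw [e0, mul_zero] at ea; exact zero_ne_one ea
  have eb : b = 0 := by simpa [h2, ha0] using hcoef 1
  have ec : c = 0 := by
    have h := hcoef 2
    simp [eb, h2, ha0] at h
    exact h
  rw [eb, ec, zero_smul, zero_smul, add_zero, add_zero] at e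
  have h1 : pr s = 1 := pr_eq_one.2 ⟨a, by have := s.2; rwa [e, det_smul, det_one, mul_one, Fintype.card_fin] at this, e⟩
  rw [hs] at h1
  rw [hf.1 (h1.trans (map_one f).symm), orderOf_one] at ht
  omega

variable [Finite G]

theorem not_dvd_centralizer (p : ℕ) [Fact p.Prime] [CharP F p] (hp2 : p ≠ 2) (hf : TvFree f) {t : G}
    (ht : orderOf t = 2) : ¬ p ∣ Nat.card (Subgroup.centralizer ({t} : Set G)) := by
  intro h
  obtain ⟨x, hx⟩ := exists_prime_orderOf_dvd_card' p h
  exact no_char_commute p hp2 hf (x := (x : G)) (by rwa [Subgroup.orderOf_coe]) ht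
    (Subgroup.mem_centralizer_singleton_iff.1 x.2)

/-- An involution lies in a four-group. -/
theorem exists_partner {t : G} (ht : orderOf t = 2) (hE : ∃ E : Subgroup G, IsKleinFour E) :
    ∃ e : G, orderOf e = 2 ∧ e ≠ t ∧ Commute e t := by
  classical
  haveI : Fact (Nat.Prime 2) := ⟨Nat.prime_two⟩
  obtain ⟨E, hE⟩ := hE
  have hP : IsPGroup 2 (Subgroup.zpowers t) := IsPGroup.of_card (n := 1) (by rw [Nat.card_zpowers, ht, pow_one])
  obtain ⟨S, hS⟩ := hP.exists_le_sylow
  have htS : t ∈ (S : Subgroup G) := hS (Subgroup.mem_zpowers t)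
  haveI : Nontrivial (S : Subgroup G) := ⟨⟨⟨t, htS⟩, 1, fun e => by
    rw [show t = 1 from congrArg Subtype.val e, orderOf_one] at ht; omega⟩⟩
  haveI : Nontrivial (Subgroup.center (S : Subgroup G)) := S.2.center_nontrivial
  obtain ⟨z, hz⟩ := exists_prime_orderOf_dvd_card' (G := Subgroup.center (S : Subgroup G)) 2 (by
    obtain ⟨j, hj⟩ := IsPGroup.iff_card.mp (S.2.to_subgroup (Subgroup.center (S : Subgroup G)))
    rw [hj]
    exact dvd_pow_self 2 fun e => by
      have := Finite.one_lt_card (α := Subgroup.center (S : Subgroup G))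
      rw [hj, e, pow_zero] at this; omega)
  have hzo : orderOf (((z : (S : Subgroup G)) : G)) = 2 := by rw [Subgroup.orderOf_coe, Subgroup.orderOf_coe, hz]
  have hzc : ∀ s ∈ (S : Subgroup G), Commute (((z : (S : Subgroup G)) : G)) s := fun s hs =>
    (congrArg Subtype.val (Subgroup.mem_center_iff.1 z.2 ⟨s, hs⟩)).symm
  by_cases hzt : ((z : (S : Subgroup G)) : G) = t
  · -- a conjugate of the four-group in the same Sylow subgroup
    haveI := hE
    have hEP : IsPGroup 2 E := IsPGroup.of_card (n := 2) (by rw [IsKleinFour.card_four]; norm_num)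
    obtain ⟨T, hT⟩ := hEP.exists_le_sylow
    obtain ⟨g, hg⟩ := MulAction.exists_smul_eq G T S
    haveI : Finite E := Nat.finite_of_card_ne_zero (by rw [IsKleinFour.card_four]; norm_num)
    haveI : Fintype E := Fintype.ofFinite E
    obtain ⟨e, he1, het⟩ : ∃ e : E, e ≠ 1 ∧ g * (e : G) * g⁻¹ ≠ t := by
      by_contra hno
      push Not at hno
      obtain ⟨x, hx⟩ := Fintype.exists_ne_of_one_lt_card (by
        rw [← Nat.card_eq_fintype_card, IsKleinFour.card_four]; norm_num) (1 : E)
      have hsub : (Finset.univ : Finset E) ⊆ {1, x} := fun y _ => by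
        rw [Finset.mem_insert, Finset.mem_singleton]
        refine (em (y = 1)).imp_right fun hy => Subtype.ext ?_
        have := (hno y hy).trans (hno x hx).symm
        exact mul_left_cancel (mul_right_cancel this)
      have := (Finset.card_le_card hsub).trans Finset.card_le_two
      rw [Finset.card_univ, ← Nat.card_eq_fintype_card, IsKleinFour.card_four] at this
      omega
    have he2 : (e : G) ^ 2 = 1 := by
      have h := Monoid.pow_exponent_eq_one e
      rw [IsKleinFour.exponent_two] at h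
      exact congrArg Subtype.val h
    have hmem : g * (e : G) * g⁻¹ ∈ (S : Subgroup G) := by
      rw [← hg]; exact ⟨e, hT e.2, rfl⟩
    exact ⟨g * (e : G) * g⁻¹, orderOf_eq_prime (by rw [conj_pow, he2, mul_one, mul_inv_cancel])
      (fun h => he1 (Subtype.ext (conj_eq_one_iff.1 h))), het, (hzt ▸ hzc _ hmem).symm⟩
  · exact ⟨_, hzo, hzt, hzc t htS⟩

omit [Finite G] in
theorem exists_frame_invol [Finite F] (h2 : (2 : F) ≠ 0) (hf : Function.Injective f) {t e : G} (ht : orderOf t = 2)
    (he : orderOf e = 2) (hne : e ≠ t) (hc : Commute e t) :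
    ∃ (P : GL (Fin 3) F) (a b : SL₃), pr a = f t ∧ pr b = f e ∧ a * a = 1 ∧ b * b = 1 ∧
      (conjGL P a : M₃) = diagonal ![1, -1, -1] ∧ (conjGL P b : M₃) = diagonal ![-1, 1, -1] := by
  have hsq : ∀ {z : G}, orderOf z = 2 → (f z) ^ 2 = 1 := fun {z} hz => by
    rw [← map_pow, ← hz, pow_orderOf_eq_one, map_one]
  have hne1 : ∀ {z : G}, orderOf z = 2 → f z ≠ 1 := fun {z} hz h => by
    rw [hf (h.trans (map_one f).symm), orderOf_one] at hz; omega
  obtain ⟨a, hpa, ha⟩ := exists_lift (F := F) free_two (hsq ht)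
  obtain ⟨b, hpb, hb⟩ := exists_lift (F := F) free_two (hsq he)
  have hab : a * b = b * a := commute_of_pr free_two hb (by rw [hpa, hpb]; exact (hc.map f).symm)
  rw [pow_two] at ha hb
  obtain ⟨P, hPa, hPb⟩ := exists_frame_pair h2 ha hb hab
    (fun h => hne1 ht (by rw [← hpa, h, map_one])) (fun h => hne1 he (by rw [← hpb, h, map_one]))
    (fun h => hne (hf (by rw [← hpa, ← hpb, h])))
  exact ⟨P, a, b, hpa, hpb, ha, hb, hPa, hPb⟩

omit [Finite G] in
/-- The block shape of what commutes with the first frame involution. -/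
theorem block_shape (h2 : (2 : F) ≠ 0) {g : M₃}
    (h : g * diagonal ![1, -1, -1] = diagonal ![1, -1, -1] * g) :
    g 0 1 = 0 ∧ g 0 2 = 0 ∧ g 1 0 = 0 ∧ g 2 0 = 0 := by
  have hsign : ∀ x : F, x = -x → x = 0 := fun x e =>
    (mul_eq_zero.1 (show (2 : F) * x = 0 by linear_combination e)).resolve_left h2
  have e : ∀ i j, g i j * (![1, -1, -1] : Fin 3 → F) j = (![1, -1, -1] : Fin 3 → F) i * g i j := fun i j => by
    have := congrFun (congrFun h i) j
    rwa [mul_diagonal, diagonal_mul] at this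
  refine ⟨?_, ?_, ?_, ?_⟩
  · have := e 0 1; simp at this; exact hsign _ this.symm
  · have := e 0 2; simp at this; exact hsign _ this.symm
  · have := e 1 0; simp at this; exact hsign _ this
  · have := e 2 0; simp at this; exact hsign _ this

/-- The normalised lower block. -/
def lowerBlock (A : M₃) : M₂ := Matrix.of fun i j => A i.succ j.succ / A 0 0

omit [Finite G] in
/-- The centraliser of an involution embeds in `GL(2, F)` by the normalised lower block of the frame. -/
theorem exists_blockHom [Finite F] (h2 : (2 : F) ≠ 0) (hf : Function.Injective f) {t : G} {P : GL (Fin 3) F}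
    {a : SL₃} (hpa : pr a = f t) (ha : a * a = 1) (hPa : (conjGL P a : M₃) = diagonal ![1, -1, -1]) :
    ∃ ψ : Subgroup.centralizer ({t} : Set G) →* GL (Fin 2) F, Function.Injective ψ ∧
      ∀ (x : Subgroup.centralizer ({t} : Set G)) (g : SL₃), pr g = f x →
        (ψ x : M₂) = lowerBlock (conjGL P g : M₃) ∧ (conjGL P g : M₃) 0 1 = 0 ∧ (conjGL P g : M₃) 0 2 = 0 ∧
          (conjGL P g : M₃) 1 0 = 0 ∧ (conjGL P g : M₃) 2 0 = 0 ∧ (conjGL P g : M₃) 0 0 ≠ 0 := by
  classical
  set C := Subgroup.centralizer ({t} : Set G)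
  choose l hl using fun x : C => pr_surjective (f x)
  have hshape : ∀ (x : C) (g : SL₃), pr g = f x → (conjGL P g : M₃) 0 1 = 0 ∧ (conjGL P g : M₃) 0 2 = 0 ∧
      (conjGL P g : M₃) 1 0 = 0 ∧ (conjGL P g : M₃) 2 0 = 0 ∧ (conjGL P g : M₃) 0 0 ≠ 0 := by
    intro x g hg
    have hga : g * a = a * g := commute_of_pr free_two (by rw [pow_two, ha]) (by
      rw [hg, hpa]; exact Commute.map (Subgroup.mem_centralizer_singleton_iff.1 x.2) f)
    obtain ⟨c1, c2, c3, c4⟩ := block_shape h2 (g := (conjGL P g : M₃)) (by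
      rw [← hPa, ← Matrix.SpecialLinearGroup.coe_mul, ← map_mul, hga, map_mul, Matrix.SpecialLinearGroup.coe_mul])
    refine ⟨c1, c2, c3, c4, fun e => ?_⟩
    have := (conjGL P g).2
    rw [det_fin_three, c1, c2, e] at this
    simp at this
  have hwd : ∀ (g g' : SL₃), pr g = pr g' →
      lowerBlock (conjGL P g : M₃) = lowerBlock (conjGL P g' : M₃) := by
    intro g g' e
    obtain ⟨w, hw, ew⟩ := pr_eq_pr.1 e
    have hw0 : w ≠ 0 := fun h => by rw [h, zero_pow three_ne_zero] at hw; exact zero_ne_one hw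
    have : (conjGL P g' : M₃) = w • (conjGL P g : M₃) := by
      rw [conjGL_coe, conjGL_coe, ew, mul_smul_comm, smul_mul_assoc]
    ext i j
    simp [lowerBlock, this, mul_div_mul_left _ _ hw0]
  let φ : C →* M₂ :=
    { toFun := fun x => lowerBlock (conjGL P (l x) : M₃)
      map_one' := by
        rw [hwd (l 1) 1 (by rw [hl, map_one]; simp), map_one, Matrix.SpecialLinearGroup.coe_one]
        ext i j
        simp [lowerBlock, one_apply, Fin.succ_inj]
      map_mul' := fun x y => by
        rw [hwd (l (x * y)) (l x * l y) (by rw [map_mul, hl, hl, hl, Subgroup.coe_mul, map_mul]), map_mul,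
          Matrix.SpecialLinearGroup.coe_mul]
        obtain ⟨a1, a2, a3, a4, a0⟩ := hshape x (l x) (hl x)
        obtain ⟨b1, b2, b3, b4, b0⟩ := hshape y (l y) (hl y)
        ext i j
        fin_cases i <;> fin_cases j <;>
          simp [lowerBlock, Matrix.mul_apply, Fin.sum_univ_three, Fin.sum_univ_two, a1, a2, a3, a4, b1, b2, b3, b4] <;>
          field_simp }
  refine ⟨φ.toHomUnits, (injective_iff_map_eq_one _).2 fun x hx => ?_, fun x g hg => ⟨?_, hshape x g hg⟩⟩
  · have h : lowerBlock (conjGL P (l x) : M₃) = 1 := congrArg Units.val hx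
    obtain ⟨c1, c2, c3, c4, c0⟩ := hshape x (l x) (hl x)
    set A := (conjGL P (l x) : M₃) with hA
    have e : ∀ i j : Fin 2, A i.succ j.succ = if i = j then A 0 0 else 0 := fun i j => by
      have := congrFun (congrFun h i) j
      simp only [lowerBlock, Matrix.of_apply, one_apply] at this
      split_ifs at this ⊢
      · exact (div_eq_one_iff_eq c0).1 this
      · exact (div_eq_zero_iff.1 this).resolve_right c0
    have hsc : A = A 0 0 • 1 := by
      have e11 := e 0 0; have e12 := e 0 1; have e21 := e 1 0; have e22 := e 1 1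
      simp at e11 e12 e21 e22
      ext i j
      fin_cases i <;> fin_cases j <;> simp [c1, c2, c3, c4, e11, e12, e21, e22]
    have h1 : pr (conjGL P (l x)) = 1 := pr_eq_one.2 ⟨A 0 0, by
      have := (conjGL P (l x)).2
      rwa [← hA, hsc, det_smul, det_one, mul_one, Fintype.card_fin] at this, hsc⟩
    have h2' : pr (l x) = 1 := by
      rw [← MonoidHom.mem_ker, ker_pr] at h1 ⊢
      refine Subgroup.mem_center_iff.2 fun z => (conjGL P).injective ?_
      rw [map_mul, map_mul, Subgroup.mem_center_iff.1 h1]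
    exact Subtype.ext (hf ((hl x).symm.trans (h2'.trans (map_one f).symm)))
  · exact hwd _ _ (by rw [hl, hg])

end Cfsg.Agent.Classical.Bloom
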