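import Cfsg.Agent.Lib.Classical.PSLAutStructure

/-!
A group with a self-centralising normal subgroup `PSL(2, L)`: every element acts, up to an inner automorphism, by a
diagonal matrix and a field automorphism.
-/

set_option autoImplicit false

namespace Cfsg.Agent.Classical.Bloom.Semi

open Matrix
open Cfsg.Agent.Classical Cfsg.Agent.Classical.PSLAut

variable {L : Type*} [Field L] [Fintype L]

local notation "SL₂" => Matrix.SpecialLinearGroup (Fin 2) L
local notation "PSL₂" => Matrix.ProjectiveSpecialLinearGroup (Fin 2) L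

/-- `diag(κ, 1)`. -/
noncomputable def dia (κ : Lˣ) : GL (Fin 2) L :=
  GeneralLinearGroup.mkOfDetNeZero !![(κ : L), 0; 0, 1] (by simp [det_fin_two])

omit [Fintype L] in
theorem dia_coe (κ : Lˣ) : (dia κ : Matrix (Fin 2) (Fin 2) L) = !![(κ : L), 0; 0, 1] := rfl

omit [Fintype L] in
theorem dia_inv_coe (κ : Lˣ) :
    (((dia κ)⁻¹ : GL (Fin 2) L) : Matrix (Fin 2) (Fin 2) L) = !![((κ⁻¹ : Lˣ) : L), 0; 0, 1] := by
  rw [show (dia κ)⁻¹ = dia κ⁻¹ from inv_eq_of_mul_eq_one_right (Units.ext (by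
    rw [Units.val_mul, dia_coe, dia_coe, Units.val_one]
    ext i j; fin_cases i <;> fin_cases j <;> simp [Matrix.mul_apply, Fin.sum_univ_two])), dia_coe]

/-- An upper unitriangular element. -/
def up (s : L) : SL₂ := ⟨!![1, s; 0, 1], by simp [det_fin_two]⟩

/-- A diagonal element. -/
def tor (a : Lˣ) : SL₂ := ⟨!![(a : L), 0; 0, ((a⁻¹ : Lˣ) : L)], by simp [det_fin_two]⟩

omit [Fintype L] in
theorem up_add (s t : L) : up (s + t) = up s * up t := Subtype.ext (by
  show _ = (!![1, s; 0, 1] : Matrix (Fin 2) (Fin 2) L) * !![1, t; 0, 1]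
  ext i j; fin_cases i <;> fin_cases j <;> simp [up, Matrix.mul_apply, Fin.sum_univ_two, add_comm])

omit [Fintype L] in
theorem tor_up (a : Lˣ) (s : L) : tor a * up s * (tor a)⁻¹ = up ((a : L) ^ 2 * s) := by
  rw [mul_inv_eq_iff_eq_mul]
  refine Subtype.ext ?_
  show (!![(a : L), 0; 0, ((a⁻¹ : Lˣ) : L)] : Matrix (Fin 2) (Fin 2) L) * !![1, s; 0, 1] =
    !![1, (a : L) ^ 2 * s; 0, 1] * !![(a : L), 0; 0, ((a⁻¹ : Lˣ) : L)]
  ext i j; fin_cases i <;> fin_cases j <;> simp [Matrix.mul_apply, Fin.sum_univ_two]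
  field_simp

omit [Fintype L] in
theorem dia_up (κ : Lˣ) (σ : RingAut L) (s : L) :
    pslSemi (dia κ) σ (slToPSL 2 L (up s)) = slToPSL 2 L (up ((κ : L) * σ s)) := by
  rw [pslSemi_mk]
  refine congrArg _ (Subtype.ext ?_)
  rw [slSemi_coe, dia_coe, dia_inv_coe]
  show _ = (!![1, (κ : L) * σ s; 0, 1] : Matrix (Fin 2) (Fin 2) L)
  ext i j; fin_cases i <;> fin_cases j <;> simp [up, Matrix.mul_apply, Fin.sum_univ_two, Matrix.vecMul, dotProduct]

omit [Fintype L] in
theorem exists_inner (g : GL (Fin 2) L) :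
    ∃ (S : SL₂) (κ : Lˣ), g = Matrix.SpecialLinearGroup.toGL S * dia κ := by
  obtain ⟨κ, hκ⟩ : ∃ κ : Lˣ, κ = GeneralLinearGroup.det g := ⟨_, rfl⟩
  refine ⟨⟨((g * (dia κ)⁻¹ : GL (Fin 2) L) : Matrix (Fin 2) (Fin 2) L), ?_⟩, κ, Units.ext ?_⟩
  · rw [Units.val_mul, det_mul, dia_inv_coe, det_fin_two_of, mul_one, mul_zero, sub_zero,
      ← GeneralLinearGroup.val_det_apply, hκ, ← Units.val_mul, mul_inv_cancel, Units.val_one]
  · show (g : Matrix (Fin 2) (Fin 2) L) = ((g * (dia κ)⁻¹ : GL (Fin 2) L) : Matrix _ _ L) * (dia κ : Matrix _ _ L)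
    rw [← Units.val_mul, inv_mul_cancel_right]

theorem dia_square (c : Lˣ) :
    pslSemi (dia (c ^ 2)) (RingEquiv.refl L) = MulAut.conj (slToPSL 2 L (tor c)) := by
  rw [conj_eq_pslSemi]
  have h : dia (c ^ 2) = GeneralLinearGroup.scalar (Fin 2) c * Matrix.SpecialLinearGroup.toGL (tor c) := by
    refine Units.ext ?_
    rw [Units.val_mul, dia_coe, GeneralLinearGroup.coe_scalar, Matrix.scalar_apply]
    show _ = diagonal (fun _ => (c : L)) * (!![(c : L), 0; 0, ((c⁻¹ : Lˣ) : L)] : Matrix (Fin 2) (Fin 2) L)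
    ext i j; fin_cases i <;> fin_cases j <;> simp [Matrix.mul_apply, Fin.sum_univ_two, pow_two]
  rw [h, ← pslSemi_refl_mul, (pslSemi_eq_one_iff le_rfl).2 ⟨rfl, c, rfl⟩, one_mul]

variable {G : Type*} [Group G] (M : Subgroup G) [M.Normal] (e : M ≃* Matrix.ProjectiveSpecialLinearGroup (Fin 2) L)

/-- The action on the normal subgroup. -/
def theta : G →* MulAut PSL₂ := (MulAut.congr e).toMonoidHom.comp MulAut.conjNormal

omit [Fintype L] in
theorem theta_apply (h : G) (m : M) : theta M e h (e m) = e (MulAut.conjNormal h m) := by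
  simp [theta, MulAut.congr]

omit [Fintype L] in
theorem theta_injective (hc : ∀ x : G, (∀ m ∈ M, x * m = m * x) → x = 1) : Function.Injective (theta M e) := by
  refine (injective_iff_map_eq_one _).2 fun x hx => hc x fun m hm => ?_
  have := theta_apply M e x ⟨m, hm⟩
  rw [hx, MulAut.one_apply] at this
  have h2 := congrArg Subtype.val (e.injective this)
  rw [MulAut.conjNormal_apply] at h2
  exact (mul_inv_eq_iff_eq_mul.1 h2.symm)

omit [Fintype L] in
theorem theta_mem (m : M) : theta M e m = MulAut.conj (e m) := by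
  refine MulEquiv.ext fun y => ?_
  rw [← e.apply_symm_apply y, theta_apply, MulAut.conj_apply, ← map_inv, ← map_mul, ← map_mul]
  exact congrArg e (Subtype.ext (by simp [MulAut.conjNormal_apply]))

/-- The element acts, up to an element of `M`, as `diag(κ, 1)` with `σ`. -/
def Rel (h : G) (κ : Lˣ) (σ : RingAut L) : Prop := ∃ m : M, theta M e ((m : G) * h) = pslSemi (dia κ) σ

theorem exists_rel {ℓ : ℕ} [Fact ℓ.Prime] [CharP L ℓ] (h : G) : ∃ κ σ, Rel M e h κ σ := by
  obtain ⟨g, σ, ε, -, hε, hrep⟩ := PSLAut.exists_rep (p := ℓ) le_rfl (theta M e h)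
  rw [hε rfl, pow_zero, mul_one] at hrep
  obtain ⟨S, κ, rfl⟩ := exists_inner g
  refine ⟨κ, σ, (e.symm (slToPSL 2 L S))⁻¹, ?_⟩
  rw [map_mul, hrep, ← pslSemi_refl_mul, ← conj_eq_pslSemi, Subgroup.coe_inv, map_inv, theta_mem,
    e.apply_symm_apply, inv_mul_cancel_left]

variable {M e}

theorem Rel.mem (hc : ∀ x : G, (∀ m ∈ M, x * m = m * x) → x = 1) {h : G} {κ : Lˣ}
    (hr : Rel M e h κ (RingEquiv.refl L)) (hκ : IsSquare κ) : h ∈ M := by
  obtain ⟨m, hm⟩ := hr
  obtain ⟨c, rfl⟩ := hκ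
  rw [← pow_two, dia_square, ← e.apply_symm_apply (slToPSL 2 L (tor c)), ← theta_mem] at hm
  have h' := theta_injective M e hc hm
  have : (m : G) * h ∈ M := by rw [h']; exact SetLike.coe_mem _
  simpa using M.mul_mem (M.inv_mem m.2) this

theorem Rel.mul {h h' : G} {κ κ' : Lˣ} {σ τ : RingAut L} (hr : Rel M e h κ σ) (hr' : Rel M e h' κ' τ) :
    Rel M e (h * h') (κ * Units.map σ.toRingHom.toMonoidHom κ') (σ * τ) := by
  obtain ⟨m, hm⟩ := hr
  obtain ⟨m', hm'⟩ := hr'
  refine ⟨m * MulAut.conjNormal h m', ?_⟩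
  rw [show ((m * MulAut.conjNormal h m' : M) : G) * (h * h') = (m : G) * h * ((m' : G) * h') by
    simp [MulAut.conjNormal_apply, mul_assoc], map_mul, hm, hm', PSLAut.pslSemi_mul]
  congr 1
  refine Units.ext ?_
  rw [Units.val_mul, dia_coe, dia_coe]
  show _ * (!![(κ' : L), 0; 0, 1] : Matrix (Fin 2) (Fin 2) L).map σ = _
  ext i j; fin_cases i <;> fin_cases j <;> simp [Matrix.mul_apply, Fin.sum_univ_two]

theorem Rel.mul_square {h : G} {κ : Lˣ} {σ : RingAut L} (hr : Rel M e h κ σ) (c : Lˣ) :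
    Rel M e h (c ^ 2 * κ) σ := by
  obtain ⟨m, hm⟩ := hr
  refine ⟨e.symm (slToPSL 2 L (tor c)) * m, ?_⟩
  rw [Subgroup.coe_mul, mul_assoc, map_mul, hm, theta_mem, e.apply_symm_apply, ← dia_square, pslSemi_refl_mul]
  congr 1
  refine Units.ext ?_
  rw [Units.val_mul, dia_coe, dia_coe, dia_coe]
  ext i j; fin_cases i <;> fin_cases j <;> simp [Matrix.mul_apply, Fin.sum_univ_two]

variable (M e)

/-- The root elements. -/
noncomputable def root (s : L) : G := (e.symm (slToPSL 2 L (up s)) : M)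

omit [Fintype L] in
theorem root_add (s t : L) : root M e (s + t) = root M e s * root M e t := by
  simp [root, up_add]

omit [Fintype L] in
theorem root_injective : Function.Injective (root M e) := by
  intro s t h
  have h1 : slToPSL 2 L (up s) = slToPSL 2 L (up t) := e.symm.injective (Subtype.ext h)
  have := PSLAut.eq_of_slToPSL_eq (A := !![0, s; 0, 0]) (B := !![0, t; 0, 0]) (by
      show (!![1, s; 0, 1] : Matrix (Fin 2) (Fin 2) L) = _
      ext i j; fin_cases i <;> fin_cases j <;> simp) (by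
      show (!![1, t; 0, 1] : Matrix (Fin 2) (Fin 2) L) = _
      ext i j; fin_cases i <;> fin_cases j <;> simp)
    (by ext i j; fin_cases i <;> fin_cases j <;> simp [Matrix.mul_apply, Fin.sum_univ_two])
    (by ext i j; fin_cases i <;> fin_cases j <;> simp [Matrix.mul_apply, Fin.sum_univ_two]) h1
  simpa using congrFun (congrFun this 0) 1

omit [Fintype L] in
theorem root_tor (a : Lˣ) : ∃ t ∈ M, ∀ s, t * root M e s * t⁻¹ = root M e ((a : L) ^ 2 * s) :=
  ⟨_, (e.symm (slToPSL 2 L (tor a))).2, fun s => by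
    simp only [root, ← Subgroup.coe_inv, ← Subgroup.coe_mul, ← map_inv, ← map_mul, tor_up]⟩

variable {M e}

omit [Fintype L] in
theorem conj_of_theta {g : G} {β : MulAut PSL₂} (hg : theta M e g = β) {x y : PSL₂} (h : β x = y) :
    g * (e.symm x : M) * g⁻¹ = (e.symm y : M) := by
  rw [← h, ← hg]
  have := theta_apply M e g (e.symm x)
  rw [e.apply_symm_apply] at this
  rw [this, e.symm_apply_apply, MulAut.conjNormal_apply]

theorem Rel.conj_root {h : G} {κ : Lˣ} {σ : RingAut L} (hr : Rel M e h κ σ) :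
    ∃ m ∈ M, ∀ s, m * h * root M e s * (m * h)⁻¹ = root M e ((κ : L) * σ s) := by
  obtain ⟨m, hm⟩ := hr
  exact ⟨m, m.2, fun s => conj_of_theta hm (dia_up κ σ s)⟩

/-- With inner-diagonal action only, the group is `PSL(2, L)` or `PGL(2, L)`. -/
theorem linear_cases {ℓ : ℕ} [Fact ℓ.Prime] [CharP L ℓ] (hc : ∀ x : G, (∀ m ∈ M, x * m = m * x) → x = 1)
    (hσ : ∀ h κ σ, Rel M e h κ σ → σ = RingEquiv.refl L) :
    Nonempty (G ≃* PSL₂) ∨ Nonempty (G ≃* (GL (Fin 2) L ⧸ Subgroup.center (GL (Fin 2) L))) := by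
  classical
  by_cases hM : M = ⊤
  · exact Or.inl ⟨(Subgroup.topEquiv.symm.trans (MulEquiv.subgroupCongr hM.symm)).trans e⟩
  obtain ⟨h₁, hh₁⟩ : ∃ h, h ∉ M := by
    by_contra hno
    push Not at hno
    exact hM (eq_top_iff.2 fun x _ => hno x)
  obtain ⟨κ₁, σ, hr⟩ := exists_rel M e (ℓ := ℓ) h₁
  obtain rfl := hσ _ _ _ hr
  have hns : ¬ IsSquare κ₁ := fun h => hh₁ (hr.mem hc h)
  obtain ⟨m₁, hm₁⟩ := hr
  have hrange : (theta M e).range = (inndiagHom 2 L).range := by
    refine le_antisymm ?_ ?_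
    · rintro _ ⟨h, rfl⟩
      obtain ⟨κ, σ, hr⟩ := exists_rel M e (ℓ := ℓ) h
      obtain rfl := hσ _ _ _ hr
      obtain ⟨m, hm⟩ := hr
      rw [map_mul, theta_mem] at hm
      obtain ⟨S, hS⟩ := slToPSL_surjective (e m)
      rw [← hS, conj_eq_pslSemi, ← inndiagHom_apply, ← eq_inv_mul_iff_mul_eq, ← inndiagHom_apply, ← map_inv,
        ← map_mul] at hm
      exact ⟨_, hm.symm⟩
    · rintro _ ⟨g, rfl⟩
      obtain ⟨S, κ, rfl⟩ := exists_inner g
      have hS : inndiagHom 2 L (Matrix.SpecialLinearGroup.toGL S) ∈ (theta M e).range :=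
        ⟨(e.symm (slToPSL 2 L S) : M), by rw [theta_mem, e.apply_symm_apply, conj_eq_pslSemi, inndiagHom_apply]⟩
      rw [map_mul]
      refine mul_mem hS ?_
      have hsq : ∀ c : Lˣ, inndiagHom 2 L (dia (c ^ 2)) ∈ (theta M e).range := fun c =>
        ⟨(e.symm (slToPSL 2 L (tor c)) : M), by rw [theta_mem, e.apply_symm_apply, inndiagHom_apply, dia_square]⟩
      by_cases hk : IsSquare κ
      · obtain ⟨c, rfl⟩ := hk
        rw [← pow_two]; exact hsq c
      · obtain ⟨c, hcc⟩ : IsSquare (κ * κ₁⁻¹) := by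
          have hidx : ∀ x : Lˣ, IsSquare x ↔ quadraticChar L (x : L) = 1 := fun x => by
            rw [quadraticChar_one_iff_isSquare x.ne_zero]
            refine ⟨fun ⟨c, hc⟩ => ⟨c, by rw [hc, Units.val_mul]⟩, fun ⟨c, hc⟩ => ?_⟩
            have hc0 : c ≠ 0 := fun e0 => x.ne_zero (by rw [hc, e0, mul_zero])
            exact ⟨Units.mk0 c hc0, Units.ext hc⟩
          have hneg : ∀ x : Lˣ, ¬ IsSquare x → quadraticChar L (x : L) = -1 := fun x hx =>
            (quadraticChar_dichotomy x.ne_zero).resolve_left fun h => hx ((hidx x).2 h)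
          rw [hidx, Units.val_mul, map_mul, hneg κ hk, hneg κ₁⁻¹ (fun h => hns (by simpa using h.inv))]
          norm_num
        rw [show κ = c ^ 2 * κ₁ by rw [pow_two, ← hcc, inv_mul_cancel_right]]
        have hd : dia (c ^ 2 * κ₁) = dia (c ^ 2) * dia κ₁ := by
          refine Units.ext ?_
          rw [Units.val_mul, dia_coe, dia_coe, dia_coe]
          ext i j; fin_cases i <;> fin_cases j <;> simp [Matrix.mul_apply, Fin.sum_univ_two]
        rw [hd, map_mul]
        exact mul_mem (hsq c) ⟨_, hm₁⟩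
  exact Or.inr ⟨((MonoidHom.ofInjective (theta_injective M e hc)).trans (MulEquiv.subgroupCongr hrange)).trans
    ((QuotientGroup.quotientKerEquivRange (inndiagHom 2 L)).symm.trans
      (QuotientGroup.quotientMulEquivOfEq (ker_inndiagHom le_rfl)))⟩

end Cfsg.Agent.Classical.Bloom.Semi
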