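import Cfsg.Agent.Lib.Classical.Bloom.Centralizer
import Cfsg.Agent.Lib.Classical.Bloom.GaussModel
import Cfsg.Agent.Lib.Classical.Bloom.Kills
import Cfsg.Agent.Lib.Invol.Wreathed
import Cfsg.Agent.S0485

/-!
No simple group with wreathed Sylow 2-subgroups embeds in `PSL(3, F)` without transvections.
-/

set_option autoImplicit false

namespace Cfsg.Agent.Classical.Bloom

open Matrix

universe u

variable {F : Type*} [Field F] [Fintype F]

local notation "SL₃" => Matrix.SpecialLinearGroup (Fin 3) F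
local notation "PSL₃" => Matrix.ProjectiveSpecialLinearGroup (Fin 3) F
local notation "M₃" => Matrix (Fin 3) (Fin 3) F
local notation "M₂" => Matrix (Fin 2) (Fin 2) F

theorem no_four_perm4 : ∀ y : Equiv.Perm (Fin 4), y ^ 4 = 1 → Equiv.Perm.sign y = 1 → y * y = 1 := by decide +kernel

theorem no_four_perm5 : ∀ y : Equiv.Perm (Fin 5), y ^ 4 = 1 → Equiv.Perm.sign y = 1 → y * y = 1 := by decide +kernel

theorem four_cycle_partner : ∀ y : Equiv.Perm (Fin 4), y ^ 4 = 1 → y * y ≠ 1 →
    ∃ g : Equiv.Perm (Fin 4), g * (y * y) * g⁻¹ ≠ y * y ∧ g * (y * y) * g⁻¹ * (y * y) = y * y * (g * (y * y) * g⁻¹) := by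
  decide +kernel

theorem partner_of_groups {P : Type*} [Group P]
    (h : Nonempty (P ≃* alternatingGroup (Fin 4)) ∨ Nonempty (P ≃* Equiv.Perm (Fin 4)) ∨
      Nonempty (P ≃* alternatingGroup (Fin 5))) {y : P} (h4 : y ^ 4 = 1) (h2 : y * y ≠ 1) :
    Nat.card P = 24 ∧ ∃ g : P, g * (y * y) * g⁻¹ ≠ y * y ∧ g * (y * y) * g⁻¹ * (y * y) = y * y * (g * (y * y) * g⁻¹) := by
  rcases h with ⟨⟨e⟩⟩ | ⟨⟨e⟩⟩ | ⟨⟨e⟩⟩
  · exact absurd (e.injective (Subtype.ext (by
      rw [map_mul, map_one]
      exact no_four_perm4 _ (congrArg Subtype.val (show e y ^ 4 = 1 by rw [← map_pow, h4, map_one]))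
        (Equiv.Perm.mem_alternatingGroup.1 (e y).2)))) h2
  · refine ⟨by rw [Nat.card_congr e.toEquiv, Nat.card_perm, Nat.card_fin]; rfl, ?_⟩
    obtain ⟨g, hg1, hg2⟩ := four_cycle_partner (e y) (by rw [← map_pow, h4, map_one])
      (fun h => h2 (e.injective (by rw [map_mul, map_one, h])))
    refine ⟨e.symm g, fun h => hg1 ?_, e.injective ?_⟩
    · simpa [map_mul, map_inv] using congrArg e h
    · simpa [map_mul, map_inv] using hg2
  · exact absurd (e.injective (Subtype.ext (by
      rw [map_mul, map_one]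
      exact no_four_perm5 _ (congrArg Subtype.val (show e y ^ 4 = 1 by rw [← map_pow, h4, map_one]))
        (Equiv.Perm.mem_alternatingGroup.1 (e y).2)))) h2

omit [Fintype F] in
theorem pgl_commute_cases (h2 : (2 : F) ≠ 0) {A : M₂} {s : F} (hAA : A * A = 1)
    (h : A * !![-1, 0; 0, 1] = s • (!![-1, 0; 0, 1] * A)) :
    (∃ c : F, A = c • 1) ∨ (∃ c : F, A = c • !![-1, 0; 0, 1]) ∨ ∃ a : F, a ≠ 0 ∧ A = !![0, a; a⁻¹, 0] := by
  have e00 := congrFun (congrFun h 0) 0
  have e01 := congrFun (congrFun h 0) 1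
  have e10 := congrFun (congrFun h 1) 0
  have e11 := congrFun (congrFun h 1) 1
  simp [Matrix.mul_apply, Fin.sum_univ_two, Matrix.vecMul, dotProduct] at e00 e01 e10 e11
  have q00 := congrFun (congrFun hAA 0) 0
  have q11 := congrFun (congrFun hAA 1) 1
  simp [Matrix.mul_apply, Fin.sum_univ_two] at q00 q11
  by_cases hs : s = 1
  · have z01 : A 0 1 = 0 := by
      rw [hs] at e01
      exact (mul_eq_zero.1 (show (2 : F) * A 0 1 = 0 by linear_combination e01)).resolve_left h2
    have z10 : A 1 0 = 0 := by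
      rw [hs] at e10
      exact (mul_eq_zero.1 (show (2 : F) * A 1 0 = 0 by linear_combination -e10)).resolve_left h2
    rw [z01, z10] at q00 q11
    simp at q00 q11
    rcases mul_self_eq_one_iff.1 q00 with a0 | a0 <;> rcases mul_self_eq_one_iff.1 q11 with a1 | a1
    · exact Or.inl ⟨1, by ext i j; fin_cases i <;> fin_cases j <;> simp [z01, z10, a0, a1]⟩
    · exact Or.inr (Or.inl ⟨-1, by ext i j; fin_cases i <;> fin_cases j <;> simp [z01, z10, a0, a1]⟩)
    · exact Or.inr (Or.inl ⟨1, by ext i j; fin_cases i <;> fin_cases j <;> simp [z01, z10, a0, a1]⟩)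
    · exact Or.inl ⟨-1, by ext i j; fin_cases i <;> fin_cases j <;> simp [z01, z10, a0, a1]⟩
  · have z00 : A 0 0 = 0 :=
      (mul_eq_zero.1 (show (s - 1) * A 0 0 = 0 by linear_combination -e00)).resolve_left (sub_ne_zero.2 hs)
    have z11 : A 1 1 = 0 :=
      (mul_eq_zero.1 (show (s - 1) * A 1 1 = 0 by linear_combination -e11)).resolve_left (sub_ne_zero.2 hs)
    rw [z00] at q00
    simp at q00
    have ha : A 0 1 ≠ 0 := fun e => by rw [e, zero_mul] at q00; exact zero_ne_one q00
    refine Or.inr (Or.inr ⟨A 0 1, ha, ?_⟩)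
    ext i j
    fin_cases i <;> fin_cases j <;> simp [z00, z11, eq_inv_of_mul_eq_one_right q00]

theorem wreathed_false (p : ℕ) [Fact p.Prime] [CharP F p] (hp2 : p ≠ 2) {G : Type u} [Group G] [Finite G]
    [IsSimpleGroup G] {f : G →* Matrix.ProjectiveSpecialLinearGroup (Fin 3) F} (hf : TvFree f)
    (hna : ¬ IsMulCommutative G) (S : Sylow 2 G) (hS : Cfsg.IsWreathed (S : Subgroup G)) : False := by
  classical
  have h2 : (2 : F) ≠ 0 := fun h => hp2 ((Nat.prime_dvd_prime_iff_eq Fact.out Nat.prime_two).1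
    ((CharP.cast_eq_zero_iff F p 2).1 (by exact_mod_cast h)))
  obtain ⟨n, xS, yS, zS, hW⟩ := Invol.exists_wr hS
  set X : G := (xS : G) with hXdef
  set Y : G := (yS : G) with hYdef
  have hXY : Commute X Y := congrArg Subtype.val hW.comm
  have hoX : orderOf X = 2 ^ n := by rw [hXdef, Subgroup.orderOf_coe]; exact hW.ox
  have hoY : orderOf Y = 2 ^ n := by rw [hYdef, Subgroup.orderOf_coe]; exact hW.oy
  have hdisj : ∀ a b : ℕ, X ^ a = Y ^ b → X ^ a = 1 := fun a b e => by
    have hm : xS ^ a ∈ Subgroup.zpowers xS ⊓ Subgroup.zpowers yS :=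
      ⟨pow_mem (Subgroup.mem_zpowers _) _, by
        rw [show xS ^ a = yS ^ b from Subtype.ext e]; exact pow_mem (Subgroup.mem_zpowers _) _⟩
    rw [hW.disj, Subgroup.mem_bot] at hm
    exact congrArg Subtype.val hm
  obtain ⟨m, hm⟩ : ∃ m, m = 2 ^ (n - 1) := ⟨_, rfl⟩
  have hm2 : m * 2 = 2 ^ n := by
    rw [hm, ← pow_succ]; congr 1; have := hW.hn; omega
  have hm0 : 0 < m := by rw [hm]; exact Nat.two_pow_pos _
  have hinv : ∀ {w : G}, orderOf w = 2 ^ n → orderOf (w ^ m) = 2 := fun {w} hw => by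
    rw [orderOf_pow' _ hm0.ne', hw, ← hm2, Nat.gcd_eq_right (Dvd.intro 2 rfl), Nat.mul_div_cancel_left _ hm0]
  set u := X ^ m with hu
  set v := Y ^ m with hv
  have hou : orderOf u = 2 := hinv hoX
  have hov : orderOf v = 2 := hinv hoY
  have huv : u ≠ v := fun e => by
    have := hdisj _ _ e
    rw [← hu] at this
    rw [this, orderOf_one] at hou; omega
  set t := u * v with ht'
  have hcuv : Commute u v := hXY.pow_pow _ _
  have ht : orderOf t = 2 := by
    refine orderOf_eq_prime ?_ fun e => huv ?_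
    · rw [ht', hcuv.mul_pow, ← hou, pow_orderOf_eq_one, hou, ← hov, pow_orderOf_eq_one, one_mul]
    · rw [ht'] at e
      rw [eq_inv_of_mul_eq_one_left e]
      exact inv_eq_of_mul_eq_one_right (by rw [← pow_two, ← hov, pow_orderOf_eq_one])
  have hne : u ≠ t := fun e => by
    rw [ht', left_eq_mul] at e
    rw [e, orderOf_one] at hov; omega
  have hct : Commute u t := (Commute.refl u).mul_right hcuv
  have hbase : ∀ a b : ℕ, Commute (X ^ a * Y ^ b) t ∧ Commute (X ^ a * Y ^ b) u := fun a b => by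
    have hx1 : Commute (X ^ a * Y ^ b) X := (Commute.pow_self X a).mul_left (hXY.symm.pow_left b)
    have hy1 : Commute (X ^ a * Y ^ b) Y := (hXY.pow_left a).mul_left (Commute.pow_self Y b)
    exact ⟨(hx1.pow_right m).mul_right (hy1.pow_right m), hx1.pow_right m⟩
  obtain ⟨P, a, b, hpa, hpb, ha, hb, hPa, hPb⟩ := exists_frame_invol h2 hf.1 ht hou hne hct
  obtain ⟨ψ, hψ, hψs⟩ := exists_blockHom h2 hf.1 hpa ha hPa
  let C := Subgroup.centralizer ({t} : Set G)
  have hgroups := proj_groups p hp2 hf hna S (Or.inr hS) ht ψ hψ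
  let ρ : C →* ProjGenLinGroup (Fin 2) F := ProjGenLinGroup.mk.comp ψ
  -- what centralises the four-group
  have hW4 : ∀ w : C, Commute (w : G) u → w ^ 4 = 1 := fun w hw => Subtype.ext (by
    rw [Subgroup.coe_pow]
    exact four_centralizer p hp2 hf hna S (Or.inr hS) ht hou hne hct
      (Subgroup.mem_centralizer_singleton_iff.1 w.2) hw)
  have hdiag : ∀ w : C, Commute (w : G) u →
      (ψ w : M₂) = diagonal ![(ψ w : M₂) 0 0, (ψ w : M₂) 1 1] := fun w hw => by
    obtain ⟨g, hg⟩ := pr_surjective (f w)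
    obtain ⟨eg, -⟩ := hψs w g hg
    have hd : IsDg (conjGL P g : M₃) := isDg_of_commute h2
      (by rw [← hPa, ← Matrix.SpecialLinearGroup.coe_mul, ← map_mul,
        commute_of_pr free_two (by rw [pow_two, ha]) (show Commute (pr g) (pr a) by
          rw [hg, hpa]; exact Commute.map (Subgroup.mem_centralizer_singleton_iff.1 w.2) f),
        map_mul, Matrix.SpecialLinearGroup.coe_mul])
      (by rw [← hPb, ← Matrix.SpecialLinearGroup.coe_mul, ← map_mul,
        commute_of_pr free_two (by rw [pow_two, hb]) (show Commute (pr g) (pr b) by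
          rw [hg, hpb]; exact hw.map f),
        map_mul, Matrix.SpecialLinearGroup.coe_mul])
    ext i j
    fin_cases i <;> fin_cases j <;> simp [eg, lowerBlock, hd _ _ (show (1 : Fin 3) ≠ 2 by decide),
      hd _ _ (show (2 : Fin 3) ≠ 1 by decide)]
  have hentry : ∀ w : C, Commute (w : G) u → ∀ k, ((ψ w : M₂) k k) ^ 4 = 1 := fun w hw k => by
    have h := congrArg (fun g : GL (Fin 2) F => (g : M₂)) (show ψ w ^ 4 = 1 by rw [← map_pow, hW4 w hw, map_one])
    simp only [Units.val_pow_eq_pow_val, Units.val_one] at h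
    rw [hdiag w hw, diagonal_pow] at h
    have := congrFun (congrFun h k) k
    rw [diagonal_apply_eq, one_apply_eq, Pi.pow_apply] at this
    fin_cases k <;> simpa using this
  let R4 : Finset F := (Polynomial.X ^ 4 - Polynomial.C (1 : F)).roots.toFinset
  have hR4 : ∀ c : F, c ∈ R4 ↔ c ^ 4 = 1 := fun c => by
    rw [Multiset.mem_toFinset, Polynomial.mem_roots (Polynomial.X_pow_sub_C_ne_zero (show 0 < 4 by norm_num) (1 : F))]
    simp [sub_eq_zero]
  have hR4c : R4.card ≤ 4 :=
    (Multiset.toFinset_card_le _).trans ((Polynomial.card_roots' _).trans Polynomial.natDegree_X_pow_sub_C.le)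
  let w : Fin 4 × Fin 4 → C := fun k =>
    ⟨X ^ (k.1 : ℕ) * Y ^ (k.2 : ℕ), Subgroup.mem_centralizer_singleton_iff.2 (hbase _ _).1⟩
  let val : Fin 4 × Fin 4 → F × F := fun k => ((ψ (w k) : M₂) 0 0, (ψ (w k) : M₂) 1 1)
  have hval : Function.Injective val := by
    intro k l e
    have e' : w k = w l := hψ (Units.ext (by
      rw [hdiag (w k) (hbase _ _).2, hdiag (w l) (hbase _ _).2,
        show (ψ (w k) : M₂) 0 0 = (ψ (w l) : M₂) 0 0 from congrArg Prod.fst e,
        show (ψ (w k) : M₂) 1 1 = (ψ (w l) : M₂) 1 1 from congrArg Prod.snd e]))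
    have e'' : X ^ (k.1 : ℕ) * Y ^ (k.2 : ℕ) = X ^ (l.1 : ℕ) * Y ^ (l.2 : ℕ) := congrArg Subtype.val e'
    have h4 : 4 ≤ 2 ^ n := le_trans (by norm_num) (Nat.pow_le_pow_right two_pos hW.hn)
    have key : ∀ a b c d : ℕ, a ≤ c → a < 4 → c < 4 → b < 4 → d < 4 → X ^ a * Y ^ b = X ^ c * Y ^ d →
        a = c ∧ b = d := by
      intro a b c d hac ha4 hc4 hb4 hd4 e
      obtain ⟨r, rfl⟩ := Nat.exists_eq_add_of_le hac
      rw [pow_add, mul_assoc, mul_right_inj] at e
      -- the first exponents agree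
      have hs : X ^ r = Y ^ (b + (2 ^ n - d)) := by
        rw [pow_add, e, mul_assoc, ← pow_add, Nat.add_sub_cancel' (by omega), ← hoY, pow_orderOf_eq_one, mul_one]
      have hr0 : X ^ r = 1 := hdisj _ _ hs
      have hr : r = 0 := pow_injOn_Iio_orderOf (show r < orderOf X by omega) (show 0 < orderOf X by omega)
        (hr0.trans (pow_zero X).symm)
      rw [hr, pow_zero, one_mul] at e
      exact ⟨by omega, pow_injOn_Iio_orderOf (show b < orderOf Y by omega) (show d < orderOf Y by omega) e⟩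
    rcases le_total (k.1 : ℕ) l.1 with h | h
    · obtain ⟨e1, e2⟩ := key _ _ _ _ h k.1.2 l.1.2 k.2.2 l.2.2 e''
      exact Prod.ext (Fin.ext e1) (Fin.ext e2)
    · obtain ⟨e1, e2⟩ := key _ _ _ _ h l.1.2 k.1.2 l.2.2 k.2.2 e''.symm
      exact Prod.ext (Fin.ext e1.symm) (Fin.ext e2.symm)
  have himg : Finset.univ.image val = R4 ×ˢ R4 := by
    refine Finset.eq_of_subset_of_card_le (fun q hq => ?_) ?_
    · obtain ⟨k, -, rfl⟩ := Finset.mem_image.1 hq
      exact Finset.mem_product.2 ⟨(hR4 _).2 (hentry _ (hbase _ _).2 0), (hR4 _).2 (hentry _ (hbase _ _).2 1)⟩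
    · rw [Finset.card_product, Finset.card_image_of_injective _ hval, Finset.card_univ, Fintype.card_prod,
        Fintype.card_fin]
      exact Nat.mul_le_mul hR4c hR4c
  -- a primitive fourth root of unity
  obtain ⟨i, hi⟩ : ∃ i : F, i ^ 2 = -1 := by
    by_contra hno
    push Not at hno
    have hsub : R4 ⊆ {1, -1} := fun c hc => by
      have h := (hR4 c).1 hc
      rcases mul_self_eq_one_iff.1 (show (c ^ 2) * (c ^ 2) = 1 by rw [← pow_add, h]) with h' | h'
      · rcases mul_self_eq_one_iff.1 (show c * c = 1 by rw [← pow_two, h']) with rfl | rfl <;> simp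
      · exact absurd h' (hno c)
    have h1 := (Finset.card_image_of_injective Finset.univ hval)
    rw [himg, Finset.card_product, Finset.card_univ, Fintype.card_prod, Fintype.card_fin] at h1
    have h3 := (Finset.card_le_card hsub).trans Finset.card_le_two
    nlinarith
  have hi4 : i ^ 4 = 1 := by linear_combination (i ^ 2 - 1) * hi
  have hmem : (i, (1 : F)) ∈ Finset.univ.image val := by
    rw [himg]; exact Finset.mem_product.2 ⟨(hR4 i).2 hi4, (hR4 1).2 (one_pow 4)⟩
  obtain ⟨k, -, hk⟩ := Finset.mem_image.1 hmem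
  set d := w k
  have hdu : Commute (d : G) u := (hbase _ _).2
  have hψd : (ψ d : M₂) = !![i, 0; 0, 1] := by
    rw [hdiag d hdu, show (ψ d : M₂) 0 0 = i from congrArg Prod.fst hk, show (ψ d : M₂) 1 1 = 1 from congrArg Prod.snd hk]
    ext r c; fin_cases r <;> fin_cases c <;> simp
  have hii : i * i = -1 := by rw [← pow_two, hi]
  have hψdd : (ψ (d * d) : M₂) = !![-1, 0; 0, 1] := by
    rw [map_mul, Units.val_mul, hψd]
    ext r c; fin_cases r <;> fin_cases c <;> simp [Matrix.mul_apply, Fin.sum_univ_two, hii]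
  have hn1 : (1 : F) ≠ -1 := fun e => h2 (by linear_combination e)
  set y := ρ.rangeRestrict d
  obtain ⟨hcard24, g, hg1, hg2⟩ := partner_of_groups hgroups (y := y)
    (by rw [← map_pow, hW4 d hdu, map_one])
    (fun h => by
      obtain ⟨c, hc⟩ := mk_eq_one_scalar.1 (congrArg Subtype.val ((map_mul ρ.rangeRestrict d d).trans h) : ρ (d * d) = 1)
      rw [hψdd] at hc
      have e0 := congrFun (congrFun hc 0) 0
      have e1 := congrFun (congrFun hc 1) 1
      simp at e0 e1
      exact hn1 (by linear_combination e1 - e0))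
  obtain ⟨c, rfl⟩ := ρ.rangeRestrict_surjective g
  simp only [y, ← map_mul, ← map_inv] at hg1 hg2
  set A := (ψ (c * (d * d) * c⁻¹) : M₂) with hA
  have hAA : A * A = 1 := by
    rw [hA, ← Units.val_mul, ← map_mul, show c * (d * d) * c⁻¹ * (c * (d * d) * c⁻¹) = c * (d * d * (d * d)) * c⁻¹ by group,
      show d * d * (d * d) = d ^ 4 by simp only [pow_succ, pow_zero, one_mul, mul_assoc],
      hW4 d hdu, mul_one, mul_inv_cancel, map_one, Units.val_one]
  obtain ⟨s, hs⟩ := ProjGenLinGroup.mk_eq_mk_iff.1 (congrArg Subtype.val hg2 :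
    ρ (c * (d * d) * c⁻¹ * (d * d)) = ρ (d * d * (c * (d * d) * c⁻¹)))
  have hcomm : A * !![-1, 0; 0, 1] = ((s⁻¹ : Fˣ) : F) • (!![-1, 0; 0, 1] * A) := by
    have e := congrArg (fun g : GL (Fin 2) F => (g : M₂)) hs
    simp only [Units.val_mul, GeneralLinearGroup.coe_scalar, Matrix.scalar_apply, ← smul_one_eq_diagonal, mul_smul_comm,
      mul_one, map_mul ψ (c * (d * d) * c⁻¹) (d * d), map_mul ψ (d * d) (c * (d * d) * c⁻¹), hψdd, ← hA] at e
    rw [← e, smul_smul, Units.inv_mul, one_smul]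
  obtain ⟨a₀, ha0, hAe⟩ : ∃ a : F, a ≠ 0 ∧ A = !![0, a; a⁻¹, 0] := by
    rcases pgl_commute_cases h2 hAA hcomm with ⟨e, he⟩ | ⟨e, he⟩ | h
    · exfalso
      have h1 : ρ (c * (d * d) * c⁻¹) = 1 := mk_eq_one_scalar.2 ⟨e, he⟩
      have h1' : ρ (d * d) = 1 := by
        rw [map_mul, map_mul, map_inv] at h1
        exact conj_eq_one_iff.1 h1
      exact hg1 (Subtype.ext (h1.trans h1'.symm))
    · exfalso
      refine hg1 (Subtype.ext ?_)
      show ProjGenLinGroup.mk (ψ (c * (d * d) * c⁻¹)) = ProjGenLinGroup.mk (ψ (d * d))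
      have he0 : e ≠ 0 := fun e' => by
        rw [e', zero_smul] at he; rw [he, mul_zero] at hAA; exact zero_ne_one hAA
      exact (ProjGenLinGroup.mk_eq_mk_iff.2 ⟨Units.mk0 e he0, Units.ext (by
        rw [Units.val_mul, hψdd, GeneralLinearGroup.coe_scalar, Matrix.scalar_apply, ← smul_one_eq_diagonal,
          mul_smul_comm, mul_one, ← hA, he, Units.val_mk0])⟩).symm
    · exact h
  -- the second generator
  have hψr : (ψ (c * d * c⁻¹) : M₂) = ((1 + i) / 2) • 1 + ((1 - i) / 2) • A := by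
    have hd0 : (ψ d : M₂) = ((1 + i) / 2) • 1 + ((1 - i) / 2) • (ψ (d * d) : M₂) := by
      rw [hψd, hψdd]
      ext r c; fin_cases r <;> fin_cases c <;> simp <;> field_simp <;> ring
    rw [hA, map_mul, map_mul, Units.val_mul, Units.val_mul, hd0, map_mul ψ (c * (d * d)), map_mul ψ c,
      Units.val_mul, Units.val_mul, mul_add, add_mul, mul_smul_comm, mul_smul_comm, smul_mul_assoc, smul_mul_assoc,
      mul_one, ← Units.val_mul (ψ c) (ψ c⁻¹), ← map_mul, mul_inv_cancel, map_one, Units.val_one]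
  let Q : GL (Fin 2) F := GeneralLinearGroup.mkOfDetNeZero !![1, 0; 0, a₀] (by simp [det_fin_two, ha0])
  let χ : C →* GL (Fin 2) F := (MulAut.conj Q).toMonoidHom.comp ψ
  have hχi : Function.Injective χ := (MulAut.conj Q).injective.comp hψ
  have hχ : ∀ (x : C) (B : M₂), (Q : M₂) * (ψ x : M₂) = B * (Q : M₂) → (χ x : M₂) = B := fun x B h => by
    show ((Q * ψ x * Q⁻¹ : GL (Fin 2) F) : M₂) = B
    rw [Units.val_mul, Units.val_mul, h, mul_assoc, ← Units.val_mul, mul_inv_cancel, Units.val_one, mul_one]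
  have hQ : (Q : M₂) = !![1, 0; 0, a₀] := rfl
  have hD : (χ d : M₂) = Gauss.val i 1 := hχ _ _ (by
    rw [Gauss.val_one h2, hψd, hQ]
    ext r c; fin_cases r <;> fin_cases c <;> simp [Matrix.mul_apply, Fin.sum_univ_two])
  have hR : (χ (c * d * c⁻¹) : M₂) = Gauss.val i 2 := hχ _ _ (by
    rw [Gauss.val_two h2, hψr, hAe, hQ]
    ext r c
    fin_cases r <;> fin_cases c <;> simp [Matrix.mul_apply, Fin.sum_univ_two] <;> field_simp)
  -- the model over nine elements
  letI : Fintype (GaloisField 3 2) := Fintype.ofFinite _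
  have h9 : Fintype.card (GaloisField 3 2) = 3 ^ 2 := by
    rw [← Nat.card_eq_fintype_card, GaloisField.card 3 2 (by norm_num)]
  obtain ⟨j, hj⟩ : ∃ j : GaloisField 3 2, j ^ 2 = -1 := by
    obtain ⟨j, hj⟩ : IsSquare (-1 : GaloisField 3 2) := FiniteField.isSquare_neg_one_iff.mpr (by rw [h9]; norm_num)
    exact ⟨j, by rw [pow_two, ← hj]⟩
  have h3 : (3 : GaloisField 3 2) = 0 := by exact_mod_cast CharP.cast_eq_zero (GaloisField 3 2) 3
  have h2' : (2 : GaloisField 3 2) ≠ 0 := fun e => one_ne_zero (α := GaloisField 3 2) (by linear_combination h3 - e)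
  have hj0 : j ≠ 0 := fun e => by rw [e, zero_pow two_ne_zero] at hj; exact one_ne_zero (neg_eq_zero.1 hj.symm)
  let D' : GL (Fin 2) (GaloisField 3 2) :=
    GeneralLinearGroup.mkOfDetNeZero (Gauss.val j 1) (by rw [Gauss.val_one h2', Gauss.det_one h2']; exact hj0)
  let R' : GL (Fin 2) (GaloisField 3 2) :=
    GeneralLinearGroup.mkOfDetNeZero (Gauss.val j 2) (by rw [Gauss.val_two h2', Gauss.det_two h2']; exact hj0)
  obtain ⟨⟨e⟩, h96⟩ := Gauss.exists_equiv (D := χ d) (R := χ (c * d * c⁻¹)) (D' := D') (R' := R') hi h2 hj h2' hD hR rfl rfl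
  -- the whole centraliser
  have hker : Nat.card ρ.ker ≤ 4 := by
    have hscal : ∀ x : ρ.ker, ∃ e : F, (ψ (x : C) : M₂) = e • 1 := fun x => mk_eq_one_scalar.1 x.2
    choose e he using hscal
    haveI : Fintype ρ.ker := Fintype.ofFinite _
    have he4 : ∀ x, e x ∈ R4 := fun x => by
      have hcu : Commute ((x : C) : G) u := congrArg Subtype.val (hψ (by
        refine Units.ext ?_
        rw [map_mul, map_mul, Units.val_mul, Units.val_mul, he, smul_mul_assoc, mul_smul_comm, one_mul, mul_one]) :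
          (x : C) * ⟨u, Subgroup.mem_centralizer_singleton_iff.2 hct⟩ =
            ⟨u, Subgroup.mem_centralizer_singleton_iff.2 hct⟩ * (x : C))
      have h := hentry _ hcu 0
      rw [he] at h
      refine (hR4 _).2 ?_
      simpa using h
    have := Finset.card_le_card_of_injOn (s := (Finset.univ : Finset ρ.ker)) e (fun x _ => he4 x) fun x _ z _ h =>
      Subtype.ext (hψ (Units.ext (by rw [he, he, h])))
    rw [Finset.card_univ, ← Nat.card_eq_fintype_card] at this
    omega
  have hC96 : Nat.card C ≤ 96 := by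
    rw [← Subgroup.card_mul_index ρ.ker, Subgroup.index_ker, hcard24]
    omega
  have hclo : Subgroup.closure {χ d, χ (c * d * c⁻¹)} = χ.range := by
    refine Subgroup.eq_of_le_of_card_ge ((Subgroup.closure_le _).2 ?_) ?_
    · rintro _ (rfl | rfl) <;> exact ⟨_, rfl⟩
    · rw [h96, ← Nat.card_congr (MonoidHom.ofInjective hχi).toEquiv]
      exact hC96
  have hGU : Subgroup.closure {D', R'} = Cfsg.GU 2 (GaloisField 3 2) 3 := by
    refine Subgroup.eq_of_le_of_card_ge ((Subgroup.closure_le _).2 ?_) ?_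
    · have h3i : j ^ 3 = -j := by linear_combination j * hj
      rintro _ (rfl | rfl)
      · refine Invol.TwoSylowGLTwo.mem_GU h9 (Gauss.val_one h2' : Gauss.val j 1 = _) ?_ ?_ ?_ ?_ <;>
          simp [h3i] <;> linear_combination -hj
      · have hhalf : ∀ x : GaloisField 3 2, x / 2 = -x := fun x => by
          rw [div_eq_iff h2']; linear_combination x * h3
        refine Invol.TwoSylowGLTwo.mem_GU h9 (Gauss.val_two h2' : Gauss.val j 2 = _) ?_ ?_ ?_ ?_ <;>
          simp only [hhalf]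
        · linear_combination (2 * j ^ 2 + 10) * hj - 3 * h3
        · linear_combination (2 * j ^ 2 + 10) * hj - 3 * h3
        · linear_combination (2 - 2 * j ^ 2) * hj
        · linear_combination (2 - 2 * j ^ 2) * hj
    · rw [← Nat.card_congr e.toEquiv, h96]
      have h : (Nat.card (Cfsg.GU 2 (GaloisField 3 2) 3) : ℤ) = 96 :=
        (Invol.TwoSylowGLTwo.card_GU_two h9).trans (by norm_num)
      exact le_of_eq (by exact_mod_cast h)
  have eC : C ≃* Cfsg.GU 2 (GaloisField 3 2) 3 := (MonoidHom.ofInjective hχi).trans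
    ((MulEquiv.subgroupCongr hclo.symm).trans (e.trans (MulEquiv.subgroupCongr hGU)))
  obtain ⟨eG⟩ := Cfsg.Agent.S0485.result (F := GaloisField 3 2) 3 (by decide) h9 ⊥ bot_le (by simp) t ht
    ⟨eC.trans QuotientGroup.quotientBot.symm⟩
  have hp3 := char_ne_three p hp2 hf hna S (Or.inr hS) ht hou hne hct
  exact not_u33 h2 (fun h => hp3 ((Nat.prime_dvd_prime_iff_eq Fact.out Nat.prime_three).1
    ((CharP.cast_eq_zero_iff F p 3).1 (by exact_mod_cast h)))) (by rw [h9]; norm_num) ⟨eG⟩ hf.1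

end Cfsg.Agent.Classical.Bloom
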