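import Cfsg.Agent.Lib.Classical.Bloom.Centralizer
import Cfsg.Agent.Lib.Classical.Bloom.Kills
import Cfsg.Agent.Lib.Classical.Bloom.Wreathed
import Cfsg.Agent.Lib.Invol.QuasiDihedral
import Cfsg.Agent.Lib.Transfer.SubThree.SDLocal
import Cfsg.Agent.Lib.Recog.SU3Sylow
import Cfsg.Agent.Lib.OddUse.RankTwoSylow
import Cfsg.Agent.S1190

/-!
Only dihedral Sylow 2-subgroups occur in a simple group embedded in `PSL(3, F)` without transvections.
-/

set_option autoImplicit false

namespace Cfsg.Agent.Classical.Bloom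

open Matrix

universe u

variable {F : Type*} [Field F] [Fintype F]

local notation "SL₃" => Matrix.SpecialLinearGroup (Fin 3) F
local notation "PSL₃" => Matrix.ProjectiveSpecialLinearGroup (Fin 3) F
local notation "M₃" => Matrix (Fin 3) (Fin 3) F

/-- What centralises two commuting involutions of an embedded group is commutative. -/
theorem four_comm (h2 : (2 : F) ≠ 0) {G : Type*} [Group G] {f : G →* PSL₃} (hf : Function.Injective f) {t e x y : G}
    (ht : orderOf t = 2) (he : orderOf e = 2) (hne : e ≠ t) (hc : Commute e t) (hxt : Commute x t) (hxe : Commute x e)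
    (hyt : Commute y t) (hye : Commute y e) : x * y = y * x := by
  obtain ⟨P, a, b, hpa, hpb, ha, hb, hPa, hPb⟩ := exists_frame_invol h2 hf ht he hne hc
  obtain ⟨g, hg⟩ := pr_surjective (f x)
  obtain ⟨k, hk⟩ := pr_surjective (f y)
  have hd : ∀ {w : G} {s : SL₃}, pr s = f w → Commute w t → Commute w e → IsDg (conjGL P s : M₃) :=
    fun {w s} hs h1 h3 => isDg_of_commute h2
      (by rw [← hPa, ← Matrix.SpecialLinearGroup.coe_mul, ← map_mul,
        commute_of_pr free_two (by rw [pow_two, ha]) (show Commute (pr s) (pr a) by rw [hs, hpa]; exact h1.map f),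
        map_mul, Matrix.SpecialLinearGroup.coe_mul])
      (by rw [← hPb, ← Matrix.SpecialLinearGroup.coe_mul, ← map_mul,
        commute_of_pr free_two (by rw [pow_two, hb]) (show Commute (pr s) (pr b) by rw [hs, hpb]; exact h3.map f),
        map_mul, Matrix.SpecialLinearGroup.coe_mul])
  have : g * k = k * g := (conjGL P).injective (Subtype.ext (by
    rw [map_mul, map_mul, Matrix.SpecialLinearGroup.coe_mul, Matrix.SpecialLinearGroup.coe_mul]
    exact (hd hg hxt hxe).commute (hd hk hyt hye)))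
  refine hf ?_
  rw [map_mul, map_mul, ← hg, ← hk, ← map_mul, ← map_mul, this]

theorem ufour_false (h2 : (2 : F) ≠ 0) {G : Type*} [Group G] {f : G →* PSL₃} (hf : Function.Injective f)
    (S : Sylow 2 G) {K : Type*} [Field K] [Fintype K] (hK : Fintype.card K = 16) (P : Sylow 2 (Cfsg.PSU 3 K 4))
    (e : (S : Subgroup G) ≃* (P : Subgroup (Cfsg.PSU 3 K 4))) : False := by
  classical
  haveI := Recog.SU3Two.charP_two (F := K) (m := 4) (by rw [hK]; norm_num)
  haveI : Fact (Fintype.card K = 4 ^ 2) := ⟨by rw [hK]; norm_num⟩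
  obtain ⟨e'⟩ := Recog.SU3Two.sylow_psu (F := K) (q := 4) (n := 2) (by norm_num) (by norm_num) P
  let φ : Recog.SU3Two.UT K 4 →* G := (S : Subgroup G).subtype.comp (e'.trans e.symm).toMonoidHom
  have hφ : Function.Injective φ := (Subgroup.subtype_injective _).comp (e'.trans e.symm).injective
  haveI : Fintype (Recog.SU3Two.Fx K 4) := Fintype.ofFinite _
  have h4 : Fintype.card (Recog.SU3Two.Fx K 4) = 4 := by
    rw [← Nat.card_eq_fintype_card]; exact Recog.SU3Two.card_Fx
  obtain ⟨k₁, hk₁⟩ := Fintype.exists_ne_of_one_lt_card (by omega) (0 : Recog.SU3Two.Fx K 4)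
  obtain ⟨k₂, hk₂, hk₂₁⟩ : ∃ k : Recog.SU3Two.Fx K 4, k ≠ 0 ∧ k ≠ k₁ := by
    by_contra hno
    push Not at hno
    have hsub : (Finset.univ : Finset (Recog.SU3Two.Fx K 4)) ⊆ {0, k₁} := fun z _ => by
      rw [Finset.mem_insert, Finset.mem_singleton]
      exact (em (z = 0)).imp_right (hno z)
    have := (Finset.card_le_card hsub).trans Finset.card_le_two
    rw [Finset.card_univ] at this
    omega
  let zz : Recog.SU3Two.Fx K 4 → G := fun k => φ (Recog.SU3Two.UT.z k)
  have hzc : ∀ k w, Commute (φ w) (zz k) := fun k w =>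
    Commute.map (Subgroup.mem_center_iff.1 ((Recog.SU3Two.UT.mem_center_iff _).2 (rfl : (Recog.SU3Two.UT.z k).a = 0)) w) φ
  have hzo : ∀ k, k ≠ 0 → orderOf (zz k) = 2 := fun k hk => by
    refine orderOf_eq_prime ?_ fun h => hk ?_
    · rw [← map_pow]
      refine (congrArg φ ?_).trans (map_one φ)
      ext
      · exact Recog.SU3Two.UT.sq_a _
      · rw [Recog.SU3Two.UT.sq_b]; show (0 : K) * _ = _; rw [zero_mul]; rfl
    · exact Subtype.ext (congrArg Recog.SU3Two.UT.b (hφ (h.trans (map_one φ).symm)))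
  have hne : zz k₂ ≠ zz k₁ := fun h => hk₂₁ (Subtype.ext (congrArg Recog.SU3Two.UT.b (hφ h)))
  obtain ⟨u, hu⟩ := Recog.SU3Two.UT.exists_mk (F := K) (q := 4) (1 : K)
  obtain ⟨c, hc⟩ : ∃ c : K, c ^ 4 ≠ c := by
    by_contra hno
    push Not at hno
    have htop : ∀ c : K, c ∈ Recog.SU3Two.Fx K 4 := hno
    have : Fintype.card K ≤ Fintype.card (Recog.SU3Two.Fx K 4) :=
      Fintype.card_le_of_injective (fun c => ⟨c, htop c⟩) fun a b h => congrArg Subtype.val h
    omega
  obtain ⟨v, hv⟩ := Recog.SU3Two.UT.exists_mk (F := K) (q := 4) c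
  have := four_comm h2 hf (hzo _ hk₁) (hzo _ hk₂) hne (hzc _ _) (hzc k₁ u) (hzc k₂ u) (hzc k₁ v) (hzc k₂ v)
  rw [← map_mul, ← map_mul] at this
  have h := (Recog.SU3Two.UT.mul_comm_iff u v).1 (hφ this)
  rw [hu, hv, one_pow, one_mul, mul_one] at h
  exact hc h.symm

theorem sd_false (p : ℕ) [Fact p.Prime] [CharP F p] (hp2 : p ≠ 2) {G : Type u} [Group G] [Finite G]
    [IsSimpleGroup G] {f : G →* Matrix.ProjectiveSpecialLinearGroup (Fin 3) F} (hf : TvFree f)
    (hna : ¬ IsMulCommutative G) (S : Sylow 2 G) (hS : Cfsg.IsQuasiDihedral (S : Subgroup G)) : False := by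
  classical
  have h2 : (2 : F) ≠ 0 := fun h => hp2 ((Nat.prime_dvd_prime_iff_eq Fact.out Nat.prime_two).1
    ((CharP.cast_eq_zero_iff F p 2).1 (by exact_mod_cast h)))
  haveI : Fact (Nat.Prime 2) := ⟨Nat.prime_two⟩
  obtain ⟨n, x, y, hQ⟩ := Invol.exists_qd hS
  set zS := x ^ (2 * Invol.qq n) with hzS
  have hzy : y * zS = zS * y := by
    rw [hzS, hQ.y_mul_zpow]
    congr 1
    rw [hQ.zpow_eq]
    obtain ⟨r, hr⟩ := hQ.qq_even
    exact ⟨Invol.qq n - 1, by ring⟩
  have hzc : ∀ s, s * zS = zS * s := fun s => by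
    obtain ⟨i, rfl | rfl⟩ := hQ.cases' s
    · rw [hzS, ← _root_.zpow_add, ← _root_.zpow_add, add_comm]
    · rw [mul_assoc, hzy, ← mul_assoc, ← mul_assoc, hzS, ← _root_.zpow_add, ← _root_.zpow_add, add_comm]
  set z : G := (zS : G) with hz
  set e : G := (y : G) with he
  have hzo : orderOf z = 2 := by
    rw [hz, Subgroup.orderOf_coe]
    refine orderOf_eq_prime ?_ fun h => ?_
    · rw [hzS, ← zpow_natCast, ← _root_.zpow_mul, hQ.zpow_eq_one]; exact ⟨1, by push_cast; ring⟩
    · rw [hzS, hQ.zpow_eq_one] at h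
      have h4 := hQ.qq_pos
      have := Int.le_of_dvd (by omega) h
      omega
  have heo : orderOf e = 2 := by rw [he, Subgroup.orderOf_coe]; exact hQ.oy
  have hne : e ≠ z := fun h => hQ.y_notMem ⟨2 * Invol.qq n, (Subtype.ext h).symm⟩
  have hcez : Commute e z := congrArg Subtype.val hzy
  have hzz : z * z = 1 := by rw [← pow_two, ← hzo, pow_orderOf_eq_one]
  have hee : e * e = 1 := by rw [← pow_two, ← heo, pow_orderOf_eq_one]
  let V : Subgroup G :=
    { carrier := {w | w = 1 ∨ w = z ∨ w = e ∨ w = z * e}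
      one_mem' := Or.inl rfl
      mul_mem' := by
        have h1 : e * z = z * e := hcez
        have h3 : z * (z * e) = e := by rw [← mul_assoc, hzz, one_mul]
        have h4 : e * (z * e) = z := by rw [← mul_assoc, h1, mul_assoc, hee, mul_one]
        have h5 : z * e * z = e := by rw [mul_assoc, h1, h3]
        have h6 : z * e * e = z := by rw [mul_assoc, hee, mul_one]
        have h7 : z * e * (z * e) = 1 := by rw [← mul_assoc, h5, hee]
        rintro a b (rfl | rfl | rfl | rfl) (rfl | rfl | rfl | rfl) <;>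
          simp [h1, h3, h4, h5, h6, h7, hzz, hee]
      inv_mem' := by
        have hi : (z * e)⁻¹ = z * e := by
          rw [_root_.mul_inv_rev, inv_eq_of_mul_eq_one_right hzz, inv_eq_of_mul_eq_one_right hee]
          exact hcez
        rintro a (rfl | rfl | rfl | rfl) <;>
          simp only [Set.mem_setOf_eq, inv_one, inv_eq_of_mul_eq_one_right hzz, inv_eq_of_mul_eq_one_right hee, hi,
            true_or, or_true, eq_self_iff_true] }
  have hz1 : z ≠ 1 := fun h => by rw [h, orderOf_one] at hzo; omega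
  have he1 : e ≠ 1 := fun h => by rw [h, orderOf_one] at heo; omega
  have hV : Nat.card V = 4 := by
    have hset : (V : Set G) = ↑({1, z, e, z * e} : Finset G) := by
      ext w
      simp [V]
    rw [← SetLike.coe_sort_coe, hset, Nat.card_coe_set_eq, Set.ncard_coe_finset, Finset.card_insert_of_notMem,
      Finset.card_insert_of_notMem, Finset.card_insert_of_notMem, Finset.card_singleton]
    · simp [hz1]
    · simp [hne.symm, he1, hz1]
    · simp only [Finset.mem_insert, Finset.mem_singleton, not_or]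
      refine ⟨hz1.symm, he1.symm, fun h => hne ?_⟩
      rw [← inv_eq_of_mul_eq_one_right h.symm, inv_eq_of_mul_eq_one_right hzz]
  have hVS : V ≤ (S : Subgroup G) := by
    rintro w (rfl | rfl | rfl | rfl)
    exacts [one_mem _, zS.2, y.2, mul_mem zS.2 y.2]
  have hV2 : ∀ w ∈ V, w * w = 1 := by
    rintro w (rfl | rfl | rfl | rfl)
    · exact mul_one 1
    · exact hzz
    · exact hee
    · rw [show z * e * (z * e) = z * (e * z) * e by group, hcez.eq, ← mul_assoc, hzz, one_mul, hee]
  let W : Subgroup G := Subgroup.centralizer ({z, e} : Set G)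
  have hW : IsPGroup 2 W := fun w => ⟨2, Subtype.ext (by
    rw [Subgroup.coe_pow, Subgroup.coe_one]
    exact four_centralizer p hp2 hf hna S (Or.inl hS) hzo heo hne hcez
      (Subgroup.mem_centralizer_iff.1 w.2 z (Or.inl rfl)).symm
      (Subgroup.mem_centralizer_iff.1 w.2 e (Or.inr rfl)).symm)⟩
  obtain ⟨T, hT⟩ := hW.exists_le_sylow
  have hTqd : Cfsg.IsQuasiDihedral (T : Subgroup G) := Transfer.SubThree.qd_congr (Sylow.equiv S T) hS
  have hVcomm : ∀ a ∈ V, ∀ b ∈ V, a * b = b * a := by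
    intro a ha b hb
    calc a * b = (a * b)⁻¹ := (inv_eq_of_mul_eq_one_right (hV2 _ (mul_mem ha hb))).symm
      _ = b⁻¹ * a⁻¹ := _root_.mul_inv_rev a b
      _ = b * a := by rw [inv_eq_of_mul_eq_one_right (hV2 a ha), inv_eq_of_mul_eq_one_right (hV2 b hb)]
  have hVW : V ≤ W := fun w hw => Subgroup.mem_centralizer_iff.2 (by
    rintro s (rfl | rfl)
    · exact hVcomm _ (Or.inr (Or.inl rfl)) w hw
    · exact hVcomm _ (Or.inr (Or.inr (Or.inl rfl))) w hw)
  have hVT : V ≤ (T : Subgroup G) := hVW.trans hT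
  let V' : Subgroup (T : Subgroup G) := V.subgroupOf (T : Subgroup G)
  have hV'c : Nat.card V' = 4 := by rw [Nat.card_congr (Subgroup.subgroupOfEquivOfLe hVT).toEquiv, hV]
  have hV'K : IsKleinFour V' := by
    refine ⟨hV'c, Nat.dvd_antisymm (Monoid.exponent_dvd_of_forall_pow_eq_one fun a => ?_) ?_⟩
    · rw [pow_two]; exact Subtype.ext (Subtype.ext (hV2 _ a.2))
    · haveI : Nontrivial V' := Finite.one_lt_card_iff_nontrivial.1 (by rw [hV'c]; norm_num)
      obtain ⟨a, ha⟩ := exists_ne (1 : V')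
      have : orderOf a = 2 := orderOf_eq_prime (by rw [pow_two]; exact Subtype.ext (Subtype.ext (hV2 _ a.2))) ha
      exact (dvd_of_eq this.symm).trans (Monoid.order_dvd_exponent a)
  have hcen := ((Cfsg.Agent.S1190.result hTqd).2 V' hV'K).1
  have hCV : ∀ g : G, (∀ w ∈ V, g * w = w * g) → g ∈ V := by
    intro g hg
    have hgW : g ∈ W := Subgroup.mem_centralizer_iff.2 (by
      rintro s (rfl | rfl)
      · exact (hg _ (Or.inr (Or.inl rfl))).symm
      · exact (hg _ (Or.inr (Or.inr (Or.inl rfl)))).symm)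
    have hmem : (⟨g, hT hgW⟩ : (T : Subgroup G)) ∈ Subgroup.centralizer (V' : Set (T : Subgroup G)) :=
      Subgroup.mem_centralizer_iff.2 fun w hw => Subtype.ext (hg _ hw).symm
    rw [hcen] at hmem
    exact hmem
  have h16 : 16 ≤ Nat.card (S : Subgroup G) := by
    rw [hQ.card]
    exact le_trans (by norm_num) (Nat.pow_le_pow_right two_pos (show 4 ≤ n + 1 by have := hQ.hn; omega))
  have hp3 : (3 : F) ≠ 0 := fun h => char_ne_three p hp2 hf hna S (Or.inl hS) hzo heo hne hcez
    ((Nat.prime_dvd_prime_iff_eq Fact.out Nat.prime_three).1 ((CharP.cast_eq_zero_iff F p 3).1 (by exact_mod_cast h)))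
  rcases Transfer.SubThree.sd_simple hna S hS h16 hV hVS hV2 hCV (Or.inr (Or.inl rfl)) hz1
      (fun s hs => congrArg Subtype.val (hzc ⟨s, hs⟩)) with h | h
  · exact not_l33 h2 hp3 h hf.1
  · exact not_m11 p h hf.1

/-- The Sylow 2-subgroups are dihedral. -/
theorem dihedral_of_tvFree (p : ℕ) [Fact p.Prime] [CharP F p] (hp2 : p ≠ 2) {G : Type u} [Group G] [Finite G]
    [IsSimpleGroup G] {f : G →* Matrix.ProjectiveSpecialLinearGroup (Fin 3) F} (hf : TvFree f)
    (hna : ¬ IsMulCommutative G) (heven : Even (Nat.card G)) (S : Sylow 2 G) :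
    ∃ n : ℕ, 2 ≤ n ∧ Nonempty ((S : Subgroup G) ≃* DihedralGroup n) := by
  classical
  have h2 : (2 : F) ≠ 0 := fun h => hp2 ((Nat.prime_dvd_prime_iff_eq Fact.out Nat.prime_two).1
    ((CharP.cast_eq_zero_iff F p 2).1 (by exact_mod_cast h)))
  have hr : Cfsg.PRankLE 2 2 G := fun A hA hexp => by
    haveI := hA
    have h := rank_two h2 (A.map f) (inferInstance) (by
      rintro _ ⟨a, ha, rfl⟩
      rw [← map_pow, hexp a ha, map_one])
    rwa [Subgroup.card_map_of_injective hf.1] at h
  letI : Fintype (GaloisField 2 4) := Fintype.ofFinite _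
  have hF : Fintype.card (GaloisField 2 4) = 16 := by
    rw [← Nat.card_eq_fintype_card, GaloisField.card 2 4 (by norm_num)]
    norm_num
  obtain ⟨P⟩ : Nonempty (Sylow 2 (Cfsg.PSU 3 (GaloisField 2 4) 4)) := inferInstance
  rcases OddUse.simple_rank_two_sylow hna heven hr S hF P with h | h | h | ⟨⟨e⟩⟩
  · exact h
  · exact (sd_false p hp2 hf hna S h).elim
  · exact (wreathed_false p hp2 hf hna S h).elim
  · exact (ufour_false h2 hf.1 S hF P e).elim

end Cfsg.Agent.Classical.Bloom
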