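import Cfsg.Agent.Lib.Classical.Bloom.Field
import Cfsg.Agent.Lib.Fus.TransvectionRoot
import Cfsg.Agent.S0801

/-!
Groups of `3 × 3` matrices generated by transvections: two of them in general position give `SL(2)` over the field
of their product.
-/

set_option autoImplicit false

namespace Cfsg.Agent.Classical.Bloom

open Matrix
open Cfsg.Agent.Fus

variable {F : Type*} [Field F]

local notation "V" => (Fin 3 → F)
local notation "SL₃" => Matrix.SpecialLinearGroup (Fin 3) F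
local notation "M₃" => Matrix (Fin 3) (Fin 3) F

/-- The group contains the map `x ↦ x + φ(x) v`. -/
def InT (Γ : Subgroup SL₃) (v φ : V) : Prop :=
  φ ⬝ᵥ v = 0 ∧ ∃ g ∈ Γ, (g : M₃) = 1 + vecMulVec v φ

/-- The transvections of the group. -/
def tvs (Γ : Subgroup SL₃) : Set SL₃ :=
  {g | g ∈ Γ ∧ ∃ v φ : V, v ≠ 0 ∧ φ ≠ 0 ∧ φ ⬝ᵥ v = 0 ∧ (g : M₃) = 1 + vecMulVec v φ}

/-- No point and no line is fixed. -/
def Irr (Γ : Subgroup SL₃) : Prop :=
  (∀ v : V, v ≠ 0 → ∃ g ∈ Γ, ∀ c : F, (g : M₃) *ᵥ v ≠ c • v) ∧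
    (∀ φ : V, φ ≠ 0 → ∃ g ∈ Γ, ∀ c : F, φ ᵥ* (g : M₃) ≠ c • φ)

variable {Γ : Subgroup (Matrix.SpecialLinearGroup (Fin 3) F)} {v φ w ψ : Fin 3 → F}

theorem rankOne_mulVec (v φ x : V) : ((1 : M₃) + vecMulVec v φ) *ᵥ x = x + (φ ⬝ᵥ x) • v := by
  ext i
  simp [add_mulVec, vecMulVec_mulVec, mul_comm]

theorem vecMul_rankOne (v φ y : V) : y ᵥ* ((1 : M₃) + vecMulVec v φ) = y + (y ⬝ᵥ v) • φ := by
  simp [vecMul_add, vecMul_vecMulVec]

theorem InT.incident (h : InT Γ v φ) : φ ⬝ᵥ v = 0 := h.1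

theorem inT_zero_left (Γ : Subgroup SL₃) (φ : V) : InT Γ 0 φ := ⟨by simp, 1, one_mem Γ, by simp⟩

theorem inT_zero_right (Γ : Subgroup SL₃) (v : V) : InT Γ v 0 := ⟨by simp, 1, one_mem Γ, by simp⟩

theorem InT.smul_comm (h : InT Γ v φ) {a b : F} (hab : a * b = 1) : InT Γ (a • v) (b • φ) := by
  obtain ⟨hi, g, hg, e⟩ := h
  refine ⟨by simp [smul_dotProduct, dotProduct_smul, hi], g, hg, ?_⟩
  rw [e, Matrix.smul_vecMulVec, Matrix.vecMulVec_smul, smul_smul, hab, one_smul]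

theorem InT.move_scalar {c : F} (h : InT Γ v (c • φ)) (hc : c ≠ 0) : InT Γ (c • v) φ := by
  have := h.smul_comm (a := c) (b := c⁻¹) (mul_inv_cancel₀ hc)
  rwa [smul_smul, inv_mul_cancel₀ hc, one_smul] at this

theorem InT.of_scalar_left {c : F} (h : InT Γ (c • v) φ) (hc : c ≠ 0) : InT Γ v (c • φ) := by
  have := h.smul_comm (a := c⁻¹) (b := c) (inv_mul_cancel₀ hc)
  rwa [smul_smul, inv_mul_cancel₀ hc, one_smul] at this

theorem InT.add_right (h : InT Γ v φ) (h' : InT Γ v ψ) : InT Γ v (φ + ψ) := by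
  obtain ⟨hi, g, hg, e⟩ := h
  obtain ⟨hi', g', hg', e'⟩ := h'
  refine ⟨by rw [add_dotProduct, hi, hi', add_zero], g * g', mul_mem hg hg', ?_⟩
  rw [Matrix.SpecialLinearGroup.coe_mul, e, e', mul_add, add_mul, add_mul, one_mul, mul_one, one_mul,
    TV.vec_mul_vec, hi, zero_smul, Matrix.vecMulVec_add]
  abel

theorem InT.add_left (h : InT Γ v φ) (h' : InT Γ w φ) : InT Γ (v + w) φ := by
  obtain ⟨hi, g, hg, e⟩ := h
  obtain ⟨hi', g', hg', e'⟩ := h'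
  refine ⟨by rw [dotProduct_add, hi, hi', add_zero], g * g', mul_mem hg hg', ?_⟩
  rw [Matrix.SpecialLinearGroup.coe_mul, e, e', mul_add, add_mul, add_mul, one_mul, mul_one, one_mul,
    TV.vec_mul_vec, hi', zero_smul, Matrix.add_vecMulVec]
  abel

theorem InT.neg_right (h : InT Γ v φ) : InT Γ v (-φ) := by
  obtain ⟨hi, g, hg, e⟩ := h
  refine ⟨by rw [neg_dotProduct, hi, neg_zero], g⁻¹, inv_mem hg, ?_⟩
  have h1 : (g : M₃) * (1 + vecMulVec v (-φ)) = 1 := by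
    rw [e, mul_add, add_mul, add_mul, one_mul, mul_one, one_mul, TV.vec_mul_vec, Matrix.vecMulVec_neg]
    simp [hi]
  calc ((g⁻¹ : SL₃) : M₃) = ((g⁻¹ : SL₃) : M₃) * ((g : M₃) * (1 + vecMulVec v (-φ))) := by rw [h1, mul_one]
    _ = _ := by rw [← mul_assoc, ← Matrix.SpecialLinearGroup.coe_mul, inv_mul_cancel,
      Matrix.SpecialLinearGroup.coe_one, one_mul]

theorem InT.neg_left (h : InT Γ v φ) : InT Γ (-v) φ := by
  have := h.neg_right.smul_comm (a := (-1 : F)) (b := -1) (by ring)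
  simpa using this

theorem InT.conj (h : InT Γ v φ) {g : SL₃} (hg : g ∈ Γ) :
    InT Γ ((g : M₃) *ᵥ v) (φ ᵥ* ((g⁻¹ : SL₃) : M₃)) := by
  obtain ⟨hi, t, ht, e⟩ := h
  refine ⟨?_, g * t * g⁻¹, mul_mem (mul_mem hg ht) (inv_mem hg), ?_⟩
  · rw [← dotProduct_mulVec, mulVec_mulVec, ← Matrix.SpecialLinearGroup.coe_mul, inv_mul_cancel,
      Matrix.SpecialLinearGroup.coe_one, one_mulVec, hi]
  · rw [Matrix.SpecialLinearGroup.coe_mul, Matrix.SpecialLinearGroup.coe_mul, e, mul_add, add_mul, mul_one,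
      ← Matrix.SpecialLinearGroup.coe_mul, mul_inv_cancel, Matrix.SpecialLinearGroup.coe_one, mul_vecMulVec,
      vecMulVec_mul]

/-- The conjugate of one transvection by another. -/
theorem InT.conj_tv (h : InT Γ v φ) (h' : InT Γ w ψ) :
    InT Γ (v + (ψ ⬝ᵥ v) • w) (φ - (φ ⬝ᵥ w) • ψ) := by
  obtain ⟨hi', g, hg, e⟩ := h'
  have hinv : ((g⁻¹ : SL₃) : M₃) = 1 + vecMulVec w (-ψ) := by
    have h1 : (g : M₃) * (1 + vecMulVec w (-ψ)) = 1 := by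
      rw [e, mul_add, add_mul, add_mul, one_mul, mul_one, one_mul, TV.vec_mul_vec, Matrix.vecMulVec_neg]
      simp [hi']
    calc ((g⁻¹ : SL₃) : M₃) = ((g⁻¹ : SL₃) : M₃) * ((g : M₃) * (1 + vecMulVec w (-ψ))) := by rw [h1, mul_one]
      _ = _ := by rw [← mul_assoc, ← Matrix.SpecialLinearGroup.coe_mul, inv_mul_cancel,
        Matrix.SpecialLinearGroup.coe_one, one_mul]
  have := h.conj hg
  rw [e, hinv, rankOne_mulVec, vecMul_rankOne, smul_neg, ← sub_eq_add_neg] at this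
  exact this

theorem InT.conj_fix (h : InT Γ v φ) (h' : InT Γ w ψ) (h0 : ψ ⬝ᵥ v = 0) :
    InT Γ v (φ - (φ ⬝ᵥ w) • ψ) := by
  simpa [h0] using h.conj_tv h'

/-- The commutator of two transvections in the case of one incidence. -/
theorem InT.comm (h : InT Γ v φ) (h' : InT Γ w ψ) (hα : φ ⬝ᵥ w = 0) :
    InT Γ w ((ψ ⬝ᵥ v) • φ) := by
  have h1 : InT Γ (v + (ψ ⬝ᵥ v) • w) φ := by
    simpa [hα] using h.conj_tv h'
  have h2 := h1.add_left h.neg_left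
  rcases eq_or_ne (ψ ⬝ᵥ v) 0 with e | e
  · rw [e, zero_smul]
    exact inT_zero_right Γ w
  · exact InT.of_scalar_left (by simpa using h2) e

theorem exists_center_off (hgen : Γ = Subgroup.closure (tvs Γ)) (hirr : Irr Γ) {χ : V} (hχ : χ ≠ 0) :
    ∃ v φ, InT Γ v φ ∧ φ ≠ 0 ∧ χ ⬝ᵥ v ≠ 0 := by
  by_contra! h
  obtain ⟨g, hg, hmove⟩ := hirr.2 χ hχ
  refine hmove 1 ?_
  rw [one_smul]
  rw [hgen] at hg
  clear hmove
  induction hg using Subgroup.closure_induction with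
  | mem x hx =>
    obtain ⟨hx, v, φ, -, hφ, hi, e⟩ := hx
    rw [e, vecMul_rankOne, h v φ ⟨hi, x, hx, e⟩ hφ, zero_smul, add_zero]
  | one => simp
  | mul a b _ _ ha hb => rw [Matrix.SpecialLinearGroup.coe_mul, ← vecMul_vecMul, ha, hb]
  | inv a _ ha =>
    conv_lhs => rw [← ha]
    rw [vecMul_vecMul, ← Matrix.SpecialLinearGroup.coe_mul, mul_inv_cancel, Matrix.SpecialLinearGroup.coe_one,
      vecMul_one]

theorem exists_axis_off (hgen : Γ = Subgroup.closure (tvs Γ)) (hirr : Irr Γ) {x : V} (hx : x ≠ 0) :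
    ∃ v φ, InT Γ v φ ∧ v ≠ 0 ∧ φ ⬝ᵥ x ≠ 0 := by
  by_contra! h
  obtain ⟨g, hg, hmove⟩ := hirr.1 x hx
  refine hmove 1 ?_
  rw [one_smul]
  rw [hgen] at hg
  clear hmove
  induction hg using Subgroup.closure_induction with
  | mem y hy =>
    obtain ⟨hy, v, φ, hv, -, hi, e⟩ := hy
    rw [e, rankOne_mulVec, h v φ ⟨hi, y, hy, e⟩ hv, zero_smul, add_zero]
  | one => simp
  | mul a b _ _ ha hb => rw [Matrix.SpecialLinearGroup.coe_mul, ← mulVec_mulVec, hb, ha]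
  | inv a _ ha =>
    conv_lhs => rw [← ha]
    rw [mulVec_mulVec, ← Matrix.SpecialLinearGroup.coe_mul, inv_mul_cancel, Matrix.SpecialLinearGroup.coe_one,
      one_mulVec]

/-- The products `φ(w) ψ(v)` of the pairs of transvections of the group. -/
def prods (Γ : Subgroup SL₃) : Set F :=
  {x | x ≠ 0 ∧ ∃ v φ w ψ, InT Γ v φ ∧ InT Γ w ψ ∧ (φ ⬝ᵥ w) * (ψ ⬝ᵥ v) = x}

theorem eq_zero_of_three {u₁ u₂ u₃ χ φ ψ : V} (h1 : χ ⬝ᵥ u₁ = 0) (h2 : χ ⬝ᵥ u₂ = 0) (h3 : χ ⬝ᵥ u₃ = 0)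
    (hφ1 : φ ⬝ᵥ u₁ = 0) (hφ2 : φ ⬝ᵥ u₂ = 0) (hφ3 : φ ⬝ᵥ u₃ ≠ 0) (hψ2 : ψ ⬝ᵥ u₂ = 0) (hψ1 : ψ ⬝ᵥ u₁ ≠ 0)
    (hu2 : u₂ ≠ 0) : χ = 0 := by
  have hli : LinearIndependent F ![u₁, u₂, u₃] := by
    rw [Fintype.linearIndependent_iff]
    intro g hg
    rw [Fin.sum_univ_three] at hg
    simp only [Matrix.cons_val_zero, Matrix.cons_val_one, Matrix.cons_val] at hg
    have e3 := congrArg (φ ⬝ᵥ ·) hg
    simp [dotProduct_add, dotProduct_smul, hφ1, hφ2, hφ3] at e3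
    rw [e3, zero_smul, add_zero] at hg
    have e1 := congrArg (ψ ⬝ᵥ ·) hg
    simp [dotProduct_add, dotProduct_smul, hψ2, hψ1] at e1
    rw [e1, zero_smul, zero_add] at hg
    have e2 : g 1 = 0 := (smul_eq_zero.1 hg).resolve_right hu2
    intro i
    fin_cases i <;> assumption
  let B := basisOfLinearIndependentOfCardEqFinrank hli (by simp)
  have : ∀ x, χ ⬝ᵥ x = 0 := fun x => by
    rw [← B.sum_repr x, dotProduct_sum]
    refine Finset.sum_eq_zero fun i _ => ?_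
    rw [dotProduct_smul, coe_basisOfLinearIndependentOfCardEqFinrank]
    fin_cases i <;> simp [h1, h2, h3]
  funext i
  simpa using this (Pi.single i 1)

theorem prods_nonempty (hgen : Γ = Subgroup.closure (tvs Γ)) (hirr : Irr Γ) : (prods Γ).Nonempty := by
  by_contra hne
  have h0 : ∀ v φ w ψ, InT Γ v φ → InT Γ w ψ → φ ⬝ᵥ w = 0 ∨ ψ ⬝ᵥ v = 0 := fun v φ w ψ h h' =>
    mul_eq_zero.1 (by_contra fun hx => hne ⟨_, hx, v, φ, w, ψ, h, h', rfl⟩)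
  obtain ⟨v, φ, h, hv, hφx⟩ := exists_axis_off hgen hirr (x := Pi.single 0 1) (by simp)
  have hφ : φ ≠ 0 := fun e => hφx (by simp [e])
  obtain ⟨w, ψ, h', hw, hψv⟩ := exists_axis_off hgen hirr hv
  obtain ⟨u, χ, h'', hχ, hφu⟩ := exists_center_off hgen hirr hφ
  have hφw : φ ⬝ᵥ w = 0 := (h0 _ _ _ _ h h').resolve_right hψv
  have hχv : χ ⬝ᵥ v = 0 := (h0 _ _ _ _ h h'').resolve_left hφu
  have h1 : InT Γ w ((ψ ⬝ᵥ v) • φ) := h.comm h' hφw
  have hχw : χ ⬝ᵥ w = 0 := by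
    refine (h0 _ _ _ _ h1 h'').resolve_left ?_
    rw [smul_dotProduct, smul_eq_mul]
    exact mul_ne_zero hψv hφu
  exact hχ (eq_zero_of_three hχv hχw h''.incident h.incident hφw hφu h'.incident hψv hw)

/-- Two transvections with product generating a field give the whole transvection groups over this field. -/
theorem pair_full [Fintype F] (h2 : (2 : F) ≠ 0) (h : InT Γ v φ) (h' : InT Γ w ψ)
    (hα : φ ⬝ᵥ w ≠ 0) (hβ : ψ ⬝ᵥ v ≠ 0)
    (hexc : ¬ (Nat.card (gen ((φ ⬝ᵥ w) * (ψ ⬝ᵥ v))) = 9 ∧ ((φ ⬝ᵥ w) * (ψ ⬝ᵥ v)) ^ 2 = -1)) :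
    ∀ c ∈ gen ((φ ⬝ᵥ w) * (ψ ⬝ᵥ v)), InT Γ v (c • φ) ∧ InT Γ w (c • ψ) := by
  classical
  set x := (φ ⬝ᵥ w) * (ψ ⬝ᵥ v) with hxdef
  set L := gen x with hLdef
  let lam : L := ⟨x, self_mem_gen x⟩
  have hlam : lam ≠ 0 := fun e => mul_ne_zero hα hβ (congrArg Subtype.val e)
  have h2L : (2 : L) ≠ 0 := fun e => h2 (by
    rw [← map_ofNat L.subtype 2, e, map_zero])
  have hgen' : Subfield.closure ({lam} : Set L) = ⊤ := by
    refine eq_top_iff.2 fun y _ => ?_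
    have hy : (y : F) ∈ (Subfield.closure ({lam} : Set L)).map L.subtype := by
      rw [RingHom.map_field_closure, Set.image_singleton]
      exact y.2
    obtain ⟨z, hz, e⟩ := Subfield.mem_map.1 hy
    exact Subtype.ext e ▸ hz
  have htop : Subgroup.closure {g : Matrix.SpecialLinearGroup (Fin 2) L |
      (g : Matrix (Fin 2) (Fin 2) L) = !![1, 0; 1, 1] ∨ (g : Matrix (Fin 2) (Fin 2) L) = !![1, lam; 0, 1]} = ⊤ := by
    refine ((S0801.result h2L lam hlam hgen').resolve_right fun e => hexc ⟨?_, ?_⟩).1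
    · rw [← e.1, Nat.card_eq_fintype_card]
    · exact congrArg Subtype.val e.2.1
  -- scale so that the lower generator is `1`
  set β := ψ ⬝ᵥ v with hβdef
  have h'' : InT Γ (β • w) (β⁻¹ • ψ) := h'.smul_comm (mul_inv_cancel₀ hβ)
  have hw' : (β⁻¹ • ψ) ⬝ᵥ (β • w) = 0 := h''.incident
  have hα' : φ ⬝ᵥ (β • w) = x := by rw [dotProduct_smul, smul_eq_mul, mul_comm]
  have hα0 : φ ⬝ᵥ (β • w) ≠ 0 := by rw [hα']; exact mul_ne_zero hα hβ
  have hβ' : (β⁻¹ • ψ) ⬝ᵥ v = 1 := by rw [smul_dotProduct, smul_eq_mul, inv_mul_cancel₀ hβ]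
  have hβ0 : (β⁻¹ • ψ) ⬝ᵥ v ≠ 0 := by rw [hβ']; exact one_ne_zero
  let ω := (TV.block h.incident hw' hα0 hβ0).comp (Matrix.SpecialLinearGroup.map (n := Fin 2) L.subtype)
  have hup : ∀ g : Matrix.SpecialLinearGroup (Fin 2) L, g.1 1 0 = 0 ∧ g.1 0 0 = 1 ∧ g.1 1 1 = 1 →
      ω g = TV.mat v φ ((g.1 0 1 : F) * x⁻¹) := fun g hg => by
    refine (TV.block_upper h.incident hw' hα0 hβ0 ?_).trans ?_
    · simp [hg.1, hg.2.1, hg.2.2]
    · rw [hα']; simp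
  have hlo : ∀ g : Matrix.SpecialLinearGroup (Fin 2) L, g.1 0 1 = 0 ∧ g.1 0 0 = 1 ∧ g.1 1 1 = 1 →
      ω g = TV.mat (β • w) (β⁻¹ • ψ) (g.1 1 0 : F) := fun g hg => by
    refine (TV.block_lower h.incident hw' hα0 hβ0 ?_).trans ?_
    · simp [hg.1, hg.2.1, hg.2.2]
    · rw [hβ']; simp
  have hmem : ∀ g, ∃ y ∈ Γ, (y : M₃) = ω g := by
    intro g
    have hg := (htop.symm ▸ Subgroup.mem_top g : g ∈ Subgroup.closure _)
    induction hg using Subgroup.closure_induction with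
    | mem y hy =>
      rcases hy with hy | hy
      · obtain ⟨-, z, hz, e⟩ := id h''
        refine ⟨z, hz, ?_⟩
        rw [e, hlo y (by simp [hy])]
        simp [TV.mat, hy]
      · obtain ⟨-, z, hz, e⟩ := id h
        refine ⟨z, hz, ?_⟩
        rw [e, hup y (by simp [hy])]
        have hx0 : x ≠ 0 := mul_ne_zero hα hβ
        simp [TV.mat, hy, lam, hx0]
    | one => exact ⟨1, one_mem Γ, by rw [map_one, Matrix.SpecialLinearGroup.coe_one]⟩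
    | mul a b _ _ ha hb =>
      obtain ⟨y, hy, ey⟩ := ha
      obtain ⟨z, hz, ez⟩ := hb
      exact ⟨y * z, mul_mem hy hz, by rw [Matrix.SpecialLinearGroup.coe_mul, map_mul, ey, ez]⟩
    | inv a _ ha =>
      obtain ⟨y, hy, ey⟩ := ha
      refine ⟨y⁻¹, inv_mem hy, ?_⟩
      calc ((y⁻¹ : SL₃) : M₃) = ((y⁻¹ : SL₃) : M₃) * (ω a * ω a⁻¹) := by
            rw [← map_mul, mul_inv_cancel, map_one, mul_one]
        _ = _ := by rw [← mul_assoc, ← ey, ← Matrix.SpecialLinearGroup.coe_mul, inv_mul_cancel,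
            Matrix.SpecialLinearGroup.coe_one, one_mul]
  intro c hc
  refine ⟨⟨by rw [smul_dotProduct, h.incident, smul_zero], ?_⟩, ⟨by rw [smul_dotProduct, h'.incident, smul_zero], ?_⟩⟩
  · let g : Matrix.SpecialLinearGroup (Fin 2) L :=
      ⟨!![1, ⟨c, hc⟩ * lam; 0, 1], by simp [Matrix.det_fin_two]⟩
    obtain ⟨y, hy, e⟩ := hmem g
    refine ⟨y, hy, ?_⟩
    rw [e, hup g ⟨rfl, rfl, rfl⟩, show g.1 0 1 = ⟨c, hc⟩ * lam from rfl]
    have hx0 : x ≠ 0 := mul_ne_zero hα hβ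
    simp [TV.mat, Matrix.vecMulVec_smul, lam, hx0]
  · let g : Matrix.SpecialLinearGroup (Fin 2) L :=
      ⟨!![1, 0; ⟨c, hc⟩, 1], by simp [Matrix.det_fin_two]⟩
    obtain ⟨y, hy, e⟩ := hmem g
    refine ⟨y, hy, ?_⟩
    rw [e, hlo g ⟨rfl, rfl, rfl⟩, show g.1 1 0 = ⟨c, hc⟩ from rfl]
    simp [TV.mat, Matrix.vecMulVec_smul, Matrix.smul_vecMulVec, smul_smul, hβ]

end Cfsg.Agent.Classical.Bloom
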